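import Cfsg.Agent.Lib.GorensteinWalter.Four.Setting
import Cfsg.Agent.Lib.Characters.Linear
import Cfsg.Agent.Lib.H80.ClassMult

/-!
# Gorenstein–Walter, Sylow 2-subgroups of order four: the characters on the section of `t`

`nu t χ θ` is the coefficient of `θ` in `o ↦ χ (t o)` on `O = O(C(t))`.  It is an integer, the vectors
`nu t · θ` are orthogonal of square norm at most four, and a character in the support of a set of
linear characters with `G`-invariant sum lies in no other support.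
-/

set_option autoImplicit false
set_option linter.unusedSectionVars false
set_option linter.style.haveILetI false

namespace Cfsg.Agent.Lib.GorensteinWalter.Four

open Cfsg.Agent.Lib.Fusion.Dihedral Cfsg.Agent.Lib.Characters.Basic
  Cfsg.Agent.Lib.Characters.Complete Cfsg.Agent.Lib.Characters.Linear
open scoped ComplexConjugate

universe u

variable {G : Type u} [Group G] [Finite G]

/-- The coefficient of `θ` in `o ↦ χ (t o)` on `O(C(t))`. -/
noncomputable def nu (t : G) (χ : Cfsg.IrrCharacter G) (θ : Cfsg.IrrCharacter ↥(coreC t)) : ℂ :=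
  letI := Fintype.ofFinite ↥(coreC t)
  Cfsg.classInner (fun o : ↥(coreC t) => (χ : G → ℂ) (t * o)) (θ : ↥(coreC t) → ℂ)

/-- A sum over a set with a fixed-point-free symmetry is twice an integral number. -/
theorem exists_two_mul {ι : Type*} [Finite ι] (s : Finset ι) (τ : ι → ι) (f : ι → ℂ)
    (hmem : ∀ k ∈ s, τ k ∈ s) (hinv : ∀ k ∈ s, τ (τ k) = k) (hfix : ∀ k ∈ s, τ k ≠ k)
    (hf : ∀ k ∈ s, f (τ k) = f k) (hint : ∀ k ∈ s, IsIntegral ℤ (f k)) :
    ∃ I : ℂ, IsIntegral ℤ I ∧ ∑ k ∈ s, f k = 2 * I := by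
  classical
  letI := Fintype.ofFinite ι
  let e := Fintype.equivFin ι
  refine ⟨∑ k ∈ s.filter (fun k => e k < e (τ k)), f k,
    IsIntegral.sum _ fun k hk => hint k (Finset.mem_filter.1 hk).1, ?_⟩
  rw [← Finset.sum_filter_add_sum_filter_not s (fun k => e k < e (τ k)), two_mul]
  congr 1
  refine Finset.sum_nbij' τ τ ?_ ?_ ?_ ?_ ?_
  · intro k hk
    obtain ⟨hks, hlt⟩ := Finset.mem_filter.1 hk
    refine Finset.mem_filter.2 ⟨hmem k hks, ?_⟩
    rw [hinv k hks]
    exact lt_of_le_of_ne (not_lt.1 hlt) fun e' => hfix k hks (e.injective e')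
  · intro k hk
    obtain ⟨hks, hlt⟩ := Finset.mem_filter.1 hk
    refine Finset.mem_filter.2 ⟨hmem k hks, ?_⟩
    rw [hinv k hks]
    exact not_lt.2 hlt.le
  · exact fun k hk => hinv k (Finset.mem_filter.1 hk).1
  · exact fun k hk => hinv k (Finset.mem_filter.1 hk).1
  · exact fun k hk => (hf k (Finset.mem_filter.1 hk).1).symm

/-- The class sum acts on an irreducible character as a scalar. -/
theorem sum_mul_apply_mul [Fintype G] (χ : Cfsg.IrrCharacter G) {c : G → ℂ}
    (hc : Cfsg.IsClassFunction G c) (z : G) :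
    ∑ k : G, c k * (χ : G → ℂ) (z * k) =
      (χ : G → ℂ) z * ((∑ k : G, c k * (χ : G → ℂ) k) / (χ : G → ℂ) 1) := by
  have hG : (Nat.card G : ℂ) ≠ 0 := Nat.cast_ne_zero.2 Nat.card_pos.ne'
  have key : (Nat.card G : ℂ) * ∑ k : G, c k * (χ : G → ℂ) (z * k) =
      ∑ k : G, c k * ∑ p : G, (χ : G → ℂ) (z * (p * k * p⁻¹)) := by
    have h1 : ∀ p : G, ∑ k : G, c k * (χ : G → ℂ) (z * k) =
        ∑ k : G, c k * (χ : G → ℂ) (z * (p * k * p⁻¹)) := fun p =>
      (Fintype.sum_equiv (MulAut.conj p).toEquiv _ _ fun k => by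
        simp only [MulEquiv.toEquiv_eq_coe, EquivLike.coe_coe, MulAut.conj_apply, hc k p]).symm
    calc (Nat.card G : ℂ) * ∑ k : G, c k * (χ : G → ℂ) (z * k)
        = ∑ p : G, ∑ k : G, c k * (χ : G → ℂ) (z * k) := by
          rw [Finset.sum_const, Finset.card_univ, nsmul_eq_mul, Nat.card_eq_fintype_card]
      _ = ∑ p : G, ∑ k : G, c k * (χ : G → ℂ) (z * (p * k * p⁻¹)) :=
          Finset.sum_congr rfl fun p _ => h1 p
      _ = _ := by simp only [Finset.mul_sum]; exact Finset.sum_comm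
  apply mul_left_cancel₀ hG
  rw [key, Finset.sum_div, Finset.mul_sum, Finset.mul_sum]
  refine Finset.sum_congr rfl fun k _ => ?_
  rw [H80.ClassMult.sum_apply_mul_conj]
  ring

/-- Pairs of conjugates of `t` with product `z⁻¹`. -/
theorem card_pairs [Fintype G] [Fintype (Cfsg.IrrCharacter G)] (t z : G) :
    ∑ p : G, (Nat.card {q : G // z * (p * t * p⁻¹) * (q * t * q⁻¹) = 1} : ℂ) =
      (Nat.card G : ℂ) *
        ∑ χ : Cfsg.IrrCharacter G, (χ : G → ℂ) z * (χ : G → ℂ) t ^ 2 / (χ : G → ℂ) 1 := by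
  classical
  have hG : (Nat.card G : ℂ) ≠ 0 := Nat.cast_ne_zero.2 Nat.card_pos.ne'
  have h2 : ∀ χ : Cfsg.IrrCharacter G, ∑ p : G, ∑ q : G,
      (χ : G → ℂ) (z * (p * t * p⁻¹) * (q * t * q⁻¹)) =
        (Nat.card G : ℂ) ^ 2 * ((χ : G → ℂ) z * (χ : G → ℂ) t ^ 2) / (χ : G → ℂ) 1 ^ 2 := fun χ => by
    have h1 := apply_one_ne_zero χ
    simp only [H80.ClassMult.sum_apply_mul_conj, ← Finset.sum_div, ← Finset.sum_mul, ← Finset.mul_sum]
    field_simp
  apply mul_left_cancel₀ hG
  calc (Nat.card G : ℂ) * ∑ p : G, (Nat.card {q : G // z * (p * t * p⁻¹) * (q * t * q⁻¹) = 1} : ℂ)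
      = ∑ p : G, ∑ q : G, (if z * (p * t * p⁻¹) * (q * t * q⁻¹) = 1 then (Nat.card G : ℂ) else 0) := by
        rw [Finset.mul_sum]
        refine Finset.sum_congr rfl fun p _ => ?_
        rw [← Finset.sum_filter, Finset.sum_const, nsmul_eq_mul, mul_comm, Nat.card_eq_fintype_card,
          Fintype.card_subtype]
    _ = ∑ χ : Cfsg.IrrCharacter G, (χ : G → ℂ) 1 *
          ∑ p : G, ∑ q : G, (χ : G → ℂ) (z * (p * t * p⁻¹) * (q * t * q⁻¹)) := by
        simp only [Finset.mul_sum]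
        rw [Finset.sum_comm (s := (Finset.univ : Finset (Cfsg.IrrCharacter G)))]
        refine Finset.sum_congr rfl fun p _ => ?_
        rw [Finset.sum_comm]
        exact Finset.sum_congr rfl fun q _ => (sum_degree_mul_apply _).symm
    _ = _ := by
        rw [Finset.mul_sum, Finset.mul_sum]
        refine Finset.sum_congr rfl fun χ _ => ?_
        rw [h2]
        have h1 := apply_one_ne_zero χ
        field_simp

/-- The multiplicities in the two eigenspaces of a commuting involution. -/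
theorem mult_split {K : Subgroup G} [Fintype ↥K] {u : G} (hu : u * u = 1) (hc : ∀ k ∈ K, k * u = u * k)
    (χ : Cfsg.IrrCharacter G) (θ : Cfsg.IrrCharacter ↥K) :
    ∃ A B : ℕ, Cfsg.classInner (fun k : ↥K => (χ : G → ℂ) k) (θ : ↥K → ℂ) = (A : ℂ) + B ∧
      Cfsg.classInner (fun k : ↥K => (χ : G → ℂ) (u * k)) (θ : ↥K → ℂ) = (A : ℂ) - B := by
  classical
  let Z := Multiplicative (ZMod 2)
  have hu2 : ∀ n : ℕ, u ^ (n % 2) = u ^ n := fun n => by
    conv_rhs => rw [← Nat.mod_add_div n 2, pow_add, pow_mul, sq, hu, one_pow, mul_one]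
  let ι : ↥K × Z →* G := MonoidHom.noncommCoprod K.subtype
    { toFun := fun z => u ^ (Multiplicative.toAdd z).val
      map_one' := by simp
      map_mul' := fun x y => by
        rw [← pow_add, toAdd_mul, ZMod.val_add, hu2] }
    fun o z => (show Commute (o : G) u from hc o o.2).pow_right _
  let sgn : ↥K × Z →* ℂˣ :=
    { toFun := fun x => (-1) ^ (Multiplicative.toAdd x.2).val
      map_one' := by simp
      map_mul' := fun x y => by
        rw [← pow_add, Prod.snd_mul, toAdd_mul, ZMod.val_add]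
        exact Units.ext (by push_cast; exact (neg_one_pow_eq_pow_mod_two _).symm) }
  have hχ := isCharacter_comp ι (isCharacter_irr χ)
  have hθ := isCharacter_comp (MonoidHom.fst ↥K Z) (isCharacter_irr θ)
  obtain ⟨A, hA⟩ := exists_classInner_nat hχ hθ
  obtain ⟨B, hB⟩ := exists_classInner_nat hχ (isCharacter_mul hθ (isCharacter_irr (linChar sgn)))
  refine ⟨A, B, ?_⟩
  rw [← hA, ← hB]
  simp only [Cfsg.classInner, Nat.card_prod, Pi.mul_apply, Fintype.sum_prod_type, ← mul_add, ← mul_sub,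
    ← Finset.sum_add_distrib, ← Finset.sum_sub_distrib, linChar_apply]
  rw [show Nat.card Z = 2 by simp [Z, Nat.card_eq_fintype_card], Finset.mul_sum, Finset.mul_sum,
    Finset.mul_sum, Finset.mul_sum]
  have e0 : (Multiplicative.toAdd (Multiplicative.ofAdd (0 : ZMod 2))).val = 0 := rfl
  have e1 : (Multiplicative.toAdd (Multiplicative.ofAdd (1 : ZMod 2))).val = 1 := rfl
  constructor <;>
  · refine Finset.sum_congr rfl fun o _ => ?_
    have i0 : ι (o, Multiplicative.ofAdd 0) = o := by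
      show (o : G) * u ^ 0 = o
      rw [pow_zero, mul_one]
    have i1 : ι (o, Multiplicative.ofAdd 1) = u * o := by
      show (o : G) * u ^ 1 = u * o
      rw [pow_one, hc o o.2]
    rw [show (Finset.univ : Finset Z) = {Multiplicative.ofAdd 0, Multiplicative.ofAdd 1} from by decide,
      Finset.sum_pair (by decide)]
    simp only [Function.comp_apply, i0, i1, MonoidHom.coe_fst, sgn, MonoidHom.coe_mk, OneHom.coe_mk, e0, e1]
    push_cast
    simp only [pow_zero, pow_one, map_one, map_neg, map_mul]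
    field_simp
    ring

namespace Ctx

variable {t a : G} {V : Subgroup G} (h : Ctx t a V)
include h

/-- Conjugation by an element of `C(t)` on `O(C(t))`. -/
noncomputable def conjO (c : ↥(Subgroup.centralizer ({t} : Set G))) : MulAut ↥(coreC t) where
  toFun o := ⟨(c : G) * o * (c : G)⁻¹, h.conj_mem c.2 o.2⟩
  invFun o := ⟨(c : G)⁻¹ * o * (c : G)⁻¹⁻¹, h.conj_mem (inv_mem c.2) o.2⟩
  left_inv o := Subtype.ext (show (c : G)⁻¹ * ((c : G) * o * (c : G)⁻¹) * (c : G)⁻¹⁻¹ = o by group)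
  right_inv o := Subtype.ext (show (c : G) * ((c : G)⁻¹ * o * (c : G)⁻¹⁻¹) * (c : G)⁻¹ = o by group)
  map_mul' o o' := Subtype.ext (by simp only [Subgroup.coe_mul]; group)

theorem coe_conjO (c : ↥(Subgroup.centralizer ({t} : Set G))) (o : ↥(coreC t)) :
    (h.conjO c o : G) = (c : G) * o * (c : G)⁻¹ := rfl

/-- The conjugate of a character of `O` by an element of `V`. -/
noncomputable def twist (v : ↥V) (θ : Cfsg.IrrCharacter ↥(coreC t)) : Cfsg.IrrCharacter ↥(coreC t) :=
  ⟨fun o => (θ : ↥(coreC t) → ℂ) (h.conjO ⟨v, h.four_le v.2⟩ o),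
    isIrrCharacter_comp (h.conjO ⟨v, h.four_le v.2⟩).toMonoidHom (MulEquiv.surjective _) θ.2⟩

theorem tmul_pow (o : ↥(coreC t)) : (t * (o : G)) ^ Nat.card ↥(coreC t) = t := by
  obtain ⟨k, hk⟩ := coreC_odd t
  rw [(show Commute t (o : G) from (h.core_comm o.2).symm).mul_pow, ← Subgroup.coe_pow, pow_card_eq_one',
    Subgroup.coe_one, mul_one, hk, pow_succ, pow_mul, sq, h.t_sq, one_pow, one_mul]

theorem tmul_ne_one (o : ↥(coreC t)) : t * (o : G) ≠ 1 := fun e => h.t_ne_one (by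
  rw [← h.tmul_pow o, e, one_pow])

theorem isClassFunction_section (χ : Cfsg.IrrCharacter G) :
    Cfsg.IsClassFunction ↥(coreC t) (fun o : ↥(coreC t) => (χ : G → ℂ) (t * o)) := by
  intro o p
  refine (classFunction_apply_of_isConj (isClassFunction_irr χ) ?_).symm
  refine isConj_iff.2 ⟨p, ?_⟩
  simp only [Subgroup.coe_mul, Subgroup.coe_inv]
  calc (p : G) * (t * o) * (p : G)⁻¹ = (p * t) * o * (p : G)⁻¹ := by group
    _ = t * ((p : G) * o * (p : G)⁻¹) := by rw [h.core_comm p.2]; group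

theorem nu_int (χ : Cfsg.IrrCharacter G) (θ : Cfsg.IrrCharacter ↥(coreC t)) :
    ∃ z : ℤ, nu t χ θ = z := by
  letI := Fintype.ofFinite ↥(coreC t)
  obtain ⟨A, B, -, hB⟩ := mult_split h.t_sq (fun o (ho : o ∈ coreC t) => h.core_comm ho) χ θ
  exact ⟨(A : ℤ) - B, by rw [nu, hB]; push_cast; rfl⟩

theorem nu_conj (χ : Cfsg.IrrCharacter G) (θ : Cfsg.IrrCharacter ↥(coreC t)) :
    conj (nu t χ θ) = nu t χ θ := by
  obtain ⟨z, hz⟩ := h.nu_int χ θ
  rw [hz, map_intCast]

theorem apply_tmul [Fintype (Cfsg.IrrCharacter ↥(coreC t))] (χ : Cfsg.IrrCharacter G) (o : ↥(coreC t)) :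
    (χ : G → ℂ) (t * o) = ∑ θ, nu t χ θ * (θ : ↥(coreC t) → ℂ) o := by
  letI := Fintype.ofFinite ↥(coreC t)
  have := congrFun (classFunction_eq_sum (h.isClassFunction_section χ)) o
  simpa [nu, Finset.sum_apply] using this

/-- Column orthogonality on the section. -/
theorem column [Fintype (Cfsg.IrrCharacter G)] (o o' : ↥(coreC t)) :
    ∑ χ : Cfsg.IrrCharacter G, (χ : G → ℂ) (t * o) * conj ((χ : G → ℂ) (t * o')) =
      (Nat.card {c : ↥(Subgroup.centralizer ({t} : Set G)) // h.conjO c o = o'} : ℂ) := by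
  classical
  have hmem : ∀ p : G, p * (t * o) * p⁻¹ = t * (o' : G) →
      p ∈ Subgroup.centralizer ({t} : Set G) ∧ p * (o : G) * p⁻¹ = o' := by
    intro p hp
    have hpt : p * t * p⁻¹ = t := by
      have := congrArg (fun x => x ^ Nat.card ↥(coreC t)) hp
      simpa only [conj_pow, h.tmul_pow] using this
    refine ⟨Subgroup.mem_centralizer_singleton_iff.2 (mul_inv_eq_iff_eq_mul.1 hpt), ?_⟩
    calc p * (o : G) * p⁻¹ = (p * t * p⁻¹)⁻¹ * (p * (t * o) * p⁻¹) := by group
      _ = o' := by rw [hpt, hp, inv_mul_cancel_left]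
  rw [sum_irr_mul_conj]
  split_ifs with hconj
  · obtain ⟨p, hp⟩ := isConj_iff.1 hconj
    congr 1
    refine Nat.card_congr
      { toFun := fun x => ⟨⟨p * x, (hmem (p * x) ?_).1⟩, Subtype.ext (hmem (p * x) ?_).2⟩
        invFun := fun c => ⟨p⁻¹ * (c.1 : G), ?_⟩
        left_inv := fun x => Subtype.ext (inv_mul_cancel_left _ _)
        right_inv := fun c => Subtype.ext (Subtype.ext (mul_inv_cancel_left _ _)) }
    · calc p * x * (t * o) * (p * x)⁻¹ = p * ((x : G) * (t * o) * (x : G)⁻¹) * p⁻¹ := by group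
        _ = t * o' := by
          rw [Subgroup.mem_centralizer_singleton_iff.1 x.2, mul_inv_cancel_right, hp]
    · calc p * x * (t * o) * (p * x)⁻¹ = p * ((x : G) * (t * o) * (x : G)⁻¹) * p⁻¹ := by group
        _ = t * o' := by
          rw [Subgroup.mem_centralizer_singleton_iff.1 x.2, mul_inv_cancel_right, hp]
    · rw [Subgroup.mem_centralizer_singleton_iff]
      have hc : (c.1 : G) * (t * o) * (c.1 : G)⁻¹ = t * o' := by
        calc (c.1 : G) * (t * o) * (c.1 : G)⁻¹ = (c.1 : G) * t * ((o : G) * (c.1 : G)⁻¹) := by group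
          _ = t * ((c.1 : G) * o * (c.1 : G)⁻¹) := by
            rw [Subgroup.mem_centralizer_singleton_iff.1 c.1.2]; group
          _ = t * o' := by rw [← h.coe_conjO c.1 o, c.2]
      rw [← hp] at hc
      calc p⁻¹ * (c.1 : G) * (t * o) = p⁻¹ * ((c.1 : G) * (t * o) * (c.1 : G)⁻¹) * c.1 := by group
        _ = t * o * (p⁻¹ * c.1) := by rw [hc]; group
  · rw [Nat.card_eq_zero.2 (Or.inl ⟨fun c => hconj (isConj_iff.2 ⟨(c.1 : G), ?_⟩)⟩), Nat.cast_zero]
    calc (c.1 : G) * (t * o) * (c.1 : G)⁻¹ = (c.1 : G) * t * ((o : G) * (c.1 : G)⁻¹) := by group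
      _ = t * ((c.1 : G) * o * (c.1 : G)⁻¹) := by
        rw [Subgroup.mem_centralizer_singleton_iff.1 c.1.2]; group
      _ = t * o' := by rw [← h.coe_conjO c.1 o, c.2]

/-- Orthogonality of the coefficient vectors. -/
theorem sum_nu_mul [Fintype (Cfsg.IrrCharacter G)] (θ η : Cfsg.IrrCharacter ↥(coreC t)) :
    ∑ χ : Cfsg.IrrCharacter G, nu t χ θ * nu t χ η =
      (Nat.card {v : ↥V // h.twist v η = θ} : ℂ) := by
  classical
  letI := Fintype.ofFinite ↥(coreC t)
  letI := Fintype.ofFinite ↥V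
  letI := Fintype.ofFinite ↥(Subgroup.centralizer ({t} : Set G))
  have hm : (Nat.card ↥(coreC t) : ℂ) ≠ 0 := Nat.cast_ne_zero.2 Nat.card_pos.ne'
  set m := (Nat.card ↥(coreC t) : ℂ) with hmdef
  have hmc : conj m = m := Complex.conj_natCast _
  set T : ↥(coreC t) → ℂ := fun o =>
    ∑ c : ↥(Subgroup.centralizer ({t} : Set G)), (η : ↥(coreC t) → ℂ) (h.conjO c o) with hT
  have h1 : ∑ χ : Cfsg.IrrCharacter G, nu t χ θ * nu t χ η =
      m⁻¹ * m⁻¹ * ∑ o : ↥(coreC t), conj ((θ : ↥(coreC t) → ℂ) o) * T o := by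
    have e : ∀ χ : Cfsg.IrrCharacter G, nu t χ θ * nu t χ η = m⁻¹ * m⁻¹ *
        ∑ o : ↥(coreC t), ∑ o' : ↥(coreC t), conj ((θ : ↥(coreC t) → ℂ) o) *
          ((η : ↥(coreC t) → ℂ) o') * ((χ : G → ℂ) (t * o) * conj ((χ : G → ℂ) (t * o'))) := by
      intro χ
      conv_lhs => arg 2; rw [← h.nu_conj χ η]
      simp only [nu, Cfsg.classInner, map_mul, map_inv₀, map_sum, Complex.conj_conj, hmc, ← hmdef]
      rw [mul_mul_mul_comm, Finset.sum_mul_sum]
      congr 1
      exact Finset.sum_congr rfl fun o _ => Finset.sum_congr rfl fun o' _ => by ring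
    simp only [e, ← Finset.mul_sum]
    congr 1
    rw [Finset.sum_comm]
    refine Finset.sum_congr rfl fun o _ => ?_
    rw [Finset.sum_comm]
    simp only [← Finset.mul_sum, h.column, hT]
    conv_rhs => rw [Finset.mul_sum]
    rw [← Finset.sum_fiberwise (Finset.univ : Finset ↥(Subgroup.centralizer ({t} : Set G)))
      (fun c => h.conjO c o) fun c => conj ((θ : ↥(coreC t) → ℂ) o) * (η : ↥(coreC t) → ℂ) (h.conjO c o)]
    refine Finset.sum_congr rfl fun o' _ => ?_
    rw [Finset.sum_congr rfl fun c hc => by rw [(Finset.mem_filter.1 hc).2], Finset.sum_const,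
      nsmul_eq_mul, Nat.card_eq_fintype_card, Fintype.card_subtype]
    ring
  have h2 : ∀ o, T o = m * ∑ v : ↥V, (h.twist v η : ↥(coreC t) → ℂ) o := by
    intro o
    rw [hT]
    simp only
    rw [← h.equivProd.sum_comp, Fintype.sum_prod_type, Finset.sum_comm, Finset.mul_sum]
    refine Finset.sum_congr rfl fun v _ => ?_
    rw [Finset.sum_congr rfl fun p _ => ?_, Finset.sum_const, nsmul_eq_mul, Finset.card_univ, hmdef,
      Nat.card_eq_fintype_card]
    have e : h.conjO (h.equivProd (p, v)) o = p * h.conjO ⟨v, h.four_le v.2⟩ o * p⁻¹ :=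
      Subtype.ext (by simp only [h.coe_conjO, h.equivProd_apply, Subgroup.coe_mul, Subgroup.coe_inv]; group)
    rw [e]
    exact isClassFunction_irr η _ p
  rw [h1, Nat.card_eq_fintype_card, Fintype.card_subtype, ← Finset.sum_boole]
  simp only [h2, Finset.mul_sum]
  rw [Finset.sum_comm]
  refine Finset.sum_congr rfl fun v _ => ?_
  rw [← classInner_irr (h.twist v η) θ, Cfsg.classInner, ← hmdef, Finset.mul_sum]
  exact Finset.sum_congr rfl fun o _ => by field_simp

theorem sum_degree_mul_nu [Fintype (Cfsg.IrrCharacter G)] (θ : Cfsg.IrrCharacter ↥(coreC t)) :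
    ∑ χ : Cfsg.IrrCharacter G, (χ : G → ℂ) 1 * nu t χ θ = 0 := by
  classical
  letI := Fintype.ofFinite ↥(coreC t)
  simp only [nu, Cfsg.classInner, Finset.mul_sum]
  rw [Finset.sum_comm]
  refine Finset.sum_eq_zero fun o _ => ?_
  have := sum_degree_mul_apply (t * (o : G))
  rw [if_neg (h.tmul_ne_one o)] at this
  calc _ = (Nat.card ↥(coreC t) : ℂ)⁻¹ * conj ((θ : ↥(coreC t) → ℂ) o) *
        ∑ χ : Cfsg.IrrCharacter G, (χ : G → ℂ) 1 * (χ : G → ℂ) (t * o) := by
        rw [Finset.mul_sum]; exact Finset.sum_congr rfl fun χ _ => by ring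
    _ = 0 := by rw [this, mul_zero]

/-- The coefficients are `0`, `1` or `-1`. -/
theorem nu_cases (χ : Cfsg.IrrCharacter G) (θ : Cfsg.IrrCharacter ↥(coreC t)) :
    nu t χ θ = 0 ∨ nu t χ θ = 1 ∨ nu t χ θ = -1 := by
  classical
  letI := Fintype.ofFinite (Cfsg.IrrCharacter G)
  choose z hz using fun ξ => h.nu_int ξ θ
  have hle : Nat.card {v : ↥V // h.twist v θ = θ} ≤ 4 :=
    h.four.1 ▸ Finite.card_subtype_le _
  have hs : ∑ ξ, z ξ * z ξ = (Nat.card {v : ↥V // h.twist v θ = θ} : ℤ) := by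
    have := h.sum_nu_mul θ θ
    simp only [hz] at this
    exact_mod_cast this
  have hsum : z χ * z χ + ∑ ξ ∈ Finset.univ.erase χ, z ξ * z ξ ≤ 4 := by
    have := Finset.add_sum_erase Finset.univ (fun ξ => z ξ * z ξ) (Finset.mem_univ χ)
    rw [this, hs]
    exact_mod_cast hle
  have hpos : 0 ≤ ∑ ξ ∈ Finset.univ.erase χ, z ξ * z ξ :=
    Finset.sum_nonneg fun ξ _ => mul_self_nonneg _
  have hlo : -2 ≤ z χ := by nlinarith
  have hhi : z χ ≤ 2 := by nlinarith
  rw [hz]
  rcases (show z χ = 0 ∨ z χ = 1 ∨ z χ = -1 ∨ z χ * z χ = 4 by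
    interval_cases (z χ) <;> simp) with e | e | e | e
  · left; simp [e]
  · right; left; simp [e]
  · right; right; simp [e]
  exfalso
  have h0 : ∀ ξ ∈ Finset.univ.erase χ, z ξ * z ξ = 0 :=
    (Finset.sum_eq_zero_iff_of_nonneg fun ξ _ => mul_self_nonneg _).1 (by omega)
  have hd := h.sum_degree_mul_nu θ
  rw [Finset.sum_eq_single χ (fun ξ _ hne => by
      rw [hz, mul_self_eq_zero.1 (h0 ξ (Finset.mem_erase.2 ⟨hne, Finset.mem_univ _⟩))]; simp)
    (fun hn => absurd (Finset.mem_univ χ) hn)] at hd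
  rcases mul_eq_zero.1 hd with e1 | e1
  · exact apply_one_ne_zero χ e1
  · rw [hz, Int.cast_eq_zero] at e1
    rw [e1] at e
    norm_num at e

/-- A character with a nonzero coefficient at a member of `Φ` has none outside, if the sum of `Φ` is
invariant under fusion in `G`. -/
theorem nu_eq_zero_of_separated (Φ : Finset (↥(coreC t) →* ℂˣ))
    (hfus : ∀ o o' : ↥(coreC t), IsConj (o : G) o' →
      ∑ φ ∈ Φ, conj (φ o : ℂ) = ∑ φ ∈ Φ, conj (φ o' : ℂ))
    {χ : Cfsg.IrrCharacter G} {φ₀ : ↥(coreC t) →* ℂˣ} (hφ : φ₀ ∈ Φ)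
    (hn : nu t χ (linChar φ₀) ≠ 0) {η : Cfsg.IrrCharacter ↥(coreC t)}
    (hη : ∀ φ ∈ Φ, linChar φ ≠ η) : nu t χ η = 0 := by
  classical
  by_contra hne
  letI := Fintype.ofFinite G
  letI := Fintype.ofFinite ↥(coreC t)
  letI := Fintype.ofFinite (Cfsg.IrrCharacter ↥(coreC t))
  set m := (Nat.card ↥(coreC t) : ℂ) with hmdef
  have hm : m ≠ 0 := Nat.cast_ne_zero.2 Nat.card_pos.ne'
  let c : ↥(coreC t) → ℂ := fun o => ∑ φ ∈ Φ, conj (φ o : ℂ)
  have hcint : ∀ o, IsIntegral ℤ (c o) := fun o => IsIntegral.sum _ fun φ _ =>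
    Characters.Degree.isIntegral_conj (isIntegral_apply (isCharacter_irr (linChar φ)) o)
  let cG : G → ℂ := fun k => if hk : ∃ o : ↥(coreC t), IsConj (o : G) k then c hk.choose else 0
  have hcG : ∀ o : ↥(coreC t), cG o = c o := fun o => by
    have hk : ∃ o' : ↥(coreC t), IsConj (o' : G) o := ⟨o, IsConj.refl _⟩
    show dite _ _ _ = _
    rw [dif_pos hk]
    exact hfus _ _ hk.choose_spec
  have hcl : Cfsg.IsClassFunction G cG := by
    intro k p
    have hkp : IsConj k (p * k * p⁻¹) := isConj_iff.2 ⟨p, rfl⟩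
    by_cases hk : ∃ o : ↥(coreC t), IsConj (o : G) k
    · have hk' : ∃ o : ↥(coreC t), IsConj (o : G) (p * k * p⁻¹) :=
        hk.imp fun o ho => ho.trans hkp
      show dite _ _ _ = dite _ _ _
      rw [dif_pos hk, dif_pos hk']
      exact hfus _ _ (hk'.choose_spec.trans (hk.choose_spec.trans hkp).symm)
    · have hk' : ¬ ∃ o : ↥(coreC t), IsConj (o : G) (p * k * p⁻¹) :=
        fun ⟨o, ho⟩ => hk ⟨o, ho.trans hkp.symm⟩
      show dite _ _ _ = dite _ _ _
      rw [dif_neg hk, dif_neg hk']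
  set ω := (∑ k : G, cG k * (χ : G → ℂ) k) / (χ : G → ℂ) 1
  -- outside `O` the elements come in pairs
  let R : Finset G := Finset.univ.filter fun k => cG k ≠ 0 ∧ k ∉ coreC t
  have hI : ∀ o : ↥(coreC t), ∃ I : ℂ, IsIntegral ℤ I ∧
      ∑ k ∈ R, cG k * (χ : G → ℂ) (t * o * k) = 2 * I := by
    intro o
    have hsym : ∀ k, cG (t * k * t) = cG k := fun k => by
      conv_lhs => arg 1; arg 2; rw [← h.t_inv]
      exact hcl k t
    have hcmt : ∀ k : G, t * (t * k * t) = k * t := fun k => by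
      rw [← mul_assoc, ← mul_assoc, h.t_sq, one_mul]
    refine exists_two_mul R (fun k => t * k * t) _ ?_ ?_ ?_ ?_ ?_
    · intro k hk
      obtain ⟨hk0, hkO⟩ := (Finset.mem_filter.1 hk).2
      refine Finset.mem_filter.2 ⟨Finset.mem_univ _, by rwa [hsym], fun hmem => hkO ?_⟩
      have := h.conj_mem (h.four_le h.t_mem) hmem
      rwa [h.t_inv, hcmt, mul_assoc, h.t_sq, mul_one] at this
    · intro k _
      show t * (t * k * t) * t = k
      rw [hcmt, mul_assoc, h.t_sq, mul_one]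
    · intro k hk hfix
      obtain ⟨hk0, hkO⟩ := (Finset.mem_filter.1 hk).2
      have hex : ∃ o : ↥(coreC t), IsConj (o : G) k := by
        by_contra hno
        exact hk0 (dif_neg hno)
      obtain ⟨o', ho'⟩ := hex
      obtain ⟨q, hq⟩ := isConj_iff.1 ho'
      refine hkO (h.hyp.mem_coreC h.t_two (Subgroup.mem_centralizer_singleton_iff.2 ?_) ?_)
      · conv_lhs => rw [← hfix]
        rw [mul_assoc, h.t_sq, mul_one]
      · rw [← hq, ← MulAut.conj_apply, MulEquiv.orderOf_eq (MulAut.conj q) (o' : G)]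
        exact orderOf_odd_of_mem (coreC_odd t) o'.2
    · intro k _
      show cG (t * k * t) * (χ : G → ℂ) (t * o * (t * k * t)) = cG k * (χ : G → ℂ) (t * o * k)
      rw [hsym]
      congr 1
      refine classFunction_apply_of_isConj (isClassFunction_irr χ) (isConj_iff.2 ⟨t, ?_⟩)
      calc t * (t * o * (t * k * t)) * t⁻¹ = (t * t) * o * t * k * (t * t⁻¹) := by group
        _ = t * o * k := by rw [h.t_sq, one_mul, mul_inv_cancel, mul_one, h.core_comm o.2]
    · intro k _
      by_cases hex : ∃ o' : ↥(coreC t), IsConj (o' : G) k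
      · show IsIntegral ℤ (dite _ _ _ * _)
        rw [dif_pos hex]
        exact (hcint _).mul (isIntegral_apply (isCharacter_irr χ) _)
      · show IsIntegral ℤ (dite _ _ _ * _)
        rw [dif_neg hex, zero_mul]
        exact isIntegral_zero
  choose I hIint hIeq using hI
  let W : Cfsg.IrrCharacter ↥(coreC t) → ℂ := fun ξ =>
    (∑ o' : ↥(coreC t), c o' * (ξ : ↥(coreC t) → ℂ) o') / (ξ : ↥(coreC t) → ℂ) 1
  have hcO : Cfsg.IsClassFunction ↥(coreC t) c := fun o p => (hfus o (p * o * p⁻¹)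
    (isConj_iff.2 ⟨(p : G), by simp⟩)).symm
  have hT : ∀ o : ↥(coreC t),
      (χ : G → ℂ) (t * o) * ω = ∑ ξ, nu t χ ξ * W ξ * (ξ : ↥(coreC t) → ℂ) o + 2 * I o := by
    intro o
    rw [← sum_mul_apply_mul χ hcl, ← hIeq o]
    rw [← Finset.sum_filter_add_sum_filter_not Finset.univ (fun k : G => k ∈ coreC t)]
    congr 1
    · rw [Finset.sum_subtype (p := fun k => k ∈ coreC t) _ (by simp)
        (fun k => cG k * (χ : G → ℂ) (t * o * k))]
      have e : ∀ o' : ↥(coreC t), cG (o' : G) * (χ : G → ℂ) (t * o * o') =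
          ∑ ξ, nu t χ ξ * (c o' * (ξ : ↥(coreC t) → ℂ) (o * o')) := fun o' => by
        rw [hcG, mul_assoc t, ← Subgroup.coe_mul, h.apply_tmul, Finset.mul_sum]
        exact Finset.sum_congr rfl fun ξ _ => by ring
      simp only [e]
      rw [Finset.sum_comm]
      refine Finset.sum_congr rfl fun ξ _ => ?_
      rw [← Finset.mul_sum, sum_mul_apply_mul ξ hcO]
      ring
    · refine (Finset.sum_subset (fun k hk => Finset.mem_filter.2 ⟨Finset.mem_univ _, (Finset.mem_filter.1 hk).2.2⟩)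
        fun k hk hkR => ?_).symm
      have hk0 : cG k = 0 := by
        by_contra hk0
        exact hkR (Finset.mem_filter.2 ⟨Finset.mem_univ _, hk0, (Finset.mem_filter.1 hk).2⟩)
      rw [hk0, zero_mul]
  have hJ : ∀ ξ : Cfsg.IrrCharacter ↥(coreC t), ∃ J : ℂ, IsIntegral ℤ J ∧
      m * (nu t χ ξ * (ω - W ξ)) = 2 * J := by
    intro ξ
    refine ⟨∑ o : ↥(coreC t), I o * conj ((ξ : ↥(coreC t) → ℂ) o), IsIntegral.sum _ fun o _ =>
      (hIint o).mul (Characters.Degree.isIntegral_conj (isIntegral_apply (isCharacter_irr ξ) o)), ?_⟩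
    have h1 : Cfsg.classInner (fun o : ↥(coreC t) => (χ : G → ℂ) (t * o) * ω)
        (ξ : ↥(coreC t) → ℂ) = nu t χ ξ * ω := by
      simp only [nu, Cfsg.classInner, Finset.mul_sum, Finset.sum_mul]
      exact Finset.sum_congr rfl fun o _ => by ring
    have h2 := classInner_irr_sum (fun ζ => nu t χ ζ * W ζ) ξ
    simp only [hT, Cfsg.classInner, add_mul, Finset.sum_add_distrib, mul_add] at h1
    simp only [Cfsg.classInner, Finset.sum_apply, Pi.smul_apply, smul_eq_mul] at h2
    rw [h2] at h1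
    rw [mul_sub, ← h1, add_sub_cancel_left, ← mul_assoc, ← hmdef, mul_inv_cancel₀ hm, one_mul,
      Finset.mul_sum]
    exact Finset.sum_congr rfl fun o _ => by ring
  -- the two weights
  have hW : ∀ ξ : Cfsg.IrrCharacter ↥(coreC t), ∑ o' : ↥(coreC t), c o' * (ξ : ↥(coreC t) → ℂ) o' =
      ∑ φ ∈ Φ, m * Cfsg.classInner (ξ : ↥(coreC t) → ℂ) (linChar φ) := by
    intro ξ
    simp only [c, Cfsg.classInner, Finset.sum_mul]
    rw [Finset.sum_comm]
    refine Finset.sum_congr rfl fun φ _ => ?_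
    rw [← mul_assoc, ← hmdef, mul_inv_cancel₀ hm, one_mul]
    exact Finset.sum_congr rfl fun o _ => by rw [linChar_apply, mul_comm]
  have hWη : W η = 0 := by
    show _ / _ = _
    rw [hW, Finset.sum_eq_zero (fun φ hφ' => by
      rw [classInner_irr_of_ne (hη φ hφ').symm, mul_zero]), zero_div]
  have hWφ : W (linChar φ₀) = m := by
    show _ / _ = _
    rw [hW, Finset.sum_eq_single φ₀ (fun φ _ hne' => by
        rw [classInner_irr_of_ne (fun e => hne' (linChar_injective e).symm), mul_zero])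
      (fun h0 => absurd hφ h0), classInner_self_irr, mul_one]
    rw [linChar_apply, map_one, Units.val_one, div_one]
  obtain ⟨Jη, hJη, eη⟩ := hJ η
  obtain ⟨Jφ, hJφ, eφ⟩ := hJ (linChar φ₀)
  obtain ⟨zη, hzη⟩ := h.nu_int χ η
  obtain ⟨zφ, hzφ⟩ := h.nu_int χ (linChar φ₀)
  have sqη : nu t χ η * nu t χ η = 1 := by
    rcases h.nu_cases χ η with e | e | e
    · exact absurd e hne
    all_goals rw [e]; norm_num
  have sqφ : nu t χ (linChar φ₀) * nu t χ (linChar φ₀) = 1 := by
    rcases h.nu_cases χ (linChar φ₀) with e | e | e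
    · exact absurd e hn
    all_goals rw [e]; norm_num
  have hmm : m * m = 2 * (nu t χ η * Jη - nu t χ (linChar φ₀) * Jφ) := by
    rw [hWη, sub_zero] at eη
    rw [hWφ] at eφ
    linear_combination nu t χ η * eη - nu t χ (linChar φ₀) * eφ - m * ω * sqη + m * (ω - m) * sqφ
  have hint : IsIntegral ℤ (((Nat.card ↥(coreC t) * Nat.card ↥(coreC t) : ℕ) : ℂ) / 2) := by
    rw [Nat.cast_mul, ← hmdef, hmm, mul_div_cancel_left₀ _ two_ne_zero, hzη, hzφ]
    exact ((isIntegral_algebraMap (R := ℤ) (x := zη)).mul hJη).sub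
      ((isIntegral_algebraMap (R := ℤ) (x := zφ)).mul hJφ)
  have hq : IsIntegral ℤ (((Nat.card ↥(coreC t) * Nat.card ↥(coreC t) : ℕ) : ℚ) / 2) :=
    (isIntegral_algebraMap_iff (FaithfulSMul.algebraMap_injective ℚ ℂ)).mp (by simpa using hint)
  obtain ⟨z, hz⟩ := (IsIntegrallyClosed.isIntegral_iff (R := ℤ) (K := ℚ)).mp hq
  rw [eq_div_iff two_ne_zero, algebraMap_int_eq, eq_intCast] at hz
  have hz' : z * 2 = ((Nat.card ↥(coreC t) * Nat.card ↥(coreC t) : ℕ) : ℤ) := by exact_mod_cast hz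
  obtain ⟨k, hk⟩ := (coreC_odd t).mul (coreC_odd t)
  omega

/-! ## Counting pairs of involutions -/

/-- The weighted count. -/
theorem count [Fintype (Cfsg.IrrCharacter G)] (φ : ↥(coreC t) →* ℂˣ)
    (hφ : ∀ i ∈ invSet t a, φ i = 1) :
    (Nat.card G : ℂ) * (Nat.card ↥(coreV V) : ℂ) ^ 2 *
      ∑ χ : Cfsg.IrrCharacter G, nu t χ (linChar φ) * (χ : G → ℂ) t ^ 2 / (χ : G → ℂ) 1 =
      32 * (Nat.card ↥(coreC t) : ℂ) ^ 3 := by
  classical
  letI := Fintype.ofFinite G
  letI := Fintype.ofFinite ↥(coreC t)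
  set m := (Nat.card ↥(coreC t) : ℂ) with hmdef
  have hm : m ≠ 0 := Nat.cast_ne_zero.2 Nat.card_pos.ne'
  set C := Subgroup.centralizer ({t} : Set G) with hC
  have hone : ∀ u : G, orderOf u = 2 → ∃ p : G, p * t * p⁻¹ = u := fun u hu =>
    isConj_iff.1 (h.hyp.isConj h.t_two hu)
  have hfib : ∀ u : G, orderOf u = 2 → Nat.card {q : G // q * t * q⁻¹ = u} = Nat.card ↥C := by
    intro u hu
    obtain ⟨p, hp⟩ := hone u hu
    refine Nat.card_congr
      { toFun := fun q => ⟨p⁻¹ * q.1, ?_⟩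
        invFun := fun k => ⟨p * k.1, ?_⟩
        left_inv := fun q => Subtype.ext (mul_inv_cancel_left _ _)
        right_inv := fun k => Subtype.ext (inv_mul_cancel_left _ _) }
    · rw [Subgroup.mem_centralizer_singleton_iff]
      calc p⁻¹ * q.1 * t = p⁻¹ * (q.1 * t * q.1⁻¹) * q.1 := by group
        _ = p⁻¹ * (p * t * p⁻¹) * q.1 := by rw [q.2, hp]
        _ = t * (p⁻¹ * q.1) := by group
    · calc p * k.1 * t * (p * k.1)⁻¹ = p * (k.1 * t) * k.1⁻¹ * p⁻¹ := by group
        _ = p * t * p⁻¹ := by rw [Subgroup.mem_centralizer_singleton_iff.1 k.2]; group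
        _ = u := hp
  have hord : ∀ p : G, orderOf (p * t * p⁻¹) = 2 := fun p => by
    rw [← MulAut.conj_apply, MulEquiv.orderOf_eq (MulAut.conj p) t, h.t_two]
  -- involutions completing a product
  let U : ↥(coreC t) → G → Prop := fun o u =>
    orderOf u = 2 ∧ u ∈ C ∧ u ≠ t ∧ u * (o : G) * u⁻¹ = (o : G)⁻¹
  have hU : ∀ (o : ↥(coreC t)) (u : G), orderOf u = 2 →
      (U o u ↔ orderOf (t * (o : G) * u) = 2) := by
    intro o u hu
    have huu : u * u = 1 := by rw [← sq, ← hu, pow_orderOf_eq_one]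
    have hui : u⁻¹ = u := inv_eq_of_mul_eq_one_right huu
    constructor
    · rintro ⟨-, huC, hut, huo⟩
      have hut' := Subgroup.mem_centralizer_singleton_iff.1 huC
      refine orderOf_eq_prime ?_ fun e => hut ?_
      · calc (t * (o : G) * u) ^ 2 = t * o * (u * t) * (o * u⁻¹) := by rw [sq, hui]; group
          _ = t * (o * t) * (u * o * u⁻¹) := by rw [hut']; group
          _ = 1 := by rw [h.core_comm o.2, huo, ← mul_assoc, h.t_sq, one_mul, mul_inv_cancel]
      · have e1 : t * (o : G) = u := by rw [eq_inv_of_mul_eq_one_left e, hui]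
        have e2 := h.tmul_pow o
        obtain ⟨k, hk⟩ := coreC_odd t
        rw [e1, hk, pow_succ, pow_mul, sq, huu, one_pow, one_mul] at e2
        exact e2
    · intro hz
      have hzz : t * (o : G) * u * (t * o * u) = 1 := by rw [← sq, ← hz, pow_orderOf_eq_one]
      have hconj : u * (t * o) * u⁻¹ = (t * (o : G))⁻¹ := by
        rw [hui]
        calc u * (t * o) * u = (t * (o : G))⁻¹ * (t * o * u * (t * o * u)) := by group
          _ = (t * (o : G))⁻¹ := by rw [hzz, mul_one]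
      have hut' : u * t * u⁻¹ = t := by
        have := congrArg (fun x => x ^ Nat.card ↥(coreC t)) hconj
        simpa only [conj_pow, inv_pow, h.tmul_pow, h.t_inv] using this
      have huo : u * (o : G) * u⁻¹ = (o : G)⁻¹ := by
        calc u * (o : G) * u⁻¹ = (u * t * u⁻¹)⁻¹ * (u * (t * o) * u⁻¹) := by group
          _ = t⁻¹ * ((o : G)⁻¹ * t⁻¹) := by rw [hut', hconj, mul_inv_rev]
          _ = (o : G)⁻¹ := by
            rw [h.t_inv, h.core_comm (inv_mem o.2), ← mul_assoc, h.t_sq, one_mul]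
      refine ⟨hu, Subgroup.mem_centralizer_singleton_iff.2 (mul_inv_eq_iff_eq_mul.1 hut'), ?_, huo⟩
      rintro rfl
      rw [← h.core_comm o.2, mul_inv_cancel_right] at huo
      have ho1 : o = 1 := h.eq_one_of_sq (mul_eq_one_iff_eq_inv.2 huo)
      rw [ho1, Subgroup.coe_one, mul_one, h.t_sq, orderOf_one] at hz
      omega
  have hNo : ∀ o : ↥(coreC t),
      ∑ p : G, (Nat.card {q : G // t * o * (p * t * p⁻¹) * (q * t * q⁻¹) = 1} : ℂ) =
        (Nat.card ↥C : ℂ) ^ 2 * (Nat.card {u : G // U o u} : ℂ) := by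
    intro o
    have e : ∀ p : G, Nat.card {q : G // t * o * (p * t * p⁻¹) * (q * t * q⁻¹) = 1} =
        if U o (p * t * p⁻¹) then Nat.card ↥C else 0 := by
      intro p
      split_ifs with hu
      · have h2 := (hU o _ (hord p)).1 hu
        rw [← hfib (t * o * (p * t * p⁻¹))⁻¹ (by rw [orderOf_inv, h2])]
        exact Nat.card_congr (Equiv.subtypeEquivRight fun q =>
          ⟨fun e => eq_inv_of_mul_eq_one_right e, fun e => by rw [e, mul_inv_cancel]⟩)
      · refine Nat.card_eq_zero.2 (Or.inl ⟨fun q => hu ((hU o _ (hord p)).2 ?_)⟩)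
        rw [eq_inv_of_mul_eq_one_left q.2, orderOf_inv, hord]
    simp only [e]
    push_cast
    rw [← Finset.sum_filter, Finset.sum_const, nsmul_eq_mul]
    rw [Nat.card_eq_fintype_card (α := {u : G // U o u}), Fintype.card_subtype,
      Finset.card_eq_sum_card_fiberwise (f := fun p : G => p * t * p⁻¹)
        (t := Finset.univ.filter fun u : G => U o u)
        (fun p hp => Finset.mem_filter.2 ⟨Finset.mem_univ _, (Finset.mem_filter.1 hp).2⟩),
      Finset.sum_congr rfl (g := fun _ => Nat.card ↥C) fun u hu => ?_, Finset.sum_const, smul_eq_mul]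
    · push_cast; ring
    · have hu' := (Finset.mem_filter.1 hu).2
      rw [← hfib u hu'.1, Nat.card_eq_fintype_card, Fintype.card_subtype, Finset.filter_filter]
      congr 1
      ext p
      simp only [Finset.mem_filter, Finset.mem_univ, true_and]
      exact ⟨fun hh => hh.2, fun hh => ⟨hh ▸ hu', hh⟩⟩
  -- the pairs
  letI := Fintype.ofFinite ↥(invSet t a)
  have hpair : ∑ o : ↥(coreC t), conj (φ o : ℂ) * (Nat.card {u : G // U o u} : ℂ) =
      2 * (Nat.card ↥(invSet t a) : ℂ) ^ 2 := by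
    have hV2 : Nat.card {v : G // v ∈ V ∧ v ≠ 1 ∧ v ≠ t} = 2 := by
      have hset : {v : G | v ∈ V ∧ v ≠ 1 ∧ v ≠ t} = (V : Set G) \ {1, t} := by
        ext v; simp [not_or]
      show Nat.card ({v : G | v ∈ V ∧ v ≠ 1 ∧ v ≠ t} : Set G) = 2
      rw [Nat.card_coe_set_eq, hset, Set.ncard_sdiff (by
          rintro y (rfl | rfl); exacts [one_mem V, h.t_mem]),
        Set.ncard_pair h.t_ne_one.symm,
        show (V : Set G).ncard = 4 from (Nat.card_coe_set_eq _).symm.trans h.four.1]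
    let P := Σ o : ↥(coreC t), {u : G // U o u}
    let f : {v : G // v ∈ V ∧ v ≠ 1 ∧ v ≠ t} × ↥(invSet t a) × ↥(invSet t a) → P := fun x =>
      ⟨h.sqr x.2.1 * x.2.2.1 * (h.sqr x.2.1)⁻¹, (x.2.1.1 : G) * x.1.1, by
        obtain ⟨⟨v, hv, hv1, hvt⟩, ⟨i, hi⟩, ⟨k, hk⟩⟩ := x
        simp only
        set j := h.sqr i with hj
        have hjv : v * (j : G) * v⁻¹ = (j : G)⁻¹ := by
          rw [h.conj_eq hv hv1 hvt j.2]; exact h.sqr_mem hi
        have hiv : (i : G) * v = (j : G) * v * (j : G)⁻¹ := by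
          rw [show (i : G) = (j : G) * j by rw [← Subgroup.coe_mul, h.sqr_sq],
            mul_assoc _ (j : G), mul_assoc _ v]
          congr 1
          calc (j : G) * v = (v * (j : G) * v⁻¹)⁻¹ * v := by rw [hjv, inv_inv]
            _ = v * (j : G)⁻¹ := by group
        refine ⟨?_, mul_mem (coreC_le t i.2) (h.four_le hv), fun e => hvt ?_, ?_⟩
        · rw [hiv, ← MulAut.conj_apply, MulEquiv.orderOf_eq (MulAut.conj (j : G)) v]
          exact h.four.orderOf_eq hv hv1
        · exact (h.mul_unique i.2 (one_mem _) hv h.t_mem (by rw [one_mul]; exact e)).2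
        · rw [hiv, Subgroup.coe_mul, Subgroup.coe_mul, Subgroup.coe_inv]
          calc (j : G) * v * (j : G)⁻¹ * ((j : G) * k * (j : G)⁻¹) * ((j : G) * v * (j : G)⁻¹)⁻¹
              = (j : G) * (v * k * v⁻¹) * (j : G)⁻¹ := by group
            _ = ((j : G) * k * (j : G)⁻¹)⁻¹ := by
              rw [h.conj_eq hv hv1 hvt k.2, mem_invSet.1 hk]; group⟩
    have hf : Function.Bijective f := by
      refine ⟨fun x y e => ?_, fun p => ?_⟩
      · obtain ⟨⟨v, hv⟩, i, k⟩ := x
        obtain ⟨⟨v', hv'⟩, i', k'⟩ := y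
        have e2 : (i.1 : G) * v = i'.1 * v' :=
          congrArg (fun p : P => (p.2 : G)) e
        obtain ⟨h1, h2⟩ := h.mul_unique i.1.2 i'.1.2 hv.1 hv'.1 e2
        obtain rfl : i = i' := Subtype.ext (Subtype.ext h1)
        subst h2
        have e1 : h.sqr i.1 * k.1 * (h.sqr i.1)⁻¹ = h.sqr i.1 * k'.1 * (h.sqr i.1)⁻¹ :=
          congrArg Sigma.fst e
        obtain rfl : k = k' := Subtype.ext (mul_left_cancel (mul_right_cancel e1))
        rfl
      · obtain ⟨o, u, hu, huC, hut, huo⟩ := p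
        obtain ⟨v, hv, hv1, hvt, i, hi, rfl⟩ := h.involution_cases hu huC hut
        set j := h.sqr i with hj
        have hjv : v * (j : G) * v⁻¹ = (j : G)⁻¹ := by
          rw [h.conj_eq hv hv1 hvt j.2]; exact h.sqr_mem hi
        have hk : j⁻¹ * o * j ∈ invSet t a := by
          rw [mem_invSet, ← h.conj_eq hv hv1 hvt (j⁻¹ * o * j).2]
          simp only [Subgroup.coe_mul, Subgroup.coe_inv]
          have hiv : (i : G) = (j : G) * j := by rw [← Subgroup.coe_mul, h.sqr_sq]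
          calc v * ((j : G)⁻¹ * o * j) * v⁻¹
              = (v * (j : G) * v⁻¹)⁻¹ * (v * o * v⁻¹) * (v * (j : G) * v⁻¹) := by group
            _ = (j : G)⁻¹ * ((i : G) * v * o * ((i : G) * v)⁻¹) * j := by
              rw [hjv, inv_inv, hiv]; group
            _ = ((j : G)⁻¹ * o * j)⁻¹ := by rw [huo]; group
        refine ⟨(⟨v, hv, hv1, hvt⟩, ⟨i, hi⟩, ⟨_, hk⟩), Sigma.subtype_ext ?_ rfl⟩
        show j * (j⁻¹ * o * j) * j⁻¹ = o
        group
    letI := Fintype.ofFinite {v : G // v ∈ V ∧ v ≠ 1 ∧ v ≠ t}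
    letI := fun o => Fintype.ofFinite {u : G // U o u}
    calc ∑ o : ↥(coreC t), conj (φ o : ℂ) * (Nat.card {u : G // U o u} : ℂ)
        = ∑ p : P, conj (φ p.1 : ℂ) := by
          rw [Fintype.sum_sigma]
          refine Finset.sum_congr rfl fun o _ => ?_
          show _ = ∑ _y : {u : G // U o u}, conj (φ o : ℂ)
          rw [Finset.sum_const, Finset.card_univ, nsmul_eq_mul, mul_comm, Nat.card_eq_fintype_card]
      _ = ∑ x, conj (φ (f x).1 : ℂ) := (Fintype.sum_bijective f hf _ _ fun _ => rfl).symm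
      _ = ∑ _x : {v : G // v ∈ V ∧ v ≠ 1 ∧ v ≠ t} × ↥(invSet t a) × ↥(invSet t a), (1 : ℂ) := by
          refine Finset.sum_congr rfl fun x _ => ?_
          simp [f, map_mul, map_inv, hφ _ x.2.2.2]
      _ = _ := by
          rw [Finset.sum_const, Finset.card_univ, nsmul_eq_mul, mul_one, ← Nat.card_eq_fintype_card,
            Nat.card_prod, Nat.card_prod, hV2]
          push_cast; ring
  have key : (Nat.card G : ℂ) *
      ∑ χ : Cfsg.IrrCharacter G, m * nu t χ (linChar φ) * (χ : G → ℂ) t ^ 2 / (χ : G → ℂ) 1 =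
        (Nat.card ↥C : ℂ) ^ 2 * (2 * (Nat.card ↥(invSet t a) : ℂ) ^ 2) := by
    rw [← hpair]
    simp only [Finset.mul_sum]
    rw [Finset.sum_congr rfl fun (o : ↥(coreC t)) _ =>
      show (Nat.card ↥C : ℂ) ^ 2 * (conj (φ o : ℂ) * (Nat.card {u : G // U o u} : ℂ)) =
        conj (φ o : ℂ) * ((Nat.card G : ℂ) * ∑ χ : Cfsg.IrrCharacter G,
          (χ : G → ℂ) (t * o) * (χ : G → ℂ) t ^ 2 / (χ : G → ℂ) 1) by
        rw [← card_pairs, hNo]; ring]
    simp only [Finset.mul_sum]
    conv_rhs => rw [Finset.sum_comm]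
    refine Finset.sum_congr rfl fun χ _ => ?_
    simp only [nu, Cfsg.classInner, linChar_apply, ← hmdef, Finset.mul_sum, Finset.sum_mul, Finset.sum_div]
    refine Finset.sum_congr rfl fun o _ => ?_
    field_simp
  rw [h.card_centralizer] at key
  have hw : (Nat.card ↥(invSet t a) : ℂ) * (Nat.card ↥(coreV V) : ℂ) = m := by
    rw [hmdef]; exact_mod_cast h.card_invSet_mul
  apply mul_left_cancel₀ hm
  push_cast at key
  rw [← hmdef] at key
  simp only [mul_assoc m, mul_div_assoc, ← Finset.mul_sum] at key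
  simp only [← mul_div_assoc] at key
  linear_combination (Nat.card ↥(coreV V) : ℂ) ^ 2 * key +
    32 * m ^ 2 * ((Nat.card ↥(invSet t a) : ℂ) * (Nat.card ↥(coreV V) : ℂ) + m) * hw

end Ctx

end Cfsg.Agent.Lib.GorensteinWalter.Four
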