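import Cfsg.Agent.Lib.GorensteinWalter.Four.LineModel

/-!
# First level of the count: more than `T` lines

The conjugates of the other lines at `t` over the images of `t` are distinct, so
`|G : M| > |Q : C(t̄)| (k - 1)`; with the bound this gives `T < k`.
-/

set_option autoImplicit false
set_option linter.unusedSectionVars false
set_option linter.style.haveILetI false

namespace Cfsg.Agent.Lib.GorensteinWalter

open Cfsg.Agent.Lib.Fusion.Dihedral Cfsg.Agent.Lib.Fusion.Alperin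

universe u

namespace Line

variable {G : Type u} [Group G] [Finite G] {V : Subgroup G} {t a : G} {r : ℕ} {x : G}
  (h : FourSetting V t a) (hl : Line V t a r x) (hr : r.Prime) {T q : ℕ} {ε : ℤ}
  (hm : LineModel V t a x T q ε)

include h hl hr hm

/-- The other lines at `t`, conjugated over the images of `t`, are distinct. -/
theorem index_bound : (Subgroup.centralizer ({lineF x ⟨t, hm.mt⟩} : Set (lineQ x))).index *
    ((lines t x).ncard - 1) + 1 ≤ (lineM x).index := by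
  classical
  set C := Subgroup.centralizer ({lineF x ⟨t, hm.mt⟩} : Set (lineQ x)) with hC
  have hgen : ∀ L : ↥(lines t x \ {Subgroup.zpowers x}), ∃ g : G, (L : Subgroup G) = conjS g (Subgroup.zpowers x) :=
    fun L => L.2.1.2
  choose g hg using hgen
  have hlift : ∀ c : lineQ x ⧸ C, ∃ m : lineM x, ((lineF x m : lineQ x) : lineQ x ⧸ C) = c := fun c => by
    induction c using QuotientGroup.induction_on with
    | H w =>
      obtain ⟨m, rfl⟩ := QuotientGroup.mk'_surjective _ w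
      exact ⟨m, rfl⟩
  choose m hm' using hlift
  let F : Option ((lineQ x ⧸ C) × ↥(lines t x \ {Subgroup.zpowers x})) → G ⧸ lineM x := fun o =>
    o.elim ((1 : G) : G ⧸ lineM x) fun p => (((m p.1 : G) * g p.2 : G) : G ⧸ lineM x)
  have hconj : ∀ {u v : G}, (u : G ⧸ lineM x) = (v : G ⧸ lineM x) →
      conjS u (Subgroup.zpowers x) = conjS v (Subgroup.zpowers x) :=
    fun e => conjS_eq_iff_mem.2 (QuotientGroup.eq.1 e)
  have hnone : ∀ p, F none ≠ F (some p) := by
    intro p e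
    have e1 := hconj e
    rw [conjS_one, conjS_mul, ← hg] at e1
    refine p.2.2.2 ?_
    rw [Set.mem_singleton_iff]
    have e2 := congrArg (conjS (m p.1 : G)⁻¹) e1
    rw [conjS_inv_conjS, conjS_eq_of_mem_normalizer (inv_mem (m p.1).2)] at e2
    exact e2.symm
  have hF : Function.Injective F := by
    rintro (_ | p) (_ | p') e
    · rfl
    · exact absurd e (hnone p')
    · exact absurd e.symm (hnone p)
    · have e1 := hconj e
      rw [conjS_mul, conjS_mul, ← hg, ← hg] at e1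
      have hc : p.1 = p'.1 := by
        rw [← hm' p.1, ← hm' p'.1]
        exact QuotientGroup.eq.2 (hl.eq_of_conjS_eq h hr hm p.2.2.1 p.2.2.2 p'.2.2.1 e1)
      rw [hc] at e1
      have e2 := congrArg (conjS (m p'.1 : G)⁻¹) e1
      rw [conjS_inv_conjS, conjS_inv_conjS] at e2
      exact congrArg some (Prod.ext hc (Subtype.ext e2))
  have h1 := Nat.card_le_card_of_injective F hF
  rw [Finite.card_option, Nat.card_prod, Nat.card_coe_set_eq,
    Set.ncard_diff_singleton_of_mem (hl.zpowers_mem_lines h hr)] at h1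
  exact h1

/-- The torus has order less than the number of lines. -/
theorem lt_ncard : T < (lines t x).ncard := by
  by_contra hle
  push Not at hle
  obtain ⟨L, hL, hne⟩ := hl.exists_line_ne h hr
  obtain ⟨y, -, hyr, hyt, hya, hy1⟩ := hl.exists_torus h hr hL hne
  have hyodd : Odd (orderOf (lineF x y)) := Odd.of_dvd_nat
    (Subgroup.orderOf_coe y ▸ hyr.symm ▸ hr.odd_of_ne_two (hl.r_ne_two h hr)) (orderOf_map_dvd _ y)
  have hk := hl.three_le_ncard h hr
  obtain ⟨s, hs⟩ : ∃ s, (lines t x).ncard = s + 1 := ⟨_, (Nat.sub_add_cancel (by omega)).symm⟩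
  have hT : 3 ≤ T := hk.trans hle
  have hidx := hl.index_bound h hr hm
  have hb := hm.bound
  set N := (Subgroup.centralizer ({lineF x ⟨t, hm.mt⟩} : Set (lineQ x))).index with hN
  rw [hs] at hidx hb hle hk
  rw [Nat.add_sub_cancel] at hidx
  -- `2 N ≥ (4 T - 1) (4 T - 2)`
  have hN2 : (4 * (T : ℤ) - 1) * (4 * (T : ℤ) - 2) ≤ 2 * (N : ℤ) := by
    have h2 : 2 * (N : ℤ) = (q : ℤ) * ((q : ℤ) + ε) := hm.two_index
    rw [h2, hm.q_eq]
    rcases hm.eps with rfl | rfl <;> nlinarith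
  have h3 : 36 * (N * N) * s ≤ 364 * (s + 1) ^ 3 * T ^ 2 := by
    refine le_trans ?_ hb
    calc 36 * (N * N) * s = 36 * (N * s) * N := by ring
      _ ≤ 36 * (lineM x).index * N := Nat.mul_le_mul_right _ (Nat.mul_le_mul_left _ (by omega))
  have h3' : 36 * ((N : ℤ) * N) * s ≤ 364 * ((s : ℤ) + 1) ^ 3 * (T : ℤ) ^ 2 := by exact_mod_cast h3
  have hT' : (3 : ℤ) ≤ T := by exact_mod_cast hT
  have hs2 : (2 : ℤ) ≤ s := by exact_mod_cast (show 2 ≤ s by omega)
  have hsT : (s : ℤ) + 1 ≤ T := by exact_mod_cast hle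
  have h4 : 55 * (T : ℤ) ^ 2 ≤ 9 * N := by nlinarith
  have h5 : (55 * (T : ℤ) ^ 2) * (55 * (T : ℤ) ^ 2) ≤ (9 * N) * (9 * N) :=
    mul_le_mul h4 h4 (by positivity) (by positivity)
  have h6 : ((s : ℤ) + 1) ^ 2 * (T : ℤ) ^ 2 ≤ (T : ℤ) ^ 4 := by
    have := mul_le_mul hsT hsT (by positivity) (by positivity)
    nlinarith [sq_nonneg (T : ℤ)]
  have h7 : 36 * (55 * (T : ℤ) ^ 2) * (55 * (T : ℤ) ^ 2) * s ≤ 81 * (364 * ((s : ℤ) + 1) * (T : ℤ) ^ 4) := by
    calc 36 * (55 * (T : ℤ) ^ 2) * (55 * (T : ℤ) ^ 2) * s = 36 * ((55 * (T : ℤ) ^ 2) * (55 * (T : ℤ) ^ 2)) * s := by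
          ring
      _ ≤ 36 * ((9 * (N : ℤ)) * (9 * N)) * s := by gcongr
      _ = 81 * (36 * ((N : ℤ) * N) * s) := by ring
      _ ≤ 81 * (364 * ((s : ℤ) + 1) ^ 3 * (T : ℤ) ^ 2) := by linarith
      _ = 81 * 364 * ((s : ℤ) + 1) * (((s : ℤ) + 1) ^ 2 * (T : ℤ) ^ 2) := by ring
      _ ≤ 81 * 364 * ((s : ℤ) + 1) * (T : ℤ) ^ 4 := by gcongr
      _ = 81 * (364 * ((s : ℤ) + 1) * (T : ℤ) ^ 4) := by ring
  have hT4 : (0 : ℤ) < (T : ℤ) ^ 4 := by positivity
  nlinarith [mul_le_mul_of_nonneg_right hs2 hT4.le]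

end Line

/-- A line has more conjugates at `t` than its prime. -/
theorem propLevelOne (hMK : PropModelKlein.{u}) : PropLevelOne.{u} := by
  intro G _ _ V t a h r x hr hl
  obtain ⟨T, q, ε, hm⟩ := hl.exists_model h hr hMK
  obtain ⟨L, hL, hne⟩ := hl.exists_line_ne h hr
  obtain ⟨y, -, hyr, hyt, hya, hy1⟩ := hl.exists_torus h hr hL hne
  have hyodd : Odd (orderOf (lineF x y)) := Odd.of_dvd_nat
    (Subgroup.orderOf_coe y ▸ hyr.symm ▸ hr.odd_of_ne_two (hl.r_ne_two h hr)) (orderOf_map_dvd _ y)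
  have h1 := (hm.torus _ hyodd (by rw [← map_mul, ← map_mul]; exact congrArg _ (Subtype.ext hyt))
    (hl.lineF_inverts h hm.ma hya)).1
  have h2 : orderOf (lineF x y) = r := by
    refine ((Nat.dvd_prime hr).1 ?_).resolve_left (fun e => hy1 (orderOf_eq_one_iff.1 e))
    rw [← hyr, Subgroup.orderOf_coe]
    exact orderOf_map_dvd _ y
  rw [h2] at h1
  exact lt_of_le_of_lt (Nat.le_of_dvd hm.odd.pos h1) (hl.lt_ncard h hr hm)

/-- With at most `r²` lines the torus of a line has no element of order `r²`. -/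
theorem propLineTorus (hMK : PropModelKlein.{u}) : PropLineTorus.{u} := by
  intro G _ _ V t a h r x hr hl hk c hct hcx hca hc
  by_contra hne
  obtain ⟨T, q, ε, hm⟩ := hl.exists_model h hr hMK
  haveI : Fact r.Prime := ⟨hr⟩
  have hcM : c ∈ lineM x := centralizer_le_lineM x (Subgroup.mem_centralizer_singleton_iff.2 hcx)
  have hct' : c * t = t * c := Subgroup.mem_centralizer_singleton_iff.1 (coreC_le t hct)
  have hcodd : Odd (orderOf (lineF x ⟨c, hcM⟩)) := Odd.of_dvd_nat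
    (Subgroup.orderOf_mk c hcM ▸ orderOf_odd_of_mem (coreC_odd t) hct) (orderOf_map_dvd _ _)
  have h1 := (hm.torus _ hcodd (by rw [← map_mul, ← map_mul]; exact congrArg _ (Subtype.ext hct'))
    (hl.lineF_inverts h hm.ma (y := ⟨c, hcM⟩) hca)).1
  have hne' : lineF x ((⟨c, hcM⟩ : lineM x) ^ r) ≠ 1 := by
    refine hl.lineF_inverted h hr (c := (⟨c, hcM⟩ : lineM x) ^ r) (n := 1) ?_
      (fun e => hne (congrArg Subtype.val e)) ?_ ?_
    · rw [pow_one, SubgroupClass.coe_pow, ← pow_mul, ← pow_two]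
      exact hc
    · rw [SubgroupClass.coe_pow]
      exact ((Commute.pow_left hct') r).eq
    · rw [SubgroupClass.coe_pow, ← conj_pow, hca, inv_pow]
  have h2 : orderOf (lineF x ⟨c, hcM⟩) = r ^ (1 + 1) := by
    refine orderOf_eq_prime_pow ?_ ?_
    · rwa [pow_one, ← map_pow]
    · rw [← map_pow, show (⟨c, hcM⟩ : lineM x) ^ r ^ (1 + 1) = 1 from Subtype.ext hc, map_one]
  rw [h2] at h1
  exact absurd (hl.lt_ncard h hr hm) (not_lt.2 (hk.trans (Nat.le_of_dvd hm.odd.pos h1)))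

end Cfsg.Agent.Lib.GorensteinWalter
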