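import Cfsg.Agent.Lib.GorensteinWalter.Four.LevelTwoImage

/-!
# Gorenstein–Walter, Sylow 2-subgroups of order four, second level of the count

For each involution `j` of `X` a conjugate `m t m⁻¹` above it gives `r - 1` lines `m ⟨x z^c⟩ m⁻¹`; moving
these lines by the conjugation that carries `⟨x⟩` to one of them gives, off the excluded involutions,
pairwise different conjugates of `⟨x⟩`.
-/

set_option autoImplicit false
set_option linter.unusedSectionVars false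
set_option linter.style.haveILetI false

namespace Cfsg.Agent.Lib.GorensteinWalter.Four.LevelTwo

open Cfsg.Agent.Lib.Fusion.Dihedral Cfsg.Agent.Lib.Fusion.Alperin

universe u

variable {G : Type u} [Group G]

/-- Elements `m` lifting the involutions of the model and `g` carrying `x` to `x z^c`. -/
structure Choice (t x z : G) (Q : Subgroup G) (r : ℕ) (htM : t ∈ lineM x) {X : Type u} [Group X]
    (π : ↥(lineM x) →* X) where
  m : {j : X // orderOf j = 2} → ↥(lineM x)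
  g : Fin (r - 1) → G
  m_spec : ∀ j, π (m j * ⟨t, htM⟩ * (m j)⁻¹) = j
  g_mem : ∀ c, g c ∈ Q
  g_spec : ∀ c, g c * x * (g c)⁻¹ = x * z ^ ((c : ℕ) + 1)

variable [Finite G] {V : Subgroup G} {t a : G} {r : ℕ} [hr : Fact r.Prime] {x z : G} {Q : Subgroup G}
  {htM : t ∈ lineM x} {haM : a ∈ lineM x} {X : Type u} [Group X] {π : ↥(lineM x) →* X} {T q : ℕ} {ε : ℤ}

namespace Choice

variable (C : Choice t x z Q r htM π)

/-- The conjugation carrying `⟨x⟩` to a line. -/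
def conj (p : {j : X // orderOf j = 2} × Fin (r - 1)) : G := (C.m p.1 : G) * C.g p.2

/-- The generator of a line. -/
def gen (p : {j : X // orderOf j = 2} × Fin (r - 1)) : G :=
  (C.m p.1 : G) * (x * z ^ ((p.2 : ℕ) + 1)) * (C.m p.1 : G)⁻¹

omit [Finite G] hr in
theorem conj_x (p : {j : X // orderOf j = 2} × Fin (r - 1)) : C.conj p * x * (C.conj p)⁻¹ = C.gen p := by
  rw [conj, gen, ← C.g_spec p.2]
  group

end Choice

variable (h : FourSetting V t a) (hl : Line V t a r x) (hH : Heisenberg V t a r x z Q)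
  (hI : Image t a x htM haM π T q ε)

include h hl hH hI

theorem exists_choice [Finite X] : Nonempty (Choice t x z Q r htM π) := by
  have h1 : ∀ j : {j : X // orderOf j = 2}, ∃ m : ↥(lineM x), π (m * ⟨t, htM⟩ * m⁻¹) = j :=
    fun j => exists_involution_lift h hl hH hI j.2
  choose m hm using h1
  choose g hg hgs using fun c : Fin (r - 1) => exists_conj_line h hl hH ((c : ℕ) + 1)
  exact ⟨⟨m, g, hm, hg, hgs⟩⟩

variable (C : Choice t x z Q r htM π)
include C

theorem not_dvd_succ (c : Fin (r - 1)) : ¬ r ∣ (c : ℕ) + 1 := fun e => by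
  have := Nat.le_of_dvd (by omega) e
  have := c.2
  omega

theorem conj_x_mem (j : {j : X // orderOf j = 2}) :
    (C.m j : G) * x * (C.m j : G)⁻¹ ∈ Subgroup.zpowers x :=
  (Subgroup.mem_normalizer_iff.1 (C.m j).2 x).1 (Subgroup.mem_zpowers x)

theorem gen_comm_x (p : {j : X // orderOf j = 2} × Fin (r - 1)) : C.gen p * x = x * C.gen p := by
  have h1 : (C.m p.1 : G)⁻¹ * x * C.m p.1 ∈ Subgroup.zpowers x :=
    (Subgroup.mem_normalizer_iff''.1 (C.m p.1).2 x).1 (Subgroup.mem_zpowers x)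
  have h2 : Commute (x * z ^ ((p.2 : ℕ) + 1)) x :=
    (Commute.refl x).mul_left ((show Commute z x from z_comm_x h hl hH).pow_left _)
  have h3 := commute_of_mem_zpowers h2.eq h1
  rw [Choice.gen]
  calc (C.m p.1 : G) * (x * z ^ ((p.2 : ℕ) + 1)) * (C.m p.1 : G)⁻¹ * x
      = C.m p.1 * (x * z ^ ((p.2 : ℕ) + 1) * ((C.m p.1 : G)⁻¹ * x * C.m p.1)) * (C.m p.1 : G)⁻¹ := by group
    _ = x * (C.m p.1 * (x * z ^ ((p.2 : ℕ) + 1)) * (C.m p.1 : G)⁻¹) := by rw [h3]; group

theorem gen_mem (p : {j : X // orderOf j = 2} × Fin (r - 1)) : C.gen p ∈ lineM x :=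
  centralizer_le_lineM x (Subgroup.mem_centralizer_singleton_iff.2 (gen_comm_x h hl hH hI C p))

theorem orderOf_gen (p : {j : X // orderOf j = 2} × Fin (r - 1)) : orderOf (C.gen p) = r := by
  rw [← C.conj_x p, ← MulAut.conj_apply, MulEquiv.orderOf_eq, hl.order]

theorem image_gen (p : {j : X // orderOf j = 2} × Fin (r - 1)) :
    π ⟨C.gen p, gen_mem h hl hH hI C p⟩ =
      π (C.m p.1) * π ⟨z ^ ((p.2 : ℕ) + 1), pow_mem (z_mem_lineM h hl hH) _⟩ * (π (C.m p.1))⁻¹ := by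
  have hxM : x ∈ lineM x := Subgroup.le_normalizer (Subgroup.mem_zpowers x)
  rw [show (⟨C.gen p, gen_mem h hl hH hI C p⟩ : ↥(lineM x)) =
    C.m p.1 * (⟨x, hxM⟩ * ⟨z ^ ((p.2 : ℕ) + 1), pow_mem (z_mem_lineM h hl hH) _⟩) * (C.m p.1)⁻¹ from
      Subtype.ext rfl]
  rw [map_mul, map_mul, map_mul, image_zpowers h hl hH hI (g := ⟨x, hxM⟩) (Subgroup.mem_zpowers x),
    one_mul, map_inv]

theorem involution_eq (j : {j : X // orderOf j = 2}) : π (C.m j) * π ⟨t, htM⟩ * (π (C.m j))⁻¹ = j := by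
  rw [← map_inv, ← map_mul, ← map_mul]
  exact C.m_spec j

/-- The only involution commuting with the image of a line is its index. -/
theorem index_unique (p : {j : X // orderOf j = 2} × Fin (r - 1)) {j : X} (hj : orderOf j = 2)
    (hc : j * π ⟨C.gen p, gen_mem h hl hH hI C p⟩ = π ⟨C.gen p, gen_mem h hl hH hI C p⟩ * j) : j = p.1 := by
  obtain ⟨h1, h2, h3⟩ := zpow_image h hl hH hI (not_dvd_succ h hl hH hI C p.2)
    (pow_mem (z_mem_lineM h hl hH) ((p.2 : ℕ) + 1))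
  rw [image_gen h hl hH hI C p] at hc
  set k := π (C.m p.1) with hk
  set w := π ⟨z ^ ((p.2 : ℕ) + 1), pow_mem (z_mem_lineM h hl hH) _⟩ with hw
  have hw1 : w ≠ 1 := fun e => by
    rw [e, orderOf_one] at h1
    exact hr.out.ne_one h1.symm
  have h4 := (hI.uniq w (h1 ▸ Line.r_odd hl) h2 h3).2 hw1 (k⁻¹ * j * k) (by
    rw [show k⁻¹ * j * k = MulAut.conj k⁻¹ j by simp, MulEquiv.orderOf_eq, hj]) (by
    calc k⁻¹ * j * k * w = k⁻¹ * (j * (k * w * k⁻¹)) * k := by group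
      _ = k⁻¹ * (k * w * k⁻¹ * j) * k := by rw [hc]
      _ = w * (k⁻¹ * j * k) := by group)
  rw [← involution_eq h hl hH hI C p.1, ← hk, ← h4]
  group

theorem index_comm (p : {j : X // orderOf j = 2} × Fin (r - 1)) :
    (p.1 : X) * π ⟨C.gen p, gen_mem h hl hH hI C p⟩ = π ⟨C.gen p, gen_mem h hl hH hI C p⟩ * p.1 := by
  obtain ⟨-, h2, -⟩ := zpow_image h hl hH hI (not_dvd_succ h hl hH hI C p.2)
    (pow_mem (z_mem_lineM h hl hH) ((p.2 : ℕ) + 1))
  rw [image_gen h hl hH hI C p, ← involution_eq h hl hH hI C p.1]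
  calc π (C.m p.1) * π ⟨t, htM⟩ * (π (C.m p.1))⁻¹ *
        (π (C.m p.1) * π ⟨z ^ ((p.2 : ℕ) + 1), _⟩ * (π (C.m p.1))⁻¹)
      = π (C.m p.1) * (π ⟨t, htM⟩ * π ⟨z ^ ((p.2 : ℕ) + 1), pow_mem (z_mem_lineM h hl hH) _⟩) *
          (π (C.m p.1))⁻¹ := by group
    _ = _ := by rw [← h2]; group

/-- An element of `X` commuting with the image of a line commutes with its index. -/
theorem index_fixed (p : {j : X // orderOf j = 2} × Fin (r - 1)) {w : X}
    (hw : w * π ⟨C.gen p, gen_mem h hl hH hI C p⟩ = π ⟨C.gen p, gen_mem h hl hH hI C p⟩ * w) :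
    (p.1 : X) * w = w * p.1 := by
  have h1 := index_comm h hl hH hI C p
  set e := π ⟨C.gen p, gen_mem h hl hH hI C p⟩
  have h2 := index_unique h hl hH hI C p (j := w * p.1 * w⁻¹)
    (by rw [← MulAut.conj_apply, MulEquiv.orderOf_eq, p.1.2]) (by
    calc w * p.1 * w⁻¹ * e = w * (p.1 * (w⁻¹ * (e * w) * w⁻¹)) := by group
      _ = w * (p.1 * e) * w⁻¹ := by rw [← hw]; group
      _ = w * e * p.1 * w⁻¹ := by rw [h1]; group
      _ = e * (w * p.1 * w⁻¹) := by rw [hw]; group)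
  exact (mul_inv_eq_iff_eq_mul.1 h2).symm

theorem index_eq_of_commute {p p' : {j : X // orderOf j = 2} × Fin (r - 1)}
    (hc : C.gen p * C.gen p' = C.gen p' * C.gen p) : p.1 = p'.1 := by
  have h1 : π ⟨C.gen p', gen_mem h hl hH hI C p'⟩ * π ⟨C.gen p, gen_mem h hl hH hI C p⟩ =
      π ⟨C.gen p, gen_mem h hl hH hI C p⟩ * π ⟨C.gen p', gen_mem h hl hH hI C p'⟩ := by
    rw [← map_mul, ← map_mul]
    exact congrArg π (Subtype.ext hc.symm)
  exact Subtype.ext (index_unique h hl hH hI C p' p.1.2 (index_fixed h hl hH hI C p h1))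

theorem excluded_t : π ⟨t, htM⟩ ∈ excluded (π ⟨t, htM⟩) (π ⟨a, haM⟩) := by
  have hzM : z ^ 1 ∈ lineM x := pow_mem (z_mem_lineM h hl hH) 1
  obtain ⟨h1, h2, h3⟩ := zpow_image h hl hH hI (c := 1) (fun e => hr.out.not_dvd_one e) hzM
  set w := π ⟨z ^ 1, hzM⟩
  have hw1 : w ≠ 1 := fun e => by
    rw [e, orderOf_one] at h1
    exact hr.out.ne_one h1.symm
  refine ⟨image_t_two h hl hH hI, w, w, π ⟨a, haM⟩, image_a_two h hl hH hI, ?_, hw1, hw1,
    h1 ▸ Line.r_odd hl, h1 ▸ Line.r_odd hl, h2, h3, h2, h3, ?_⟩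
  · rw [← map_mul, ← map_mul]
    exact congrArg π (Subtype.ext (h.four.comm h.a_mem h.t_mem))
  · rw [Set.pair_eq_singleton, ← Subgroup.zpowers_eq_closure, Nat.card_zpowers, h1]
    exact Line.r_odd hl

/-- The power of `x` carried to a line generates `⟨x z^(r-c)⟩`. -/
theorem pullback (p : {j : X // orderOf j = 2} × Fin (r - 1)) :
    Subgroup.zpowers ((C.conj p)⁻¹ * x * C.conj p) =
      Subgroup.zpowers (x * z ^ (r - ((p.2 : ℕ) + 1))) := by
  set c := (p.2 : ℕ) + 1 with hc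
  have hcr : c ≤ r := by have := p.2.2; omega
  have hgz : Commute (C.g p.2) (z ^ (r - c)) := (z_comm_mem h hl hH (C.g_mem p.2)).pow_right _
  have hg : C.g p.2 * (x * z ^ (r - c)) * (C.g p.2)⁻¹ = x := by
    calc C.g p.2 * (x * z ^ (r - c)) * (C.g p.2)⁻¹
        = C.g p.2 * x * (C.g p.2)⁻¹ * (C.g p.2 * z ^ (r - c) * (C.g p.2)⁻¹) := by group
      _ = x * z ^ c * z ^ (r - c) := by rw [C.g_spec, hgz.eq, mul_inv_cancel_right]
      _ = x := by
        rw [mul_assoc, ← pow_add, Nat.add_sub_of_le hcr, ← hH.z_order, pow_orderOf_eq_one, mul_one]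
  have h2 : Subgroup.zpowers ((C.m p.1 : G)⁻¹ * x * (C.m p.1 : G)) = Subgroup.zpowers x := by
    refine zpowers_eq_of_mem hl.order ((Subgroup.mem_normalizer_iff''.1 (C.m p.1).2 x).1
      (Subgroup.mem_zpowers x)) fun e => Line.x_ne_one hl ?_
    have := congrArg (fun y => (C.m p.1 : G) * y * (C.m p.1 : G)⁻¹) e
    simpa [mul_assoc] using this
  rw [Choice.conj, show ((C.m p.1 : G) * C.g p.2)⁻¹ * x * ((C.m p.1 : G) * C.g p.2) =
    (C.g p.2)⁻¹ * ((C.m p.1 : G)⁻¹ * x * (C.m p.1 : G)) * (C.g p.2)⁻¹⁻¹ by group]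
  have key : ∀ y w : G, conjS y (Subgroup.zpowers w) = Subgroup.zpowers (y * w * y⁻¹) := fun y w => by
    rw [conjS, MonoidHom.map_zpowers]
    rfl
  rw [← key, h2, key]
  congr 1
  calc (C.g p.2)⁻¹ * x * (C.g p.2)⁻¹⁻¹
      = (C.g p.2)⁻¹ * (C.g p.2 * (x * z ^ (r - c)) * (C.g p.2)⁻¹) * (C.g p.2) := by rw [hg]; group
    _ = x * z ^ (r - c) := by group

theorem image_pullback (p : {j : X // orderOf j = 2} × Fin (r - 1))
    (hM : x * z ^ (r - ((p.2 : ℕ) + 1)) ∈ lineM x) :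
    ∃ w : X, π ⟨x * z ^ (r - ((p.2 : ℕ) + 1)), hM⟩ = w ∧ w ≠ 1 ∧ orderOf w = r ∧
      w * π ⟨t, htM⟩ = π ⟨t, htM⟩ * w ∧ π ⟨a, haM⟩ * w * (π ⟨a, haM⟩)⁻¹ = w⁻¹ := by
  have hxM : x ∈ lineM x := Subgroup.le_normalizer (Subgroup.mem_zpowers x)
  have hd : ¬ r ∣ r - ((p.2 : ℕ) + 1) := fun e => by
    have := p.2.2
    have := Nat.le_of_dvd (by omega) e
    omega
  obtain ⟨h1, h2, h3⟩ := zpow_image h hl hH hI hd (pow_mem (z_mem_lineM h hl hH) _)
  refine ⟨_, ?_, fun e => ?_, h1, h2, h3⟩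
  · rw [show (⟨x * z ^ (r - ((p.2 : ℕ) + 1)), hM⟩ : ↥(lineM x)) =
      ⟨x, hxM⟩ * ⟨z ^ (r - ((p.2 : ℕ) + 1)), pow_mem (z_mem_lineM h hl hH) _⟩ from rfl, map_mul,
      image_zpowers h hl hH hI (g := ⟨x, hxM⟩) (Subgroup.mem_zpowers x), one_mul]
  · rw [e, orderOf_one] at h1
    exact hr.out.ne_one h1.symm

/-- A line and the moved line do not commute, off the excluded involutions. -/
theorem moved_not_comm (p p' : {j : X // orderOf j = 2} × Fin (r - 1))
    (hp' : (p'.1 : X) ∉ excluded (π ⟨t, htM⟩) (π ⟨a, haM⟩)) :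
    C.conj p * C.gen p' * (C.conj p)⁻¹ * x ≠ x * (C.conj p * C.gen p' * (C.conj p)⁻¹) := by
  intro hc
  have h1 : C.gen p' * ((C.conj p)⁻¹ * x * C.conj p) = (C.conj p)⁻¹ * x * C.conj p * C.gen p' := by
    calc C.gen p' * ((C.conj p)⁻¹ * x * C.conj p)
        = (C.conj p)⁻¹ * (C.conj p * C.gen p' * (C.conj p)⁻¹ * x) * C.conj p := by group
      _ = _ := by rw [hc]; group
  have h2 : x * z ^ (r - ((p.2 : ℕ) + 1)) ∈ Subgroup.zpowers ((C.conj p)⁻¹ * x * C.conj p) := by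
    rw [pullback h hl hH hI C p]
    exact Subgroup.mem_zpowers _
  have h3 := commute_of_mem_zpowers h1 h2
  have hM : x * z ^ (r - ((p.2 : ℕ) + 1)) ∈ lineM x :=
    mul_mem (Subgroup.le_normalizer (Subgroup.mem_zpowers x)) (pow_mem (z_mem_lineM h hl hH) _)
  obtain ⟨w, hw, hw1, hwo, hwt, hwa⟩ := image_pullback h hl hH hI C p hM
  have h4 := index_fixed h hl hH hI C p' (w := w) (by
    rw [← hw, ← map_mul, ← map_mul]
    exact congrArg π (Subtype.ext h3.symm))
  have h5 := (hI.uniq w (hwo ▸ Line.r_odd hl) hwt hwa).2 hw1 p'.1 p'.1.2 h4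
  exact hp' (h5 ▸ excluded_t h hl hH hI C)

/-- An involution of a moved pair lies over both indices. -/
theorem index_of_involution (p p' p₂ : {j : X // orderOf j = 2} × Fin (r - 1))
    (hne : C.conj p * C.gen p' * (C.conj p)⁻¹ * x ≠ x * (C.conj p * C.gen p' * (C.conj p)⁻¹))
    {v : G} (hvo : orderOf v = 2) (hvM : v ∈ lineM x)
    (hve : v * (C.conj p * C.gen p' * (C.conj p)⁻¹) = C.conj p * C.gen p' * (C.conj p)⁻¹ * v)
    (hp₂ : C.gen p₂ * (C.conj p * C.gen p' * (C.conj p)⁻¹) =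
      C.conj p * C.gen p' * (C.conj p)⁻¹ * C.gen p₂) :
    (p₂.1 : X) = π ⟨v, hvM⟩ := by
  set e := C.conj p * C.gen p' * (C.conj p)⁻¹ with he
  obtain ⟨n, hn, hnt⟩ := h.exists_conj_involution (hl.fused h hr.out) hvM hvo
  set e₀ := n⁻¹ * e * n with he₀
  have he₀eq : e₀ = (n⁻¹ * C.conj p * C.conj p') * x * (n⁻¹ * C.conj p * C.conj p')⁻¹ := by
    rw [he₀, he, ← C.conj_x p']
    group
  have he₀t : e₀ * t = t * e₀ := by
    rw [← hnt] at hve
    calc e₀ * t = n⁻¹ * (e * (n * t * n⁻¹)) * n := by rw [he₀]; group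
      _ = t * e₀ := by rw [← hve, he₀]; group
  have he₀o : orderOf e₀ = r := by rw [he₀eq, ← MulAut.conj_apply, MulEquiv.orderOf_eq, hl.order]
  have hline : Subgroup.zpowers e₀ ∈ lines t x := by
    refine ⟨Subgroup.zpowers_le.2 (h.hyp.mem_coreC h.t_two
      (Subgroup.mem_centralizer_singleton_iff.2 he₀t) (he₀o ▸ Line.r_odd hl)),
      n⁻¹ * C.conj p * C.conj p', ?_⟩
    rw [MonoidHom.map_zpowers, he₀eq]
    rfl
  have hne₀ : Subgroup.zpowers e₀ ≠ Subgroup.zpowers x := fun e' => by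
    have h1 : e₀ ∈ Subgroup.zpowers x := e' ▸ Subgroup.mem_zpowers e₀
    have h2 := (Subgroup.mem_normalizer_iff.1 hn e₀).1 h1
    rw [show n * e₀ * n⁻¹ = e by rw [he₀]; group] at h2
    exact hne (commute_of_mem_zpowers rfl h2).symm
  obtain ⟨y, hy, hyo, hyx, hya⟩ := hl.good _ hline hne₀
  have hyt : y * t = t * y := Subgroup.mem_centralizer_singleton_iff.1
    (coreC_le t (sup_le (Subgroup.zpowers_le.2 (hl.x_mem_coreC h hr.out)) hline.1 hy))
  have hyM : y ∈ lineM x := centralizer_le_lineM x (Subgroup.mem_centralizer_singleton_iff.2 hyx)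
  set d := n⁻¹ * C.gen p₂ * n with hd
  have hdx : d * x = x * d := by
    have h1 := commute_of_mem_zpowers (gen_comm_x h hl hH hI C p₂)
      ((Subgroup.mem_normalizer_iff.1 hn x).1 (Subgroup.mem_zpowers x))
    calc d * x = n⁻¹ * (C.gen p₂ * (n * x * n⁻¹)) * n := by rw [hd]; group
      _ = x * d := by rw [h1, hd]; group
  have hde : d * e₀ = e₀ * d := by
    calc d * e₀ = n⁻¹ * (C.gen p₂ * e) * n := by rw [hd, he₀]; group
      _ = e₀ * d := by rw [hp₂, hd, he₀]; group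
  have hdy : y * d = d * y := by
    have h1 : Subgroup.zpowers x ⊔ Subgroup.zpowers e₀ ≤ Subgroup.centralizer ({d} : Set G) :=
      sup_le (Subgroup.zpowers_le.2 (Subgroup.mem_centralizer_singleton_iff.2 hdx.symm))
        (Subgroup.zpowers_le.2 (Subgroup.mem_centralizer_singleton_iff.2 hde.symm))
    exact Subgroup.mem_centralizer_singleton_iff.1 (h1 hy)
  -- pass to the image
  obtain ⟨h1, h2, h3⟩ := image_inverted h hl hH hI hyM hyo hyt hya
  set w := π ⟨y, hyM⟩ with hw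
  set k := π ⟨n, hn⟩ with hk
  have hw1 : w ≠ 1 := fun e' => by
    rw [e', orderOf_one] at h1
    exact hr.out.ne_one h1.symm
  have h4 : k * w * k⁻¹ * π ⟨C.gen p₂, gen_mem h hl hH hI C p₂⟩ =
      π ⟨C.gen p₂, gen_mem h hl hH hI C p₂⟩ * (k * w * k⁻¹) := by
    rw [hk, hw, ← map_inv, ← map_mul, ← map_mul, ← map_mul, ← map_mul]
    refine congrArg π (Subtype.ext ?_)
    show n * y * n⁻¹ * C.gen p₂ = C.gen p₂ * (n * y * n⁻¹)
    calc n * y * n⁻¹ * C.gen p₂ = n * (y * d) * n⁻¹ := by rw [hd]; group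
      _ = C.gen p₂ * (n * y * n⁻¹) := by rw [hdy, hd]; group
  have h5 := index_fixed h hl hH hI C p₂ h4
  have h6 := (hI.uniq w (h1 ▸ Line.r_odd hl) h2 h3).2 hw1 (k⁻¹ * p₂.1 * k) (by
    rw [show k⁻¹ * (p₂.1 : X) * k = MulAut.conj k⁻¹ (p₂.1 : X) by simp, MulEquiv.orderOf_eq, p₂.1.2]) (by
    calc k⁻¹ * p₂.1 * k * w = k⁻¹ * (p₂.1 * (k * w * k⁻¹)) * k := by group
      _ = w * (k⁻¹ * p₂.1 * k) := by rw [h5]; group)
  have h7 : π ⟨v, hvM⟩ = k * π ⟨t, htM⟩ * k⁻¹ := by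
    rw [hk, ← map_inv, ← map_mul, ← map_mul]
    exact congrArg π (Subtype.ext hnt.symm)
  rw [h7, ← h6]
  group

/-- The key lemma: the moved lines are different. -/
theorem moved_injective [Finite X] {p p' p₂ p₂' : {j : X // orderOf j = 2} × Fin (r - 1)}
    (hp' : (p'.1 : X) ∉ excluded (π ⟨t, htM⟩) (π ⟨a, haM⟩))
    (heq : conjS (C.conj p * C.conj p') (Subgroup.zpowers x) =
      conjS (C.conj p₂ * C.conj p₂') (Subgroup.zpowers x)) : p = p₂ := by
  set e := C.conj p * C.gen p' * (C.conj p)⁻¹ with he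
  have hne := moved_not_comm h hl hH hI C p p' hp'
  rw [← he] at hne
  have hc1 : C.gen p * e = e * C.gen p := by
    rw [he, ← C.conj_x p]
    calc C.conj p * x * (C.conj p)⁻¹ * (C.conj p * C.gen p' * (C.conj p)⁻¹)
        = C.conj p * (x * C.gen p') * (C.conj p)⁻¹ := by group
      _ = _ := by rw [← gen_comm_x h hl hH hI C p']; group
  have hc2 : C.gen p₂ * e = e * C.gen p₂ := by
    have he' : e = C.conj p * C.conj p' * x * (C.conj p * C.conj p')⁻¹ := by
      rw [he, ← C.conj_x p']; group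
    have hmem : e ∈ conjS (C.conj p₂ * C.conj p₂') (Subgroup.zpowers x) :=
      heq ▸ he'.symm ▸ conj_mem_conjS (Subgroup.mem_zpowers x)
    obtain ⟨w, hw, hwe⟩ := hmem
    obtain ⟨i, rfl⟩ := hw
    have hwe' : C.conj p₂ * C.conj p₂' * x ^ i * (C.conj p₂ * C.conj p₂')⁻¹ = e := hwe
    have h1 : Commute x ((C.conj p₂' * x * (C.conj p₂')⁻¹) ^ i) := by
      refine Commute.zpow_right ?_ i
      rw [C.conj_x p₂']
      exact (gen_comm_x h hl hH hI C p₂').symm
    rw [← hwe', ← C.conj_x p₂]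
    calc C.conj p₂ * x * (C.conj p₂)⁻¹ * (C.conj p₂ * C.conj p₂' * x ^ i * (C.conj p₂ * C.conj p₂')⁻¹)
        = C.conj p₂ * (x * (C.conj p₂' * x * (C.conj p₂')⁻¹) ^ i) * (C.conj p₂)⁻¹ := by
          rw [conj_zpow]; group
      _ = C.conj p₂ * ((C.conj p₂' * x * (C.conj p₂')⁻¹) ^ i * x) * (C.conj p₂)⁻¹ := by rw [h1.eq]
      _ = _ := by rw [conj_zpow]; group
  by_cases hj : p.1 = p₂.1
  · -- the same plane
    by_contra hp
    have hc : (p.2 : ℕ) ≠ (p₂.2 : ℕ) := fun e' => hp (Prod.ext hj (Fin.ext e'))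
    set m := (C.m p.1 : G) with hm
    set d := m⁻¹ * e * m with hd
    have h1 : Commute (x * z ^ ((p.2 : ℕ) + 1)) d := by
      show x * z ^ ((p.2 : ℕ) + 1) * d = d * (x * z ^ ((p.2 : ℕ) + 1))
      calc x * z ^ ((p.2 : ℕ) + 1) * d = m⁻¹ * (C.gen p * e) * m := by rw [hd, Choice.gen, ← hm]; group
        _ = d * (x * z ^ ((p.2 : ℕ) + 1)) := by rw [hc1, hd, Choice.gen, ← hm]; group
    have h2 : Commute (x * z ^ ((p₂.2 : ℕ) + 1)) d := by
      show x * z ^ ((p₂.2 : ℕ) + 1) * d = d * (x * z ^ ((p₂.2 : ℕ) + 1))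
      calc x * z ^ ((p₂.2 : ℕ) + 1) * d = m⁻¹ * (C.gen p₂ * e) * m := by
            rw [hd, Choice.gen, ← hj, ← hm]; group
        _ = d * (x * z ^ ((p₂.2 : ℕ) + 1)) := by rw [hc2, hd, Choice.gen, ← hj, ← hm]; group
    set w := (x * z ^ ((p.2 : ℕ) + 1))⁻¹ * (x * z ^ ((p₂.2 : ℕ) + 1)) with hw
    have h3 : d * w = w * d := (h1.inv_left.mul_left h2).eq.symm
    have hwz : w = (z ^ ((p.2 : ℕ) + 1))⁻¹ * z ^ ((p₂.2 : ℕ) + 1) := by rw [hw]; group
    have hwm : w ∈ Subgroup.zpowers z := by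
      rw [hwz]
      exact mul_mem (inv_mem (Subgroup.npow_mem_zpowers z _)) (Subgroup.npow_mem_zpowers z _)
    have hw1 : w ≠ 1 := fun e' => hc (by
      rw [hwz, inv_mul_eq_one] at e'
      have h4 := pow_injOn_Iio_orderOf (x := z) (show (p.2 : ℕ) + 1 ∈ Set.Iio (orderOf z) by
          rw [hH.z_order, Set.mem_Iio]; have := p.2.2; omega)
        (show (p₂.2 : ℕ) + 1 ∈ Set.Iio (orderOf z) by
          rw [hH.z_order, Set.mem_Iio]; have := p₂.2.2; omega) e'
      omega)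
    have hdz : Commute d z := commute_of_mem_zpowers h3
      (by rw [zpowers_eq_of_mem hH.z_order hwm hw1]; exact Subgroup.mem_zpowers z)
    have hdx : Commute d x := by
      have h5 : Commute d (x * z ^ ((p.2 : ℕ) + 1) * (z ^ ((p.2 : ℕ) + 1))⁻¹) :=
        h1.symm.mul_right (hdz.pow_right _).inv_right
      rwa [mul_inv_cancel_right] at h5
    have h6 : m⁻¹ * x * m ∈ Subgroup.zpowers x :=
      (Subgroup.mem_normalizer_iff''.1 (C.m p.1).2 x).1 (Subgroup.mem_zpowers x)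
    have h7 := commute_of_mem_zpowers hdx.eq h6
    refine hne ?_
    calc e * x = m * (d * (m⁻¹ * x * m)) * m⁻¹ := by rw [hd]; group
      _ = x * e := by rw [h7, hd]; group
  · -- different planes
    exfalso
    set H := Subgroup.centralizer ({x} : Set G) ⊓ Subgroup.centralizer ({e} : Set G) with hH'
    have hpH : C.gen p ∈ H := Subgroup.mem_inf.2 ⟨Subgroup.mem_centralizer_singleton_iff.2
      (gen_comm_x h hl hH hI C p), Subgroup.mem_centralizer_singleton_iff.2 hc1⟩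
    have hp₂H : C.gen p₂ ∈ H := Subgroup.mem_inf.2 ⟨Subgroup.mem_centralizer_singleton_iff.2
      (gen_comm_x h hl hH hI C p₂), Subgroup.mem_centralizer_singleton_iff.2 hc2⟩
    have hHM : H ≤ lineM x := inf_le_left.trans (centralizer_le_lineM x)
    haveI : Fact (Nat.Prime 2) := ⟨Nat.prime_two⟩
    have hHodd : Odd (Nat.card H) := by
      by_contra hev
      obtain ⟨⟨v, hvH⟩, hv2⟩ := exists_prime_orderOf_dvd_card' (G := H) 2
        (even_iff_two_dvd.1 (Nat.not_odd_iff_even.1 hev))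
      rw [← Subgroup.orderOf_coe] at hv2
      have hve := Subgroup.mem_centralizer_singleton_iff.1 hvH.2
      exact hj (Subtype.ext ((index_of_involution h hl hH hI C p p' p hne hv2 (hHM hvH) hve hc1).trans
        (index_of_involution h hl hH hI C p p' p₂ hne hv2 (hHM hvH) hve hc2).symm))
    obtain ⟨U, hUH, hUc, hUn, u, huU, hu⟩ := exists_moved hHodd hpH hp₂H (orderOf_gen h hl hH hI C p)
      (orderOf_gen h hl hH hI C p₂)
      (fun P hP hp => rGroup_comm h hl hH hI (hP.trans hHM) hp)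
      (fun e' => hj (index_eq_of_commute h hl hH hI C e'))
    set J := Subgroup.centralizer (U : Set G) ⊓ Subgroup.centralizer ({C.gen p} : Set G) with hJ'
    have hJodd : Odd (Nat.card J) := by
      by_contra hev
      obtain ⟨⟨v, hvJ⟩, hv2⟩ := exists_prime_orderOf_dvd_card' (G := J) 2
        (even_iff_two_dvd.1 (Nat.not_odd_iff_even.1 hev))
      rw [← Subgroup.orderOf_coe] at hv2
      change orderOf v = 2 at hv2
      obtain ⟨w, hw⟩ := isConj_iff.1 (h.hyp.isConj h.t_two hv2)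
      have hvp := Subgroup.mem_centralizer_singleton_iff.1 hvJ.2
      have hmem : ∀ y : G, v * y = y * v → Odd (orderOf y) → w⁻¹ * y * w ∈ coreC t := fun y hy ho => by
        refine h.hyp.mem_coreC h.t_two (Subgroup.mem_centralizer_singleton_iff.2 ?_) ?_
        · calc w⁻¹ * y * w * t = w⁻¹ * (y * (w * t * w⁻¹)) * w := by group
            _ = w⁻¹ * (w * t * w⁻¹ * y) * w := by rw [hw, hy]
            _ = t * (w⁻¹ * y * w) := by group
        · rwa [show w⁻¹ * y * w = MulAut.conj w⁻¹ y by simp, MulEquiv.orderOf_eq]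
      set h₀ := w⁻¹ * C.gen p * w with hh₀
      have hh₀o : orderOf h₀ = r := by
        rw [hh₀, show w⁻¹ * C.gen p * w = MulAut.conj w⁻¹ (C.gen p) by simp, MulEquiv.orderOf_eq,
          orderOf_gen h hl hH hI C p]
      have hh₀Q : h₀ ∈ Q := r_subgroup_le h hl hH
        (Subgroup.zpowers_le.2 (hmem _ hvp (by rw [orderOf_gen h hl hH hI C p]; exact Line.r_odd hl)))
        (zpowers_isPGroup hh₀o) (Subgroup.mem_zpowers h₀)
      set u₀ := w⁻¹ * u * w with hu₀
      have hu₀O : u₀ ∈ coreC t := hmem u (Subgroup.mem_centralizer_iff.1 hvJ.1 u huU).symm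
        (orderOf_odd_of_mem (Odd.of_dvd_nat hHodd (Subgroup.card_dvd_of_le hUH)) huU)
      have hcop : (Nat.card (conjS w⁻¹ U)).Coprime (Nat.card Q) := by
        rw [card_conjS, hH.card]
        exact hUc.pow_right 3
      have h1 : h₀ * u₀ = u₀ * h₀ := commute_of_coprime hcop (U := conjS w⁻¹ U)
        (by rw [mem_conjS, hu₀]; simpa [mul_assoc] using huU) hh₀Q
        (by
          rw [mem_conjS, hh₀, hu₀]
          simpa [mul_assoc] using hUn u huU)
        ((Subgroup.mem_normalizer_iff.1 (hH.normal hu₀O) h₀).1 hh₀Q)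
      refine hu ?_
      calc C.gen p * u = w * (h₀ * u₀) * w⁻¹ := by rw [hh₀, hu₀]; group
        _ = u * C.gen p := by rw [h1, hh₀, hu₀]; group
    -- `J` pulled back
    have hxJ : x ∈ J := Subgroup.mem_inf.2 ⟨Subgroup.mem_centralizer_iff.2 fun y hy =>
      Subgroup.mem_centralizer_singleton_iff.1 (Subgroup.mem_inf.1 (hUH hy)).1,
      Subgroup.mem_centralizer_singleton_iff.2 (gen_comm_x h hl hH hI C p).symm⟩
    have heJ : e ∈ J := Subgroup.mem_inf.2 ⟨Subgroup.mem_centralizer_iff.2 fun y hy =>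
      Subgroup.mem_centralizer_singleton_iff.1 (Subgroup.mem_inf.1 (hUH hy)).2,
      Subgroup.mem_centralizer_singleton_iff.2 hc1.symm⟩
    set J' := conjS (C.conj p)⁻¹ J with hJdef
    have hJM : J' ≤ lineM x := fun y hy => centralizer_le_lineM x (by
      have h1 := Subgroup.mem_centralizer_singleton_iff.1 (mem_conjS.1 hy).2
      rw [inv_inv, ← C.conj_x p] at h1
      rw [Subgroup.mem_centralizer_singleton_iff]
      calc y * x = (C.conj p)⁻¹ * (C.conj p * y * (C.conj p)⁻¹ * (C.conj p * x * (C.conj p)⁻¹)) * C.conj p := by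
            group
        _ = x * y := by rw [h1]; group)
    have hJ'odd : Odd (Nat.card ((J'.subgroupOf (lineM x)).map π)) := by
      refine Odd.of_dvd_nat hJodd ((Subgroup.card_map_dvd _ _).trans ?_)
      rw [Nat.card_congr (Subgroup.subgroupOfEquivOfLe hJM).toEquiv, hJdef, card_conjS]
    have hM : x * z ^ (r - ((p.2 : ℕ) + 1)) ∈ lineM x :=
      mul_mem (Subgroup.le_normalizer (Subgroup.mem_zpowers x)) (pow_mem (z_mem_lineM h hl hH) _)
    obtain ⟨w, hw, hw1, hwo, hwt, hwa⟩ := image_pullback h hl hH hI C p hM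
    have hm1 : x * z ^ (r - ((p.2 : ℕ) + 1)) ∈ J' := by
      have h1 : Subgroup.zpowers ((C.conj p)⁻¹ * x * C.conj p) ≤ J' := Subgroup.zpowers_le.2 (by
        simpa using conj_mem_conjS (g := (C.conj p)⁻¹) hxJ)
      rw [pullback h hl hH hI C p] at h1
      exact h1 (Subgroup.mem_zpowers _)
    have hm2 : C.gen p' ∈ J' := by
      rw [hJdef, mem_conjS, inv_inv]
      exact heJ
    obtain ⟨f1, f2, f3⟩ := zpow_image h hl hH hI (not_dvd_succ h hl hH hI C p'.2)
      (pow_mem (z_mem_lineM h hl hH) ((p'.2 : ℕ) + 1))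
    set k := π (C.m p'.1) with hk
    set y₀ := π ⟨z ^ ((p'.2 : ℕ) + 1), pow_mem (z_mem_lineM h hl hH) _⟩ with hy₀
    have hat : π ⟨a, haM⟩ * π ⟨t, htM⟩ = π ⟨t, htM⟩ * π ⟨a, haM⟩ := by
      rw [← map_mul, ← map_mul]
      exact congrArg π (Subtype.ext (h.four.comm h.a_mem h.t_mem))
    refine hp' ⟨p'.1.2, w, k * y₀ * k⁻¹, k * π ⟨a, haM⟩ * k⁻¹, ?_, ?_, hw1, fun e' => ?_,
      hwo ▸ Line.r_odd hl, ?_, hwt, hwa, ?_, ?_, ?_⟩
    · rw [← MulAut.conj_apply, MulEquiv.orderOf_eq, image_a_two h hl hH hI]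
    · rw [← involution_eq h hl hH hI C p'.1, ← hk]
      calc k * π ⟨a, haM⟩ * k⁻¹ * (k * π ⟨t, htM⟩ * k⁻¹) = k * (π ⟨a, haM⟩ * π ⟨t, htM⟩) * k⁻¹ := by group
        _ = _ := by rw [hat]; group
    · rw [conj_eq_one_iff] at e'
      rw [e', orderOf_one] at f1
      exact hr.out.ne_one f1.symm
    · rw [← MulAut.conj_apply, MulEquiv.orderOf_eq, f1]
      exact Line.r_odd hl
    · rw [← involution_eq h hl hH hI C p'.1, ← hk]
      calc k * y₀ * k⁻¹ * (k * π ⟨t, htM⟩ * k⁻¹) = k * (y₀ * π ⟨t, htM⟩) * k⁻¹ := by group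
        _ = _ := by rw [f2]; group
    · calc k * π ⟨a, haM⟩ * k⁻¹ * (k * y₀ * k⁻¹) * (k * π ⟨a, haM⟩ * k⁻¹)⁻¹
          = k * (π ⟨a, haM⟩ * y₀ * (π ⟨a, haM⟩)⁻¹) * k⁻¹ := by group
        _ = (k * y₀ * k⁻¹)⁻¹ := by rw [f3]; group
    · refine Odd.of_dvd_nat hJ'odd (Subgroup.card_dvd_of_le ?_)
      rw [Subgroup.closure_le]
      rintro y (rfl | rfl)
      · exact ⟨⟨_, hM⟩, Subgroup.mem_subgroupOf.2 hm1, hw⟩
      · refine ⟨⟨_, gen_mem h hl hH hI C p'⟩, Subgroup.mem_subgroupOf.2 hm2, ?_⟩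
        rw [image_gen h hl hH hI C p']

/-- Injectivity of the lines. -/
theorem line_injective {p p₂ : {j : X // orderOf j = 2} × Fin (r - 1)}
    (heq : conjS (C.conj p) (Subgroup.zpowers x) = conjS (C.conj p₂) (Subgroup.zpowers x)) : p = p₂ := by
  have hkey : ∀ q' : {j : X // orderOf j = 2} × Fin (r - 1),
      conjS (C.conj q') (Subgroup.zpowers x) = Subgroup.zpowers (C.gen q') := fun q' => by
    rw [conjS, MonoidHom.map_zpowers, ← C.conj_x q']
    rfl
  rw [hkey, hkey] at heq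
  have hmem : C.gen p₂ ∈ Subgroup.zpowers (C.gen p) := heq ▸ Subgroup.mem_zpowers _
  have hj : p.1 = p₂.1 := index_eq_of_commute h hl hH hI C (commute_of_mem_zpowers rfl hmem)
  refine Prod.ext hj (Fin.ext ?_)
  obtain ⟨i, hi⟩ := hmem
  change C.gen p ^ i = C.gen p₂ at hi
  rw [Choice.gen, Choice.gen, ← hj, conj_zpow] at hi
  have hi' : (x * z ^ ((p.2 : ℕ) + 1)) ^ i = x * z ^ ((p₂.2 : ℕ) + 1) :=
    mul_left_cancel (mul_right_cancel hi)
  rw [((show Commute z x from z_comm_x h hl hH).symm.pow_right _).mul_zpow] at hi'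
  have h3 : x⁻¹ * x ^ i = z ^ ((p₂.2 : ℕ) + 1) * ((z ^ ((p.2 : ℕ) + 1)) ^ i)⁻¹ := by
    rw [eq_mul_inv_iff_mul_eq, mul_assoc, hi', inv_mul_cancel_left]
  have h4 : x⁻¹ * x ^ i = 1 := line_inf_centre h hl hH
    (mul_mem (inv_mem (Subgroup.mem_zpowers x)) (zpow_mem (Subgroup.mem_zpowers x) i))
    (h3 ▸ mul_mem (Subgroup.npow_mem_zpowers z _)
      (inv_mem (zpow_mem (Subgroup.npow_mem_zpowers z _) i)))
  have hxi : x ^ (i - 1) = 1 := by
    rw [zpow_sub_one, ← h4]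
    exact ((Commute.refl x).zpow_left i).inv_right.eq
  have hri : (r : ℤ) ∣ i - 1 := hl.order ▸ orderOf_dvd_iff_zpow_eq_one.2 hxi
  rw [h4] at h3
  have hz' : z ^ ((p₂.2 : ℕ) + 1) = (z ^ ((p.2 : ℕ) + 1)) ^ i := mul_inv_eq_one.1 h3.symm
  have hzi : (z ^ ((p.2 : ℕ) + 1)) ^ i = z ^ ((p.2 : ℕ) + 1) := by
    obtain ⟨s, hs⟩ := hri
    have hzc : (z ^ ((p.2 : ℕ) + 1)) ^ r = 1 :=
      orderOf_dvd_iff_pow_eq_one.1 ((orderOf_pow_dvd _).trans (dvd_of_eq hH.z_order))
    rw [show i = 1 + (r : ℤ) * s by omega, zpow_add, zpow_one, zpow_mul, zpow_natCast, hzc, one_zpow, mul_one]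
  rw [hzi] at hz'
  have h5 := pow_injOn_Iio_orderOf (x := z) (show (p₂.2 : ℕ) + 1 ∈ Set.Iio (orderOf z) by
      rw [hH.z_order, Set.mem_Iio]; have := p₂.2.2; omega)
    (show (p.2 : ℕ) + 1 ∈ Set.Iio (orderOf z) by
      rw [hH.z_order, Set.mem_Iio]; have := p.2.2; omega) hz'
  omega

omit C in
/-- The second level of the count. -/
theorem count_le [Finite X] :
    (Nat.card {j : X // orderOf j = 2} * (r - 1)) *
      ((Nat.card {j : X // orderOf j = 2} - 2 * q) * (r - 1)) ≤ (lineM x).index := by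
  classical
  obtain ⟨C⟩ := exists_choice h hl hH hI
  set S := excluded (π ⟨t, htM⟩) (π ⟨a, haM⟩) with hS
  let P := {j : X // orderOf j = 2} × Fin (r - 1)
  let P' := {j : {j : X // orderOf j = 2} // (j : X) ∉ S} × Fin (r - 1)
  let F : P × P' → G ⧸ lineM x := fun w => (C.conj w.1 * C.conj (w.2.1.1, w.2.2) : G)
  have hF : Function.Injective F := by
    rintro ⟨p, p'⟩ ⟨p₂, p₂'⟩ e
    have e1 : conjS (C.conj p * C.conj (p'.1.1, p'.2)) (Subgroup.zpowers x) =
        conjS (C.conj p₂ * C.conj (p₂'.1.1, p₂'.2)) (Subgroup.zpowers x) :=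
      conjS_eq_iff_mem.2 (QuotientGroup.eq.1 e)
    obtain rfl := moved_injective h hl hH hI C (p := p) (p' := (p'.1.1, p'.2)) p'.1.2 e1
    rw [conjS_mul, conjS_mul] at e1
    have e2 := congrArg (conjS (C.conj p)⁻¹) e1
    rw [conjS_inv_conjS, conjS_inv_conjS] at e2
    have e3 := line_injective h hl hH hI C e2
    obtain ⟨e4, e5⟩ := Prod.mk.inj e3
    exact Prod.ext rfl (Prod.ext (Subtype.ext e4) e5)
  have h1 := Nat.card_le_card_of_injective F hF
  rw [Nat.card_prod, Nat.card_prod, Nat.card_prod, Nat.card_fin, ← Subgroup.index_eq_card] at h1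
  refine le_trans (Nat.mul_le_mul_left _ (Nat.mul_le_mul_right _ ?_)) h1
  have h2 : Nat.card {j : X // orderOf j = 2} - S.ncard ≤ Nat.card {j : {j : X // orderOf j = 2} // (j : X) ∉ S} := by
    have h3 := Set.ncard_le_ncard_sdiff_add_ncard {j : X | orderOf j = 2} S (Set.toFinite _)
    have h4 : ({j : X | orderOf j = 2} \ S).ncard = Nat.card {j : {j : X // orderOf j = 2} // (j : X) ∉ S} := by
      rw [← Nat.card_coe_set_eq]
      exact Nat.card_congr (Equiv.subtypeSubtypeEquivSubtypeInter (fun j : X => orderOf j = 2) (fun j => j ∉ S)).symm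
    rw [h4, ← Nat.card_coe_set_eq] at h3
    have h5 : Nat.card ↑{j : X | orderOf j = 2} = Nat.card {j : X // orderOf j = 2} := rfl
    omega
  have := hI.excluded_le
  rw [← hS] at this
  omega

omit C in
/-- No line with an extraspecial group has so few conjugates. -/
theorem absurd_of_bound [Finite X]
    (hb : 36 * ((lineM x).index : ℤ) * ((q : ℤ) * ((q : ℤ) + ε)) ≤ 728 * ((r : ℤ) ^ 2) ^ 3 * (T : ℤ) ^ 2) :
    False := by
  have hT : r ≤ T := Nat.le_of_dvd hI.odd.pos (r_dvd_T h hl hH hI)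
  exact count_absurd (Line.three_le hl) hT hI.sign hI.q_eq (card_involutions h hl hH hI)
    (count_le h hl hH hI) hb

end Cfsg.Agent.Lib.GorensteinWalter.Four.LevelTwo
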