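import Cfsg.Agent.Lib.GorensteinWalter.Four.LineModel
import Cfsg.Agent.Lib.GorensteinWalter.Four.LevelTwoCount

/-!
# Gorenstein–Walter, Sylow 2-subgroups of order four: the extraspecial case is impossible

Second level of the count of `notes/gorenstein_walter_four.md`, section 4.
-/

set_option autoImplicit false
set_option linter.style.haveILetI false

universe u

namespace Cfsg.Agent.Lib.GorensteinWalter

open Cfsg.Agent.Lib.Fusion.Dihedral

/-- The extraspecial case is impossible. -/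
theorem propLevelTwo (hMK : PropModelKlein.{u}) : PropLevelTwo.{u} := by
  intro G _ _ V t a h r x z Q hr hl hk hH
  haveI : Fact r.Prime := ⟨hr⟩
  obtain ⟨T, q, ε, hm⟩ := hl.exists_model h hr hMK
  set c := (Subgroup.centralizer ({lineF x ⟨t, hm.mt⟩} : Set (lineQ x))).index with hc
  have hI : Four.LevelTwo.Image t a x hm.mt hm.ma (lineF x) T q ε := by
    refine ⟨QuotientGroup.mk'_surjective _, fun g => ⟨fun e => ⟨g, (QuotientGroup.eq_one_iff g).1 e, rfl⟩,
      fun hg => ?_⟩, hm.eps, hm.odd, hm.q_eq, ?_, hm.torus, hm.borel⟩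
    · obtain ⟨w, hw, hwe⟩ := hg
      exact (QuotientGroup.eq_one_iff g).2 (Subtype.ext hwe ▸ hw)
    · rw [← Subgroup.index_mul_card (Subgroup.centralizer ({lineF x ⟨t, hm.mt⟩} : Set (lineQ x))),
        Nat.cast_mul, ← mul_assoc, hm.two_index]
  refine Four.LevelTwo.absurd_of_bound h hl hH hI ?_
  have h1 : 36 * (lineM x).index * c ≤ 364 * (r ^ 2) ^ 3 * T ^ 2 :=
    hm.bound.trans (Nat.mul_le_mul_right _ (Nat.mul_le_mul_left _ (Nat.pow_le_pow_left hk 3)))
  have h2 : ((36 * (lineM x).index * c : ℕ) : ℤ) ≤ ((364 * (r ^ 2) ^ 3 * T ^ 2 : ℕ) : ℤ) := by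
    exact_mod_cast h1
  push_cast at h2
  rw [← hm.two_index, ← hc]
  linarith

end Cfsg.Agent.Lib.GorensteinWalter
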