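import Cfsg.Agent.Lib.GorensteinWalter.Four.Linear
import Cfsg.Agent.Lib.GorensteinWalter.InterfaceH
import Cfsg.Agent.Lib.GorensteinWalter.StronglyEmbedded

/-!
# Gorenstein–Walter, Sylow 2-subgroups of order four: sections 1 and 2

A minimal counterexample with `|S| = 4` and a nontrivial four-group core gives a `FourSetting`.
-/

set_option autoImplicit false
set_option linter.unusedSectionVars false
set_option linter.style.haveILetI false

namespace Cfsg.Agent.Lib.GorensteinWalter.Four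

open Cfsg.Agent.Lib.Fusion.Dihedral

universe u

variable {G : Type u} [Group G] [Finite G]

namespace Ctx

variable {t a : G} {V : Subgroup G} (h : Ctx t a V)
include h

/-- The inverted elements generate `O(C(t))`, if there is no invariant linear character. -/
theorem closure_invSet (hlin : ∀ φ : ↥(coreC t) →* ℂˣ, (∀ i ∈ invSet t a, φ i = 1) → φ = 1) :
    Subgroup.closure (invSet t a) = ⊤ := by
  set K := Subgroup.closure (invSet t a) with hK
  have hD : ∀ d : ↥(coreC t), (d : G) ∈ coreV V → ∀ y ∈ K, d * y * d⁻¹ ∈ K := by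
    intro d hd y hy
    induction hy using Subgroup.closure_induction with
    | mem i hi =>
      refine Subgroup.subset_closure (mem_invSet.2 ?_)
      simp only [Subgroup.coe_mul, Subgroup.coe_inv]
      calc a * ((d : G) * i * (d : G)⁻¹) * a⁻¹
          = (a * (d : G) * a⁻¹) * (a * (i : G) * a⁻¹) * (a * (d : G) * a⁻¹)⁻¹ := by group
        _ = ((d : G) * i * (d : G)⁻¹)⁻¹ := by
          rw [h.coreV_comm hd h.a_mem, mul_inv_cancel_right, mem_invSet.1 hi]; group
    | one => simp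
    | mul y z _ _ hy hz =>
      rw [show d * (y * z) * d⁻¹ = (d * y * d⁻¹) * (d * z * d⁻¹) by group]
      exact mul_mem hy hz
    | inv y _ hy =>
      rw [show d * y⁻¹ * d⁻¹ = (d * y * d⁻¹)⁻¹ by group]
      exact inv_mem hy
  haveI hKn : K.Normal := ⟨fun y hy o => by
    obtain ⟨i, hi, hd⟩ := h.exists_decomp o
    have hiK : i ∈ K := Subgroup.subset_closure hi
    rw [show o * y * o⁻¹ = (o * i⁻¹) * (i * y * i⁻¹) * (o * i⁻¹)⁻¹ by group]
    exact hD _ hd _ (mul_mem (mul_mem hiK hy) (inv_mem hiK))⟩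
  by_contra hne
  haveI : Group.IsSolvable ↥(coreC t) := isSolvable_coreC t
  haveI : Group.IsSolvable (↥(coreC t) ⧸ K) :=
    Group.isSolvable_of_surjective (f := QuotientGroup.mk' K) (QuotientGroup.mk'_surjective K)
  haveI : Nontrivial (↥(coreC t) ⧸ K) := QuotientGroup.nontrivial_iff.2 hne
  obtain ⟨-, z, -, hz⟩ := SetLike.lt_iff_le_and_exists.1
    (Group.IsSolvable.commutator_lt_top_of_nontrivial (↥(coreC t) ⧸ K))
  have hz1 : Abelianization.of z ≠ 1 := fun e => hz ((QuotientGroup.eq_one_iff z).1 e)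
  obtain ⟨f, hf⟩ := CommGroup.exists_apply_ne_one_of_hasEnoughRootsOfUnity
    (Abelianization (↥(coreC t) ⧸ K)) ℂ hz1
  obtain ⟨o, rfl⟩ := QuotientGroup.mk'_surjective K z
  have := hlin ((f.comp Abelianization.of).comp (QuotientGroup.mk' K)) fun i hi => by
    rw [MonoidHom.comp_apply, show QuotientGroup.mk' K i = 1 from
      (QuotientGroup.eq_one_iff i).2 (Subgroup.subset_closure hi), map_one]
  exact hf (DFunLike.congr_fun this o)

/-- The centralizer of an element of prime order of `O(C(V))` is fused at `V`. -/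
theorem fused_of_prime (hlin : ∀ φ : ↥(coreC t) →* ℂˣ, (∀ i ∈ invSet t a, φ i = 1) → φ = 1)
    (hNC : ∀ r : ℕ, r.Prime → r ∣ Nat.card ↥(coreV V) → ∀ W H : Subgroup G, ¬ Conf r W H)
    {x : G} (hx : x ∈ coreV V) (hp : (orderOf x).Prime) :
    FusedIn V (Subgroup.centralizer ({x} : Set G)) := by
  haveI : Fact (orderOf x).Prime := ⟨hp⟩
  have hxp : IsPGroup (orderOf x) (Subgroup.zpowers (⟨x, hx⟩ : ↥(coreV V))) :=
    IsPGroup.of_card (n := 1) (by rw [Nat.card_zpowers, pow_one, Subgroup.orderOf_mk])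
  obtain ⟨P, hP⟩ := hxp.exists_le_sylow
  have hxP : (⟨x, hx⟩ : ↥(coreV V)) ∈ (P : Subgroup ↥(coreV V)) := hP (Subgroup.mem_zpowers _)
  have hP1 : (P : Subgroup ↥(coreV V)) ≠ ⊥ := fun e => by
    rw [e, Subgroup.mem_bot] at hxP
    have : x = 1 := congrArg Subtype.val hxP
    rw [this, orderOf_one] at hp
    exact Nat.not_prime_one hp
  have hlt : Nat.card (P : Subgroup ↥(coreV V)) * orderOf x ∣ Nat.card ↥(coreC t) := by
    by_contra hfull
    have hle : (⊤ : Subgroup ↥(coreC t)) ≤ Cfsg.pPrimeCore (orderOf x) ↥(coreC t) := by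
      rw [← h.closure_invSet hlin, Subgroup.closure_le]
      intro i hi
      obtain ⟨j, hj, hje⟩ := h.inv_mem_primeCore P hfull hi
      exact Subtype.ext hje ▸ hj
    have hd := Subgroup.orderOf_dvd_natCard _ (hle (Subgroup.mem_top (⟨x, h.coreV_le_core hx⟩ : ↥(coreC t))))
    rw [Subgroup.orderOf_mk] at hd
    exact hp.one_lt.ne' (Nat.eq_one_of_dvd_coprimes
      (Cores.pPrimeCore_coprime (G := ↥(coreC t)) (orderOf x)) hd dvd_rfl)
  obtain ⟨hV, hVC, hmove⟩ := h.fused_centralizer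
    (hNC _ hp (Subgroup.orderOf_dvd_natCard _ hx)) P hP1 hlt
  have hle : Subgroup.centralizer
      (((P : Subgroup ↥(coreV V)).map (coreV V).subtype : Subgroup G) : Set G) ≤
        Subgroup.centralizer ({x} : Set G) :=
    Subgroup.centralizer_le (Set.singleton_subset_iff.2 ⟨⟨x, hx⟩, hxP, rfl⟩)
  exact ⟨hV, hVC.trans hle, fun v hv hv1 w hw hw1 => by
    obtain ⟨g, hg, hg'⟩ := hmove v hv hv1 w hw hw1
    exact ⟨g, hle hg, hg'⟩⟩

end Ctx

/-- Sections 1 and 2: a nontrivial four-group core gives a `FourSetting`. -/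
theorem exists_fourSetting (hNo : PropNoConf.{u}) (hP : BenderConsumers23.PropPartOne.{u})
    (hMain : BenderSuzuki.PropMain.{u, u}) (hG : Hyp G) (hK : ¬ IsKnownD G)
    (h4 : ∀ S : Sylow 2 G, Nat.card (S : Subgroup G) = 4) {V : Subgroup G} (hV : IsFour V)
    (hD : coreV V ≠ ⊥) : ∃ t a : G, FourSetting V t a := by
  obtain ⟨t, ht, ht1⟩ := V.bot_or_exists_ne_one.resolve_left hV.ne_bot
  obtain ⟨a, h⟩ := exists_ctx hG h4 hV ht ht1
  have hSE : ∀ H : Subgroup G, ¬ Cfsg.IsStronglyEmbedded H := fun H hH =>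
    hK (known_of_stronglyEmbedded hP hMain hG hH)
  have hNC : ∀ r : ℕ, r.Prime → r ∣ Nat.card ↥(coreV V) → ∀ W H : Subgroup G, ¬ Conf r W H := by
    intro r hr hrd W H hC
    haveI : Fact r.Prime := ⟨hr⟩
    have hr2 : r ≠ 2 := by
      rintro rfl
      exact (coreV_odd V).not_two_dvd_nat hrd
    obtain ⟨x, hx⟩ := exists_prime_orderOf_dvd_card' r hrd
    have hx' : orderOf (x : G) = r := by rw [Subgroup.orderOf_coe, hx]
    have hp : IsPGroup r (Subgroup.zpowers (x : G)) :=
      IsPGroup.of_card (n := 1) (by rw [Nat.card_zpowers, pow_one, hx'])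
    have hbot := (hNo G hG hK r hr2 W H hC).free V _ hV hp (Subgroup.zpowers_le.2 (coreV_le V x.2))
    rw [Subgroup.zpowers_eq_bot] at hbot
    rw [hbot, orderOf_one] at hx'
    exact hr.one_lt.ne hx'
  have hnc := h.exists_not_comm hSE hD
  have hlin : ∀ φ : ↥(coreC t) →* ℂˣ, (∀ i ∈ Ctx.invSet t a, φ i = 1) → φ = 1 :=
    fun φ hI => h.linear_eq_one hnc hNC φ hI
  refine ⟨t, a, ⟨hG, hK, h4, hV, ht, h.a_mem, ht1, h.a_ne_one, h.a_ne, hD, hnc, hSE, hNC, ?_, ?_,
    h.bound hnc⟩⟩
  · intro y hy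
    have h1 : (⟨y, hy⟩ : ↥(coreC t)) ∈ Subgroup.closure (Ctx.invSet t a) := h.closure_invSet hlin ▸ trivial
    have h2 := Subgroup.mem_map_of_mem (coreC t).subtype h1
    rw [MonoidHom.map_closure] at h2
    refine Subgroup.closure_mono ?_ h2
    rintro _ ⟨i, hi, rfl⟩
    exact ⟨i.2, hi⟩
  · exact fun x hx hp => h.fused_of_prime hlin hNC hx hp

/-- Sylow 2-subgroups of order four: four-group cores are trivial, modulo sections 3 and 4. -/
theorem propFourSylow_of (hNo : PropNoConf.{u}) (hP : BenderConsumers23.PropPartOne.{u})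
    (hMain : BenderSuzuki.PropMain.{u, u}) (hPlane : PropFourPlane.{u}) (h1 : PropLevelOne.{u})
    (h2 : PropLevelTwo.{u}) : PropFourSylow.{u} := by
  intro G _ _ hG hK h4 V hV
  by_contra hD
  obtain ⟨t, a, h⟩ := exists_fourSetting hNo hP hMain hG hK h4 hV hD
  exact false_of_fourSetting hPlane h1 h2 h

end Cfsg.Agent.Lib.GorensteinWalter.Four
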