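import Cfsg.Agent.Lib.GorensteinWalter.ModelsC.PSL

/-!
# The Klein model: tori through a common fixed point

In a group between `PSL(2,q)` and its automorphism group, two inner elements of odd order generating
a subgroup of odd order lie in tori of one involution, or fix a common point of the projective line.
At most `2q` involutions share a fixed point with a given one.
-/

set_option autoImplicit false
set_option linter.unusedSectionVars false
set_option linter.style.haveILetI false

universe u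

namespace Cfsg.Agent.Lib.GorensteinWalter.ModelKlein

open Cfsg.Agent.Lib.Fusion.Dihedral Cfsg.Agent.Lib.GorensteinWalter.Model Cfsg.Agent.Lib.AutPSL
open Cfsg.Agent.Lib.GWConsumers70 Cfsg.Agent.Lib.GorensteinWalter.ModelsC Matrix
open scoped MatrixGroups

section Mat

variable {F : Type} [Field F]

local notation "M2" => Matrix (Fin 2) (Fin 2) F

theorem mulVec_coord (A : M2) (v : Fin 2 → F) (i : Fin 2) :
    (A *ᵥ v) i = A i 0 * v 0 + A i 1 * v 1 := by
  simp [Matrix.mulVec, dotProduct, Fin.sum_univ_two]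

/-- An eigenspace of a trace zero matrix is a line. -/
theorem eig_dep {A : M2} (h2 : (2 : F) ≠ 0) (hA : A.trace = 0) (hA0 : A ≠ 0) {μ : F} {v w : Fin 2 → F}
    (hv : v ≠ 0) (hav : A *ᵥ v = μ • v) (haw : A *ᵥ w = μ • w) : ∃ k : F, w = k • v := by
  have a0 := congrFun hav 0
  have a1 := congrFun hav 1
  have b0 := congrFun haw 0
  have b1 := congrFun haw 1
  simp only [mulVec_coord, Pi.smul_apply, smul_eq_mul] at a0 a1 b0 b1
  rw [trace_fin_two] at hA
  by_cases hD : v 0 * w 1 - v 1 * w 0 = 0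
  · by_cases h0 : v 0 = 0
    · have h1 : v 1 ≠ 0 := fun h1 => hv (funext fun i => by fin_cases i <;> simp [h0, h1])
      have hw0 : w 0 = 0 := by
        rw [h0, zero_mul, zero_sub, neg_eq_zero] at hD
        exact (mul_eq_zero.1 hD).resolve_left h1
      refine ⟨w 1 / v 1, funext fun i => ?_⟩
      fin_cases i <;> simp [h0, hw0, h1]
    · refine ⟨w 0 / v 0, funext fun i => ?_⟩
      fin_cases i
      · simp [h0]
      · simp only [Fin.mk_one, Pi.smul_apply, smul_eq_mul]
        field_simp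
        linear_combination hD
  · exfalso
    have e00 : A 0 0 = μ := sub_eq_zero.1 ((mul_eq_zero.1
      (show (A 0 0 - μ) * (v 0 * w 1 - v 1 * w 0) = 0 by
        linear_combination w 1 * a0 - v 1 * b0)).resolve_right hD)
    have e01 : A 0 1 = 0 := (mul_eq_zero.1
      (show A 0 1 * (v 0 * w 1 - v 1 * w 0) = 0 by
        linear_combination v 0 * b0 - w 0 * a0)).resolve_right hD
    have e10 : A 1 0 = 0 := (mul_eq_zero.1
      (show A 1 0 * (v 0 * w 1 - v 1 * w 0) = 0 by
        linear_combination w 1 * a1 - v 1 * b1)).resolve_right hD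
    have e11 : A 1 1 = μ := sub_eq_zero.1 ((mul_eq_zero.1
      (show (A 1 1 - μ) * (v 0 * w 1 - v 1 * w 0) = 0 by
        linear_combination v 0 * b1 - w 0 * a1)).resolve_right hD)
    have hμ : μ = 0 := (mul_eq_zero.1 (show (2 : F) * μ = 0 by
      linear_combination hA - e00 - e11)).resolve_left h2
    refine hA0 ?_
    ext i j
    fin_cases i <;> fin_cases j <;> simp [e00, e01, e10, e11, hμ]

/-- The free parameter of a trace zero matrix fixing `v`. -/
def entry [DecidableEq F] (v : Fin 2 → F) (h : M2) : F := if v 0 = 0 then h 1 0 else h 0 1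

/-- A trace zero matrix fixing `v` is given by one entry. -/
theorem fix_eq [DecidableEq F] {v : Fin 2 → F} (hv : v ≠ 0) {h h' : M2} (ht : h.trace = 0)
    (ht' : h'.trace = 0) (hf : h *ᵥ v = v) (hf' : h' *ᵥ v = v) (he : entry v h = entry v h') :
    h = h' := by
  have a0 := congrFun hf 0
  have a1 := congrFun hf 1
  have b0 := congrFun hf' 0
  have b1 := congrFun hf' 1
  simp only [mulVec_coord] at a0 a1 b0 b1
  rw [trace_fin_two] at ht ht'
  unfold entry at he
  by_cases h0 : v 0 = 0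
  · rw [if_pos h0, if_pos h0] at he
    have h1 : v 1 ≠ 0 := fun h1 => hv (funext fun i => by fin_cases i <;> simp [h0, h1])
    have e01 : h 0 1 = h' 0 1 := mul_right_cancel₀ h1 (by linear_combination a0 - b0 + (h' 0 0 - h 0 0) * h0)
    have e11 : h 1 1 = h' 1 1 := mul_right_cancel₀ h1 (by linear_combination a1 - b1 + (h' 1 0 - h 1 0) * h0)
    have e00 : h 0 0 = h' 0 0 := by linear_combination ht - ht' - e11
    ext i j
    fin_cases i <;> fin_cases j <;> assumption
  · rw [if_neg h0, if_neg h0] at he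
    have e00 : h 0 0 = h' 0 0 := mul_right_cancel₀ h0 (by linear_combination a0 - b0 - v 1 * he)
    have e11 : h 1 1 = h' 1 1 := by linear_combination ht - ht' - e00
    have e10 : h 1 0 = h' 1 0 := mul_right_cancel₀ h0 (by linear_combination a1 - b1 - v 1 * e11)
    ext i j
    fin_cases i <;> fin_cases j <;> assumption

theorem tfree_mulVec {A : M2} {v : Fin 2 → F} {k : F} (h : A *ᵥ v = k • v) :
    tfree A *ᵥ v = (k - A.trace / 2) • v := by
  rw [tfree, Matrix.sub_mulVec, Matrix.smul_mulVec, Matrix.one_mulVec, h, sub_smul]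

theorem tfree_commute_right {A N : M2} (h : A * N = N * A) : tfree A * N = N * tfree A := by
  simp only [tfree, sub_mul, mul_sub, Matrix.smul_mul, Matrix.mul_smul, one_mul, mul_one, h]

end Mat

variable {F : Type} [Field F] [Fintype F]

local notation "SL2" => Matrix.SpecialLinearGroup (Fin 2) F
local notation "PSL2" => Matrix.ProjectiveSpecialLinearGroup (Fin 2) F
local notation "GL2" => GL (Fin 2) F
local notation "M2" => Matrix (Fin 2) (Fin 2) F

theorem eig_ne_zero (g : GL2) {v : Fin 2 → F} (hv : v ≠ 0) {ν : F} (h : (g : M2) *ᵥ v = ν • v) : ν ≠ 0 := by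
  intro h0
  rw [h0, zero_smul] at h
  apply hv
  have := congrArg (fun w => ((g⁻¹ : GL2) : M2) *ᵥ w) h
  simpa only [Matrix.mulVec_mulVec, Units.inv_mul, Matrix.one_mulVec, Matrix.mulVec_zero] using this

theorem eig_sq {g : GL2} (htr : (g : M2).trace = 0) {v : Fin 2 → F} (hv : v ≠ 0) {ν : F}
    (h : (g : M2) *ᵥ v = ν • v) : ν * ν = -(g : M2).det := by
  refine smul_left_injective F hv ?_
  show (ν * ν) • v = (-(g : M2).det) • v
  have h1 : ((g : M2) * (g : M2)) *ᵥ v = (ν * ν) • v := by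
    rw [← Matrix.mulVec_mulVec, h, Matrix.mulVec_smul, h, smul_smul]
  rw [← h1, sq_eq_of_trace_zero htr, Matrix.smul_mulVec, Matrix.one_mulVec]

variable {X : Type u} [Group X] [Finite X] (L : Subgroup X) [L.Normal]
  (e : L ≃* Matrix.ProjectiveSpecialLinearGroup (Fin 2) F)

/-- `g` and `h` have a common eigenvector. -/
def Common (g h : GL2) : Prop :=
  ∃ v : Fin 2 → F, v ≠ 0 ∧ (∃ ν : F, (g : M2) *ᵥ v = ν • v) ∧ ∃ c : F, (h : M2) *ᵥ v = c • v

variable (hF : Odd (Fintype.card F)) (hc : Subgroup.centralizer (L : Set X) = ⊥) (hD : HasDihedralSylow X)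

include e hc hF in
/-- At most `2q` involutions share a fixed point with a given one. -/
theorem ncard_common {t : X} {g : GL2} (hg : Induces L e t g) :
    {j : X | j = t ∨ ∃ h : GL2, Induces L e j h ∧ Common g h}.ncard ≤ 2 * Fintype.card F := by
  classical
  by_cases hex : ∃ v : Fin 2 → F, v ≠ 0 ∧ ∃ ν : F, (g : M2) *ᵥ v = ν • v
  · obtain ⟨v₀, hv₀, ν₀, hν₀⟩ := hex
    let pick : Bool → (Fin 2 → F) := fun σ => if σ then v₀ else
      if h : ∃ v : Fin 2 → F, v ≠ 0 ∧ (g : M2) *ᵥ v = (-ν₀) • v then h.choose else 0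
    set Sset := {j : X | j = t ∨ ∃ h : GL2, Induces L e j h ∧ Common g h}
    have key : ∀ j : Sset, ∃ p : Bool × F, ∃ (h : GL2) (c : F), Induces L e (j : X) h ∧ c ≠ 0 ∧
        pick p.1 ≠ 0 ∧ (h : M2) *ᵥ pick p.1 = c • pick p.1 ∧ p.2 = entry (pick p.1) (c⁻¹ • (h : M2)) := by
      rintro ⟨j, hj⟩
      obtain ⟨h, hh, v, hv, ⟨ν, hν⟩, c, hcv⟩ : ∃ h : GL2, Induces L e j h ∧ Common g h := by
        rcases hj with rfl | hj
        · exact ⟨g, hg, v₀, hv₀, ⟨ν₀, hν₀⟩, ν₀, hν₀⟩
        · exact hj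
      obtain ⟨σ, k, hσ, hk⟩ : ∃ (σ : Bool) (k : F), pick σ ≠ 0 ∧ pick σ = k • v := by
        rcases mul_self_eq_mul_self_iff.1 ((eig_sq hg.2 hv hν).trans (eig_sq hg.2 hv₀ hν₀).symm) with hs | hs
        · obtain ⟨k, hk⟩ := eig_dep (Ring.two_ne_zero (ringChar_ne_two hF)) hg.2 g.ne_zero hv
            (hs ▸ hν) hν₀
          exact ⟨true, k, by simpa [pick] using hv₀, by simpa [pick] using hk⟩
        · have hex' : ∃ v : Fin 2 → F, v ≠ 0 ∧ (g : M2) *ᵥ v = (-ν₀) • v := ⟨v, hv, hs ▸ hν⟩
          obtain ⟨k, hk⟩ := eig_dep (Ring.two_ne_zero (ringChar_ne_two hF)) hg.2 g.ne_zero hv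
            (hs ▸ hν) hex'.choose_spec.2
          have hp : pick false = hex'.choose := (if_neg Bool.false_ne_true).trans (dif_pos hex')
          exact ⟨false, k, hp ▸ hex'.choose_spec.1, hp ▸ hk⟩
      refine ⟨(σ, entry (pick σ) (c⁻¹ • (h : M2))), h, c, hh, eig_ne_zero h hv hcv, hσ, ?_, rfl⟩
      show (h : M2) *ᵥ pick σ = c • pick σ
      rw [hk, Matrix.mulVec_smul, hcv, smul_comm]
    choose p h c hh hc0 hp0 hpv hp using key
    have hinj : Function.Injective p := by
      intro i j hij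
      have hfix : ∀ i, (c i)⁻¹ • (h i : M2) *ᵥ pick (p i).1 = pick (p i).1 := fun i => by
        rw [hpv, smul_smul, inv_mul_cancel₀ (hc0 i), one_smul]
      have hm : (c i)⁻¹ • (h i : M2) = (c j)⁻¹ • (h j : M2) := by
        refine fix_eq (hp0 i) ?_ ?_ ?_ ?_ ?_
        · rw [trace_smul, (hh i).2, smul_zero]
        · rw [trace_smul, (hh j).2, smul_zero]
        · rw [Matrix.smul_mulVec]; exact hfix i
        · rw [Matrix.smul_mulVec, hij]; exact hfix j
        · rw [← hp i, hij, ← hp j]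
      have hm' : (h i : M2) = (c i * (c j)⁻¹) • (h j : M2) := by
        rw [← smul_smul, ← hm, smul_smul, mul_inv_cancel₀ (hc0 i), one_smul]
      exact Subtype.ext (eq_of_conjAut L e hc (hh i).1 (hh j).1 hm')
    have := Nat.card_le_card_of_injective p hinj
    rwa [Nat.card_coe_set_eq, Nat.card_prod, Nat.card_eq_fintype_card (α := F),
      Nat.card_eq_fintype_card (α := Bool), Fintype.card_bool] at this
  · have hsub : {j : X | j = t ∨ ∃ h : GL2, Induces L e j h ∧ Common g h} ⊆ {t} := by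
      rintro j (hj | ⟨h, -, v, hv, hν, -⟩)
      · exact hj
      · exact absurd ⟨v, hv, hν⟩ hex
    have h1 := Set.ncard_le_ncard hsub (Set.toFinite _)
    rw [Set.ncard_singleton] at h1
    have := Fintype.card_pos (α := F)
    omega

include e hF in
/-- A lift of an element `z` of odd order of the torus of `g`. -/
theorem exists_torus {t z : X} {g : GL2} (hg : Induces L e t g) (hz : z ∈ L) (hzt : z * t = t * z)
    (ho : Odd (orderOf z)) (hz1 : z ≠ 1) :
    ∃ s : SL2, (QuotientGroup.mk s : PSL2) = e ⟨z, hz⟩ ∧ Odd (orderOf s) ∧ tfree (s : M2) ≠ 0 ∧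
      ∃ a : F, (g : M2) = a • tfree (s : M2) := by
  have h2 : (2 : F) ≠ 0 := Ring.two_ne_zero (ringChar_ne_two hF)
  obtain ⟨s, hs, hsc, hso⟩ := exists_lift_commute L e h2 hg.1 (l := ⟨z, hz⟩) hzt ho
  have h0 : tfree (s : M2) ≠ 0 := by
    intro h0
    apply hz1
    have hs1 : (QuotientGroup.mk s : PSL2) = 1 :=
      ((mk_eq_mk_iff (1 : SL2) s).2 ⟨(s : M2).trace / 2, by
        rw [Matrix.SpecialLinearGroup.coe_one]; exact sub_eq_zero.1 h0⟩).symm
    rw [hs, ← map_one e] at hs1
    exact congrArg Subtype.val (e.injective hs1)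
  obtain ⟨a, ha⟩ := prop_of_commute h2 hg.2 (trace_tfree h2 _) h0
    (tfree_commute_right (mem_slComm.1 hsc)).symm
  exact ⟨s, hs, hso, h0, a, ha⟩

include e hF hc in
/-- An element of the torus centralises no other involution. -/
theorem eq_of_commute {t j z : X} {g h : GL2} (hg : Induces L e t g) (hh : Induces L e j h) (hz : z ∈ L)
    (hzt : z * t = t * z) (hzj : z * j = j * z) (ho : Odd (orderOf z)) (hz1 : z ≠ 1) : j = t := by
  have h2 : (2 : F) ≠ 0 := Ring.two_ne_zero (ringChar_ne_two hF)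
  obtain ⟨s, hs, hso, hs0, a, ha⟩ := exists_torus L e hF hg hz hzt ho hz1
  obtain ⟨s', hs', hso', -, b, hb⟩ := exists_torus L e hF hh hz hzj ho hz1
  rw [lift_unique h2 (hs'.trans hs.symm) hso' hso] at hb
  have ha0 : a ≠ 0 := fun e0 => g.ne_zero (by rw [ha, e0, zero_smul])
  exact eq_of_conjAut L e hc hh.1 hg.1 (κ := b * a⁻¹)
    (by rw [hb, ha, smul_smul, mul_assoc, inv_mul_cancel₀ ha0, mul_one])

include e hF hc in
/-- Tori meeting in a subgroup of odd order. -/
theorem eq_or_common {t j y y' : X} {g h : GL2} (hg : Induces L e t g) (hh : Induces L e j h)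
    (hy : y ∈ L) (hy' : y' ∈ L) (hy1 : y ≠ 1) (hy1' : y' ≠ 1) (hyt : y * t = t * y)
    (hyj : y' * j = j * y') (hH : Odd (Nat.card (Subgroup.closure ({y, y'} : Set X)))) :
    j = t ∨ Common g h := by
  have h2 : (2 : F) ≠ 0 := Ring.two_ne_zero (ringChar_ne_two hF)
  set H := Subgroup.closure ({y, y'} : Set X) with hHdef
  have hyH : y ∈ H := Subgroup.subset_closure (Or.inl rfl)
  have hy'H : y' ∈ H := Subgroup.subset_closure (Or.inr rfl)
  have hHL : H ≤ L := by
    rw [hHdef, Subgroup.closure_le]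
    rintro x (rfl | rfl)
    exacts [hy, hy']
  have hne : H ≠ ⊥ := fun h0 => hy1 (by rw [h0] at hyH; exact Subgroup.mem_bot.1 hyH)
  obtain ⟨N, hNle, hN1, hNab, hNinv⟩ := exists_abelian H hH hne
  obtain ⟨n, hn, hn1⟩ := N.bot_or_exists_ne_one.resolve_left hN1
  have hnL : n ∈ L := hHL (hNle hn)
  have hno : Odd (orderOf (e ⟨n, hnL⟩)) := by
    rw [e.orderOf_eq, Subgroup.orderOf_mk]
    exact orderOf_odd_of_mem hH (hNle hn)
  obtain ⟨r, hr, hro⟩ := exists_lift h2 hno
  set n₀ := tfree (r : M2) with hn₀def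
  have htr : n₀.trace = 0 := trace_tfree h2 _
  have hn₀ : n₀ ≠ 0 := by
    intro h0
    apply hn1
    have hr1 : (QuotientGroup.mk r : PSL2) = 1 :=
      ((mk_eq_mk_iff (1 : SL2) r).2 ⟨(r : M2).trace / 2, by
        rw [Matrix.SpecialLinearGroup.coe_one]; exact sub_eq_zero.1 h0⟩).symm
    rw [hr, ← map_one e] at hr1
    exact congrArg Subtype.val (e.injective hr1)
  -- the lifts of `H` scale `n₀`
  have scale : ∀ (z : X) (hz : z ∈ L) (s : SL2), z ∈ H → (QuotientGroup.mk s : PSL2) = e ⟨z, hz⟩ →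
      ∃ κ : F, (s : M2) * n₀ = κ • (n₀ * (s : M2)) := by
    intro z hz s hzH hs
    obtain ⟨κ, hκ⟩ := conj_scales (g := Matrix.SpecialLinearGroup.toGL s) h2 hn₀ (commute_lift h2 hro (by
      rw [← conjAut_mk, conjAut_toGL, hs, MulAut.conj_apply, hr, ← map_inv, ← map_mul, ← map_mul,
        ← map_mul, ← map_mul]
      refine congrArg e (Subtype.ext ?_)
      exact hNab _ (hNinv z (Subgroup.le_normalizer hzH) n hn) n hn))
    exact ⟨κ, hκ⟩
  by_cases hδ : n₀.det = 0
  · -- a common fixed point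
    right
    obtain ⟨v, hv, hnv⟩ := Matrix.exists_mulVec_eq_zero_iff.2 hδ
    have key : ∀ (w z : X) (f : GL2), Induces L e w f → z ∈ H → z * w = w * z → z ≠ 1 →
        ∃ ν : F, (f : M2) *ᵥ v = ν • v := by
      intro w z f hf hzH hzw hz1
      obtain ⟨s, hs, -, -, a, ha⟩ := exists_torus L e hF hf (hHL hzH) hzw
        (orderOf_odd_of_mem hH hzH) hz1
      obtain ⟨κ, hκ⟩ := scale z (hHL hzH) s hzH hs
      have hκ0 : κ ≠ 0 := by
        intro h0
        rw [h0, zero_smul] at hκ
        have := congrArg (fun m : M2 => ((s⁻¹ : SL2) : M2) * m) hκ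
        simp only [← mul_assoc, mul_zero, ← Matrix.SpecialLinearGroup.coe_mul, inv_mul_cancel,
          Matrix.SpecialLinearGroup.coe_one, one_mul] at this
        exact hn₀ this
      have hsv : n₀ *ᵥ ((s : M2) *ᵥ v) = 0 := by
        have := congrArg (fun m : M2 => m *ᵥ v) hκ
        simp only [← Matrix.mulVec_mulVec, hnv, Matrix.mulVec_zero, Matrix.smul_mulVec] at this
        exact (smul_eq_zero.1 this.symm).resolve_left hκ0
      obtain ⟨k, hk⟩ := eig_dep h2 htr hn₀ hv (μ := 0) (by rw [hnv, zero_smul]) (by rw [hsv, zero_smul])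
      exact ⟨a * (k - (s : M2).trace / 2), by rw [ha, Matrix.smul_mulVec, tfree_mulVec hk, smul_smul]⟩
    exact ⟨v, hv, key t y g hg hyH hyt hy1, key j y' h hh hy'H hyj hy1'⟩
  · -- one torus
    left
    have key : ∀ (w z : X) (f : GL2), Induces L e w f → z ∈ H → z * w = w * z → z ≠ 1 →
        ∃ a : F, (f : M2) = a • n₀ := by
      intro w z f hf hzH hzw hz1
      obtain ⟨s, hs, hso, hs0, a, ha⟩ := exists_torus L e hF hf (hHL hzH) hzw
        (orderOf_odd_of_mem hH hzH) hz1
      obtain ⟨κ, hκ⟩ := scale z (hHL hzH) s hzH hs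
      have hκ1 : κ = 1 := by
        have hk2 : κ * κ = 1 := by
          have h3 := congrArg Matrix.det hκ
          rw [Matrix.det_smul, Matrix.det_mul, Matrix.det_mul] at h3
          simp at h3
          exact mul_right_cancel₀ hδ (by linear_combination -h3)
        rcases mul_self_eq_one_iff.1 hk2 with h | h
        · exact h
        exfalso
        rw [h, neg_one_smul] at hκ
        have hp : ∀ i : ℕ, (s : M2) ^ i * n₀ = (-1 : F) ^ i • (n₀ * (s : M2) ^ i) := by
          intro i
          induction i with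
          | zero => simp
          | succ i ih =>
            rw [pow_succ' (s : M2), mul_assoc, ih, Matrix.mul_smul, ← mul_assoc, hκ, neg_mul, smul_neg,
              mul_assoc, pow_succ' (-1 : F), mul_smul, neg_one_smul]
        have h5 := hp (orderOf s)
        rw [← Matrix.SpecialLinearGroup.coe_pow, pow_orderOf_eq_one, Matrix.SpecialLinearGroup.coe_one,
          hso.neg_one_pow, one_mul, mul_one, neg_one_smul] at h5
        have h6 : (2 : F) • n₀ = 0 := by rw [two_smul]; exact eq_neg_iff_add_eq_zero.1 h5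
        exact hn₀ ((smul_eq_zero.1 h6).resolve_left h2)
      rw [hκ1, one_smul] at hκ
      obtain ⟨b, hb⟩ := prop_of_commute h2 (trace_tfree h2 _) htr hn₀ (tfree_commute_right hκ)
      exact ⟨a * b, by rw [ha, hb, smul_smul]⟩
    obtain ⟨a, ha⟩ := key t y g hg hyH hyt hy1
    obtain ⟨b, hb⟩ := key j y' h hh hy'H hyj hy1'
    have ha0 : a ≠ 0 := fun e0 => g.ne_zero (by rw [ha, e0, zero_smul])
    exact eq_of_conjAut L e hc hh.1 hg.1 (κ := b * a⁻¹)
      (by rw [hb, ha, smul_smul, mul_assoc, inv_mul_cancel₀ ha0, mul_one])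

end Cfsg.Agent.Lib.GorensteinWalter.ModelKlein
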