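import Cfsg.Agent.Lib.GorensteinWalter.InterfaceH
import Cfsg.Agent.Lib.GorensteinWalter.Four.ModelLines
import Cfsg.Agent.Lib.GorensteinWalter.ModelsC.Cyclic

/-!
# The Klein model

`propModelKlein`: a core-free group with known sections, Sylow 2-subgroups of order four and a fused
four-group lies between `PSL(2,q)`, `q = 4 T + ε`, and its automorphism group.
-/

set_option autoImplicit false
set_option linter.unusedSectionVars false
set_option linter.style.haveILetI false

universe u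

namespace Cfsg.Agent.Lib.GorensteinWalter

open Cfsg.Agent.Lib.Fusion.Dihedral ModelsC

namespace ModelKlein

variable {X : Type u} [Group X] [Finite X]

theorem not_eight_dvd (h4 : ∀ S : Sylow 2 X, Nat.card (S : Subgroup X) = 4) : ¬ 8 ∣ Nat.card X := by
  intro h
  haveI : Fact (Nat.Prime 2) := ⟨Nat.prime_two⟩
  obtain ⟨Q, hQ⟩ := Sylow.exists_subgroup_card_pow_prime 2 (n := 3) (G := X) h
  have hQ' : IsPGroup 2 Q := IsPGroup.of_card hQ
  obtain ⟨S, hS⟩ := hQ'.exists_le_sylow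
  have := Nat.le_of_dvd Nat.card_pos (Subgroup.card_dvd_of_le hS)
  rw [hQ, h4 S] at this
  norm_num at this

/-- `O(C(t)) ∩ C(a) = O(C(V))`. -/
theorem coreFix_eq (hCD : SylowCD X) {V : Subgroup X} (hV : IsFour V) {t a : X} (ht : t ∈ V) (ha : a ∈ V)
    (ht1 : t ≠ 1) (ha1 : a ≠ 1) (hne : a ≠ t) : coreFix t a = coreV V := by
  have hpair := hV.centralizer_pair ht ha ht1 ha1 hne.symm
  refine le_antisymm ?_ fun x hx => Subgroup.mem_inf.2
    ⟨mem_coreC hCD (hV.orderOf_eq ht ht1)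
      (Subgroup.mem_centralizer_singleton_iff.1 (IsFour.centralizer_le ht (coreV_le V hx)))
      (orderOf_odd_of_mem (coreV_odd V) hx), IsFour.centralizer_le ha (coreV_le V hx)⟩
  rintro x ⟨hx, hxa⟩
  have hxV : x ∈ Subgroup.centralizer (V : Set X) := by
    rw [← hpair, Subgroup.mem_centralizer_iff]
    rintro y (rfl | rfl)
    · exact (Subgroup.mem_centralizer_singleton_iff.1 (coreC_le y hx)).symm
    · exact (Subgroup.mem_centralizer_singleton_iff.1 hxa).symm
  let N := (coreC t).subgroupOf (Subgroup.centralizer (V : Set X))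
  haveI : N.Normal := Subgroup.normal_subgroupOf_of_le_normalizer
    ((IsFour.centralizer_le ht).trans (centralizer_le_normalizer_coreC t))
  have hN : Odd (Nat.card N) := Odd.of_dvd_nat (coreC_odd t)
    (Subgroup.card_comap_dvd_of_injective _ _ (Subgroup.subtype_injective _))
  exact ⟨⟨x, hxV⟩, Cores.le_oddCore hN hx, rfl⟩

variable {F : Type} [Field F] [Fintype F]

section

variable (L : Subgroup X) [L.Normal] (e : L ≃* Matrix.ProjectiveSpecialLinearGroup (Fin 2) F)
  (hF : Odd (Fintype.card F)) (hc : Subgroup.centralizer (L : Set X) = ⊥) (hD : HasDihedralSylow X)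

include e hF hc hD in
theorem mem_of_inverted {a x : X} (ha : orderOf a = 2) (hxo : Odd (orderOf x))
    (hinv : a * x * a⁻¹ = x⁻¹) : x ∈ L := by
  have hx2 : x * x ∈ L := by
    have h1 := commutator_mem' L e hF hc hD ha x
    have h3 : a * x⁻¹ * a⁻¹ = x := by
      rw [show a * x⁻¹ * a⁻¹ = (a * x * a⁻¹)⁻¹ by group, hinv, inv_inv]
    have h4 : x * x = x * a * x⁻¹ * a⁻¹ := by
      calc x * x = x * (a * x⁻¹ * a⁻¹) := by rw [h3]
        _ = x * a * x⁻¹ * a⁻¹ := by group
    exact h4 ▸ h1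
  obtain ⟨k, hk⟩ := hxo
  have : x = (x * x) ^ (k + 1) := by
    rw [← sq, ← pow_mul, show 2 * (k + 1) = orderOf x + 1 by omega, pow_succ, pow_orderOf_eq_one, one_mul]
  rw [this]
  exact pow_mem hx2 _

include hD in
/-- `|X| |C_L(t)| = |L| |C(t)|` with `|C_L(t)| = 4 T`. -/
theorem card_class (hL : Hyp L) (h4 : ∀ S : Sylow 2 X, Nat.card (S : Subgroup X) = 4) {V : Subgroup X}
    (hV : IsFour V) (hVL : V ≤ L) {t : X} (htV : t ∈ V) (ht1 : t ≠ 1) :
    Nat.card X * (4 * Nat.card ↥(coreC t ⊓ L)) =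
      Nat.card L * Nat.card (Subgroup.centralizer ({t} : Set X)) := by
  set C := Subgroup.centralizer ({t} : Set X) with hC
  have ht := hV.orderOf_eq htV ht1
  have hsup : C ⊔ L = ⊤ := by
    rw [eq_top_iff]
    intro x _
    have hxo : orderOf (x * t * x⁻¹) = 2 := by
      rw [← MulAut.conj_apply, MulEquiv.orderOf_eq (MulAut.conj x) t, ht]
    obtain ⟨⟨l, hl⟩, hlt⟩ := isConj_iff.1 (hL.isConj (a := ⟨t, hVL htV⟩)
      (b := ⟨x * t * x⁻¹, Subgroup.Normal.conj_mem inferInstance t (hVL htV) x⟩)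
      (by rw [Subgroup.orderOf_mk]; exact ht) (by rw [Subgroup.orderOf_mk]; exact hxo))
    have hlt' : l * t * l⁻¹ = x * t * x⁻¹ := congrArg Subtype.val hlt
    have hm : l⁻¹ * x ∈ C := by
      rw [hC, Subgroup.mem_centralizer_singleton_iff]
      calc l⁻¹ * x * t = l⁻¹ * (x * t * x⁻¹) * x := by group
        _ = t * (l⁻¹ * x) := by rw [← hlt']; group
    rw [show x = l * (l⁻¹ * x) by group]
    exact mul_mem (Subgroup.mem_sup_right hl) (Subgroup.mem_sup_left hm)
  have hidx : L.index = L.relIndex C := by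
    rw [← Subgroup.relIndex_top_right, ← hsup, Subgroup.relIndex_sup_right]
  have hCcard : Nat.card C = Nat.card ↥(L ⊓ C) * L.relIndex C := by
    rw [← Subgroup.inf_relIndex_right L C, ← Subgroup.relIndex_bot_left (L ⊓ C),
      ← Subgroup.relIndex_bot_left C,
      Subgroup.relIndex_mul_relIndex ⊥ (L ⊓ C) C bot_le inf_le_right]
  obtain ⟨j, hj⟩ := exists_pow_card_coreC hD.sylowCD ht (K := L ⊓ C) inf_le_right
  have hK : coreC t ⊓ (L ⊓ C) = coreC t ⊓ L := by
    rw [inf_comm L C, ← inf_assoc, inf_eq_left.2 (coreC_le t)]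
  rw [hK] at hj
  have hTodd : Odd (Nat.card ↥(coreC t ⊓ L)) :=
    (coreC_odd t).of_dvd_nat (Subgroup.card_dvd_of_le inf_le_left)
  have h4d : 4 ∣ 2 ^ j * Nat.card ↥(coreC t ⊓ L) := by
    rw [← hj, ← hV.1]
    exact Subgroup.card_dvd_of_le (le_inf hVL fun w hw =>
      Subgroup.mem_centralizer_singleton_iff.2 (hV.comm hw htV))
  have h8 : ¬ 8 ∣ 2 ^ j * Nat.card ↥(coreC t ⊓ L) := fun h =>
    not_eight_dvd h4 (h.trans (hj ▸ Subgroup.card_subgroup_dvd_card _))
  have hj2 : j = 2 := by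
    rcases j with _ | _ | _ | j
    · rw [pow_zero, one_mul] at h4d
      exact absurd ((show (2 : ℕ) ∣ 4 by norm_num).trans h4d) hTodd.not_two_dvd_nat
    · rw [zero_add, pow_one, show (4 : ℕ) = 2 * 2 from rfl, Nat.mul_dvd_mul_iff_left two_pos] at h4d
      exact absurd h4d hTodd.not_two_dvd_nat
    · rfl
    · exact absurd (Dvd.dvd.mul_right ⟨2 ^ j, by ring⟩ _) h8
  rw [hj2] at hj
  rw [← L.card_mul_index, hidx, hCcard, hj]
  ring

end

end ModelKlein

open ModelKlein in
/-- `PropModelKlein`. -/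
theorem propModelKlein : PropModelKlein.{u} := by
  intro X _ _ V t a hO hD h4 hsec hfu htV haV ht1 ha1 hat ⟨y₀, hy₀o, hy₀t, hy₀a⟩
  haveI : Fact (Nat.Prime 2) := ⟨Nat.prime_two⟩
  have hCD := hD.sylowCD
  have hV := hfu.1
  have ht := hV.orderOf_eq htV ht1
  have ha := hV.orderOf_eq haV ha1
  have hat' : a * t = t * a := hV.comm haV htV
  rcases PEmbRankOne.socle_cases hCD hO (not_isPGroup_of_fused hCD hfu) with
    ⟨N, hN, hN4, hC⟩ | ⟨L, hL, hs, hna, hd, hC⟩
  · exfalso
    have hVN := fused_le_four hN hN4 hCD hfu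
    exact hy₀a (by rw [eq_one_of_fixed hN hN4 hC (hVN ▸ htV) ht1 hy₀t hy₀o, one_mul, mul_one])
  haveI := hL
  obtain ⟨hHyp, hK⟩ := hyp_of_sections hsec hs hna hd
  have h8 := not_eight_dvd h4
  rcases hK with ⟨F, iF, iFF, hF, hF3, ⟨e⟩⟩ | ⟨⟨e⟩⟩
  swap
  · exfalso
    apply h8
    refine dvd_trans ?_ (Subgroup.card_subgroup_dvd_card L)
    rw [Nat.card_congr e.toEquiv, nat_card_alternatingGroup, Nat.card_fin]
    decide
  have h2 : (2 : F) ≠ 0 := Ring.two_ne_zero (ringChar_ne_two hF)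
  have hVL : V ≤ L := le_of_fused hfu fun g w hw hw1 =>
    commutator_mem' L e hF hC hD (hV.orderOf_eq hw hw1) g
  -- all involutions lie in `L`
  have hidx : ¬ 2 ∣ L.index := by
    intro h
    apply h8
    rw [← L.card_mul_index, show (8 : ℕ) = 4 * 2 from rfl]
    exact mul_dvd_mul (hV.1 ▸ Subgroup.card_dvd_of_le hVL) h
  have hall : ∀ j : X, orderOf j = 2 → j ∈ L := by
    intro j hj
    rw [← QuotientGroup.eq_one_iff, ← orderOf_eq_one_iff]
    have h1 : orderOf (j : X ⧸ L) ∣ 2 := hj ▸ orderOf_map_dvd (QuotientGroup.mk' L) j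
    rcases (Nat.dvd_prime Nat.prime_two).1 h1 with h | h
    · exact h
    · exact absurd (h ▸ orderOf_dvd_natCard (j : X ⧸ L)) (by rwa [← Subgroup.index_eq_card])
  obtain ⟨g, hg⟩ := exists_induces L e hF hC hD ht
  obtain ⟨m, ε, hε, hm4, hq, hm, -⟩ :=
    exists_tori hF hg.2 ((mem_iff_isSquare L e hF hC hD hg).1 (hVL htV))
  obtain ⟨k, hk⟩ := exists_pow_slOdd h2 hg.2
  rw [hm, ← card_coreC_inf L e hF hC hD hCD ht hg] at hk
  set T := Nat.card ↥(coreC t ⊓ L) with hTdef
  have hTodd : Odd T := (coreC_odd t).of_dvd_nat (Subgroup.card_dvd_of_le inf_le_left)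
  -- the order of `L`
  have hcard : 2 * (Nat.card L : ℤ) =
      (Fintype.card F : ℤ) * ((Fintype.card F : ℤ) - ε) * ((Fintype.card F : ℤ) + ε) := by
    have h := Cfsg.Agent.Lib.Linear.two_mul_card_PSL_two_of_odd hF
    rw [← Nat.card_congr e.toEquiv] at h
    have h' := congrArg (fun n : ℕ => (n : ℤ)) h
    have h1 : 1 ≤ Fintype.card F := by omega
    push_cast [Nat.cast_sub h1] at h'
    rcases hε with rfl | rfl <;> linear_combination h'
  have hk2 : k = 2 := by
    rcases k with _ | _ | _ | k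
    · rw [pow_zero, one_mul] at hk
      exact absurd ((show (2 : ℕ) ∣ 4 by norm_num).trans (hk ▸ hm4)) hTodd.not_two_dvd_nat
    · rw [zero_add, pow_one] at hk
      rw [hk, show (4 : ℕ) = 2 * 2 from rfl, Nat.mul_dvd_mul_iff_left two_pos] at hm4
      exact absurd hm4 hTodd.not_two_dvd_nat
    · rfl
    · exfalso
      apply h8
      refine dvd_trans ?_ (Subgroup.card_subgroup_dvd_card L)
      obtain ⟨c, hc⟩ : (8 : ℕ) ∣ m := hk ▸ Dvd.dvd.mul_right ⟨2 ^ k, by ring⟩ T
      have : (8 : ℤ) ∣ (Nat.card L : ℤ) := by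
        refine ⟨(Fintype.card F : ℤ) * c * (4 * (c : ℤ) + ε), ?_⟩
        apply mul_left_cancel₀ (two_ne_zero : (2 : ℤ) ≠ 0)
        rw [hcard, hq, hc]
        push_cast
        ring
      exact_mod_cast this
  subst hk2
  refine ⟨T, Fintype.card F, ε, hε, FiniteField.isPrimePow_card F, hTodd, ?_, ?_, ?_, ?_, ?_, ?_⟩
  · rw [hq, hk]; push_cast; ring
  · rw [card_split L e hF hC hD ht ha hat' hat, coreFix_eq hCD hV htV haV ht1 ha1 hat]
  · -- the class of `t`
    have h := congrArg (fun n : ℕ => (n : ℤ)) (card_class L hD hHyp h4 hV hVL htV ht1)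
    push_cast at h
    rw [← hTdef] at h
    have h4T : (4 : ℤ) * T = (Fintype.card F : ℤ) - ε := by rw [hq, hk]; push_cast; ring
    have hT0 : (4 : ℤ) * T ≠ 0 := by
      have := hTodd.pos
      positivity
    apply mul_left_cancel₀ hT0
    rw [← h4T] at hcard
    linear_combination 2 * h + (Nat.card (Subgroup.centralizer ({t} : Set X)) : ℤ) * hcard
  · -- inverted elements
    intro y hyo hyt hya
    have hyL := mem_of_inverted L e hF hC hD ha hyo hya
    refine ⟨?_, fun hy1 j hj hjy => ?_⟩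
    · exact Subgroup.orderOf_dvd_natCard _ (Subgroup.mem_inf.2 ⟨mem_coreC hCD ht hyt hyo, hyL⟩)
    · obtain ⟨h, hh⟩ := exists_induces L e hF hC hD hj
      exact eq_of_commute L e hF hC hg hh hyL hyt hjy.symm hyo hy1
  · -- at most `2 q` tori
    refine le_trans (Set.ncard_le_ncard ?_ (Set.toFinite _)) (ncard_common L e hF hC hg)
    rintro j ⟨hj, y, y', b, hb, -, hy1, hy1', hyo, hyo', hyt, hya, hyj, hyb, hH⟩
    obtain ⟨h, hh⟩ := exists_induces L e hF hC hD hj
    rcases eq_or_common L e hF hC hg hh (mem_of_inverted L e hF hC hD ha hyo hya)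
      (mem_of_inverted L e hF hC hD hb hyo' hyb) hy1 hy1' hyt hyj hH with h' | h'
    · exact Or.inl h'
    · exact Or.inr ⟨h, hh, h'⟩
  · -- the cyclic subgroup
    obtain ⟨w, -, hw⟩ := psl_inverted L e hF hC hD ht ha
    have hle : coreC t ⊓ L ≤ Subgroup.zpowers w := fun x hx =>
      hw x (Subgroup.mem_centralizer_singleton_iff.1 (coreC_le t hx.1))
        (orderOf_odd_of_mem (coreC_odd t) hx.1)
        (inverts L e hF hC hD ht ha hat' hat hx.2
          (Subgroup.mem_centralizer_singleton_iff.1 (coreC_le t hx.1))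
          (orderOf_odd_of_mem (coreC_odd t) hx.1))
    refine ⟨coreC t ⊓ L, isCyclic_of_injective _ (Subgroup.inclusion_injective hle), ?_,
      fun y hyo hyt hya => Subgroup.mem_inf.2
        ⟨mem_coreC hCD ht hyt hyo, mem_of_inverted L e hF hC hD ha hyo hya⟩⟩
    intro x hx
    refine Subgroup.mem_normalizer_fintype fun n hn => ?_
    exact Subgroup.mem_inf.2 ⟨mul_mem (mul_mem hx hn.1) (inv_mem hx),
      Subgroup.Normal.conj_mem inferInstance n hn.2 x⟩

end Cfsg.Agent.Lib.GorensteinWalter
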