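import Cfsg.Agent.Lib.GorensteinWalter.Four.Plane.Sylow

/-!
# Gorenstein–Walter, section 3 for `|S| = 4`: `PropFourPlane`
-/

set_option autoImplicit false
set_option linter.style.haveILetI false

namespace Cfsg.Agent.Lib.GorensteinWalter.Four.Plane

universe u

/-- Section 3. -/
theorem propFourPlane (hMK : PropModelKlein.{u}) (hLT : PropLineTorus.{u}) : PropFourPlane.{u} := by
  intro G _ _ V t a h
  obtain ⟨r, hr, hrd, hr2, Q, hQ, hQp, hQfix⟩ := exists_prime_core h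
  haveI := Fact.mk hr
  by_cases hel : ∃ K : Subgroup G, ElemSub t a r K ∧ ∃ k ∈ K, k ≠ 1 ∧ a * k = k * a
  · obtain ⟨K, hK, k, hk, hk1, hka⟩ := hel
    obtain ⟨x, hl, hn⟩ := exists_line_of_elem h hMK hr2 hrd hK hk hk1 hka
    exact ⟨r, x, hr, hl, Or.inl hn⟩
  · obtain ⟨B, x, y, z, E⟩ := exists_exData h hMK hr2 hrd hQ hQp hQfix fun K hK k hk hka => by
      by_contra hk1
      exact hel ⟨K, hK, k, hk, hk1, hka⟩
    obtain ⟨hl, hn⟩ := line_of_exData h E
    exact ⟨r, x, hr, hl, Or.inr ⟨hn, z, B, heisenberg_of_exData h E hMK hLT hrd⟩⟩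

end Cfsg.Agent.Lib.GorensteinWalter.Four.Plane
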