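import Cfsg.Agent.Lib.GorensteinWalter.ConfClosed
import Cfsg.Agent.Lib.GorensteinWalter.Four.Main
import Cfsg.Agent.Lib.GorensteinWalter.Four.Plane
import Cfsg.Agent.Lib.GorensteinWalter.Four.LevelOne
import Cfsg.Agent.Lib.GorensteinWalter.Four.LevelTwo
import Cfsg.Agent.Lib.GorensteinWalter.Four.Model

/-!
# Gorenstein–Walter, Sylow 2-subgroups of order four: closed
-/

set_option autoImplicit false

namespace Cfsg.Agent.Lib.GorensteinWalter

universe u

/-- With Sylow 2-subgroups of order four all four-group cores are trivial. -/
theorem propFourSylowFinal : PropFourSylow.{u} :=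
  Four.propFourSylow_of propNoConfFinal BenderOne.propPartOneFinal BenderSuzuki.propMain.{u, u}
    (Four.Plane.propFourPlane propModelKlein (propLineTorus propModelKlein))
    (propLevelOne propModelKlein) (propLevelTwo propModelKlein)

end Cfsg.Agent.Lib.GorensteinWalter
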