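import Cfsg.Agent.Lib.GorensteinWalter.Four.Main
import Cfsg.Agent.Lib.GorensteinWalter.Four.LevelOne
import Cfsg.Agent.Lib.GorensteinWalter.Four.LevelTwo
import Cfsg.Agent.Lib.GorensteinWalter.Four.Model
import Cfsg.Agent.Lib.GorensteinWalter.ConfClosed

/-!
# Gorenstein–Walter, Sylow 2-subgroups of order four: the assembly
-/

set_option autoImplicit false

namespace Cfsg.Agent.Lib.GorensteinWalter.Four

universe u

/-- Sylow 2-subgroups of order four, modulo the normal plane of section 3. -/
theorem propFourSylow_of_plane (hPlane : PropFourPlane.{u}) : PropFourSylow.{u} :=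
  propFourSylow_of propNoConfFinal BenderOne.propPartOneFinal BenderSuzuki.propMain.{u, u} hPlane
    (propLevelOne propModelKlein) (propLevelTwo propModelKlein)

end Cfsg.Agent.Lib.GorensteinWalter.Four
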