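import Mathlib

/-!
# Fixed points of a four-group on a group of odd order

`|C_K(t)| |C_K(a)| |C_K(ta)| ≤ |K| |C_K(⟨t, a⟩)|²` (one half of the Brauer–Wielandt formula).
-/

set_option autoImplicit false
set_option linter.unusedSectionVars false

namespace Cfsg.Agent.Lib.GorensteinWalter.FixedPoints

universe u

variable {Y : Type u} [Group Y]

/-- The elements of `K` inverted by `s`. -/
def invIn (K : Subgroup Y) (s : Y) : Set Y := {y | y ∈ K ∧ s * y * s⁻¹ = y⁻¹}

/-- An element of odd order inverted by an element of odd order is trivial. -/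
theorem eq_one_of_inverts {i w : Y} (hi : Odd (orderOf i)) (hw : Odd (orderOf w))
    (h : i * w * i⁻¹ = w⁻¹) : w = 1 := by
  have hn : ∀ n : ℕ, i ^ (2 * n) * w * (i ^ (2 * n))⁻¹ = w := by
    intro n
    induction n with
    | zero => simp
    | succ n ih =>
      have h2 : i ^ (2 * (n + 1)) = i * i * i ^ (2 * n) := by
        rw [← pow_two, ← pow_add]
        congr 1
        omega
      rw [h2]
      calc i * i * i ^ (2 * n) * w * (i * i * i ^ (2 * n))⁻¹
          = i * (i * (i ^ (2 * n) * w * (i ^ (2 * n))⁻¹) * i⁻¹) * i⁻¹ := by group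
        _ = i * w⁻¹ * i⁻¹ := by rw [ih, h]
        _ = (i * w * i⁻¹)⁻¹ := by group
        _ = w := by rw [h, inv_inv]
  obtain ⟨m, hm⟩ := hi
  have h1 := hn m
  have h3 : i ^ (2 * m) = i⁻¹ := by
    rw [eq_inv_iff_mul_eq_one, ← pow_succ, ← hm, pow_orderOf_eq_one]
  rw [h3, inv_inv] at h1
  have hsq : w * w = 1 := by
    have h4 : i * w = w⁻¹ * i := by rw [← h]; group
    have h5 : i⁻¹ * w * i = w := h1
    have h6 : w * i = i * w := by
      calc w * i = i * (i⁻¹ * w * i) := by group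
        _ = i * w := by rw [h5]
    rw [← h6] at h4
    calc w * w = (w * i) * i⁻¹ * w := by group
      _ = w⁻¹ * i * i⁻¹ * w := by rw [h4]
      _ = 1 := by group
  exact orderOf_eq_one_iff.1 (Nat.eq_one_of_dvd_coprimes (Nat.coprime_two_left.2 hw)
    (orderOf_dvd_of_pow_eq_one (by rw [pow_two, hsq])) dvd_rfl)

variable [Finite Y]

theorem odd_of_mem {K : Subgroup Y} (hK : Odd (Nat.card K)) {y : Y} (hy : y ∈ K) : Odd (orderOf y) :=
  Odd.of_dvd_nat hK (Subgroup.orderOf_dvd_natCard K hy)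

/-- Every element is a fixed element times an inverted one. -/
theorem card_le_mul (K : Subgroup Y) (hK : Odd (Nat.card K)) {s : Y} (hs : s * s = 1)
    (hn : ∀ y ∈ K, s * y * s⁻¹ ∈ K) :
    Nat.card K ≤ Nat.card ↥(K ⊓ Subgroup.centralizer ({s} : Set Y)) * (invIn K s).ncard := by
  have hsi : s⁻¹ = s := inv_eq_of_mul_eq_one_right hs
  have key : ∀ y ∈ K, ∃ c ∈ K ⊓ Subgroup.centralizer ({s} : Set Y), ∃ i ∈ invIn K s, c * i = y := by
    intro y hy
    set u := (s * y * s⁻¹)⁻¹ * y with hu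
    have huK : u ∈ K := mul_mem (inv_mem (hn y hy)) hy
    have huinv : s * u * s⁻¹ = u⁻¹ := by
      have hss : ∀ w : Y, s * (s * w) = w := fun w => by rw [← mul_assoc, hs, one_mul]
      simp only [hu, _root_.mul_inv_rev, inv_inv, hsi, mul_assoc, hss, hs, mul_one]
    obtain ⟨m, hm⟩ := odd_of_mem hK huK
    set i := u ^ (m + 1) with hi
    have hii : i * i = u := by
      rw [hi, ← pow_add, show m + 1 + (m + 1) = orderOf u + 1 by omega, pow_succ, pow_orderOf_eq_one,
        one_mul]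
    have hiK : i ∈ K := pow_mem huK _
    have hiinv : s * i * s⁻¹ = i⁻¹ := by rw [hi, ← conj_pow, huinv, inv_pow]
    refine ⟨y * i⁻¹, Subgroup.mem_inf.2 ⟨mul_mem hy (inv_mem hiK), ?_⟩, i, ⟨hiK, hiinv⟩, by group⟩
    rw [Subgroup.mem_centralizer_singleton_iff]
    have h1 : s * y * s⁻¹ = y * u⁻¹ := by rw [hu]; group
    have h2 : s * (y * i⁻¹) * s⁻¹ = y * i⁻¹ := by
      calc s * (y * i⁻¹) * s⁻¹ = (s * y * s⁻¹) * (s * i * s⁻¹)⁻¹ := by group
        _ = y * (i * i)⁻¹ * i := by rw [h1, hiinv, hii, inv_inv]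
        _ = y * i⁻¹ := by group
    calc y * i⁻¹ * s = s * (y * i⁻¹) * s⁻¹ * s := by rw [h2]
      _ = s * (y * i⁻¹) := by group
  choose c hc i hi he using key
  rw [← Nat.card_coe_set_eq, ← Nat.card_prod]
  refine Nat.card_le_card_of_injective
    (fun y : K => ((⟨c y y.2, hc y y.2⟩ : ↥(K ⊓ Subgroup.centralizer ({s} : Set Y))),
      (⟨i y y.2, hi y y.2⟩ : ↥(invIn K s)))) fun y y' e => ?_
  simp only [Prod.mk.injEq, Subtype.mk.injEq] at e
  exact Subtype.ext (by rw [← he y y.2, ← he y' y'.2, e.1, e.2])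

/-- Fixed times inverted elements are distinct. -/
theorem mul_le_card (K : Subgroup Y) (hK : Odd (Nat.card K)) {s : Y} :
    Nat.card ↥(K ⊓ Subgroup.centralizer ({s} : Set Y)) * (invIn K s).ncard ≤ Nat.card K := by
  rw [← Nat.card_coe_set_eq, ← Nat.card_prod]
  refine Nat.card_le_card_of_injective
    (fun p => (⟨(p.1 : Y) * p.2, mul_mem p.1.2.1 p.2.2.1⟩ : K)) ?_
  rintro ⟨⟨c, hcK, hc⟩, i, hiK, hi⟩ ⟨⟨c', hcK', hc'⟩, i', hiK', hi'⟩ e
  have e' : c * i = c' * i' := congrArg Subtype.val e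
  set w := c'⁻¹ * c with hw
  have hwi : w * i = i' := by rw [hw, mul_assoc, e', inv_mul_cancel_left]
  have hwC : w ∈ Subgroup.centralizer ({s} : Set Y) := mul_mem (inv_mem hc') hc
  have hsw : s * w * s⁻¹ = w := by
    rw [← Subgroup.mem_centralizer_singleton_iff.1 hwC, mul_inv_cancel_right]
  have h1 : w * i⁻¹ = i⁻¹ * w⁻¹ := by
    calc w * i⁻¹ = s * (w * i) * s⁻¹ := by rw [show s * (w * i) * s⁻¹ = (s * w * s⁻¹) * (s * i * s⁻¹) by group, hsw, hi]
      _ = i'⁻¹ := by rw [hwi, hi']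
      _ = i⁻¹ * w⁻¹ := by rw [← hwi, mul_inv_rev]
  have h2 : i * w * i⁻¹ = w⁻¹ := by rw [mul_assoc, h1, mul_inv_cancel_left]
  have hw1 : w = 1 := eq_one_of_inverts (odd_of_mem hK hiK) (odd_of_mem hK (mul_mem (inv_mem hcK') hcK)) h2
  have hii : i = i' := by
    have h9 := hwi
    rwa [hw1, one_mul] at h9
  subst hii
  exact Prod.ext (Subtype.ext (mul_right_cancel e')) rfl

/-- The fixed point inequality. -/
theorem fixed_le (K : Subgroup Y) (hK : Odd (Nat.card K)) {t a : Y} (ht : t * t = 1) (ha : a * a = 1)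
    (hta : t * a = a * t) (hnt : ∀ y ∈ K, t * y * t⁻¹ ∈ K) :
    Nat.card ↥(K ⊓ Subgroup.centralizer ({t} : Set Y)) *
      Nat.card ↥(K ⊓ Subgroup.centralizer ({a} : Set Y)) *
      Nat.card ↥(K ⊓ Subgroup.centralizer ({t * a} : Set Y)) ≤
    Nat.card K * Nat.card ↥(K ⊓ Subgroup.centralizer ({t, a} : Set Y)) ^ 2 := by
  set Ka := K ⊓ Subgroup.centralizer ({a} : Set Y) with hKa
  set Kc := K ⊓ Subgroup.centralizer ({t * a} : Set Y) with hKc
  set KV := K ⊓ Subgroup.centralizer ({t, a} : Set Y) with hKV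
  have hV : ∀ u : Y, (u = a ∨ u = t * a) →
      K ⊓ Subgroup.centralizer ({u} : Set Y) ⊓ Subgroup.centralizer ({t} : Set Y) ≤ KV := by
    rintro u hu y ⟨⟨hyK, hyu⟩, hyt⟩
    have h1 : y * t = t * y := Subgroup.mem_centralizer_singleton_iff.1 hyt
    have h2 : y * a = a * y := by
      rcases hu with rfl | rfl
      · exact Subgroup.mem_centralizer_singleton_iff.1 hyu
      · have h3 : y * (t * a) = t * a * y := Subgroup.mem_centralizer_singleton_iff.1 hyu
        calc y * a = t⁻¹ * (t * y) * a := by group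
          _ = t⁻¹ * (y * (t * a)) := by rw [← h1]; group
          _ = a * y := by rw [h3]; group
    refine ⟨hyK, Subgroup.mem_centralizer_iff.2 ?_⟩
    rintro z (rfl | rfl)
    exacts [h1.symm, h2.symm]
  have hpart : ∀ u : Y, (u = a ∨ u = t * a) →
      Nat.card ↥(K ⊓ Subgroup.centralizer ({u} : Set Y)) ≤
        Nat.card KV * (invIn (K ⊓ Subgroup.centralizer ({u} : Set Y)) t).ncard := by
    intro u hu
    have htu : t * u = u * t := by
      rcases hu with rfl | rfl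
      · exact hta
      · rw [mul_assoc, ← hta]
    refine (card_le_mul _ (Odd.of_dvd_nat hK (Subgroup.card_dvd_of_le inf_le_left)) ht ?_).trans
      (Nat.mul_le_mul_right _ (Subgroup.card_le_of_le (hV u hu)))
    rintro y ⟨hyK, hyu⟩
    refine ⟨hnt y hyK, Subgroup.mem_centralizer_singleton_iff.2 ?_⟩
    have h3 : y * u = u * y := Subgroup.mem_centralizer_singleton_iff.1 hyu
    have hti : t⁻¹ = t := inv_eq_of_mul_eq_one_right ht
    rw [hti]
    calc t * y * t * u = t * (y * u) * t := by simp only [mul_assoc, htu]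
      _ = u * (t * y * t) := by rw [h3, ← mul_assoc, htu]; simp only [mul_assoc]
  have hinj : (invIn Ka t).ncard * (invIn Kc t).ncard ≤ (invIn K t).ncard := by
    rw [← Nat.card_coe_set_eq, ← Nat.card_coe_set_eq, ← Nat.card_coe_set_eq, ← Nat.card_prod]
    refine Nat.card_le_card_of_injective (fun p => ⟨(p.1 : Y) * p.2 * p.1, ?_, ?_⟩) ?_
    · exact mul_mem (mul_mem p.1.2.1.1 p.2.2.1.1) p.1.2.1.1
    · calc t * ((p.1 : Y) * p.2 * p.1) * t⁻¹
          = (t * p.1 * t⁻¹) * (t * p.2 * t⁻¹) * (t * p.1 * t⁻¹) := by group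
        _ = ((p.1 : Y) * p.2 * p.1)⁻¹ := by rw [p.1.2.2, p.2.2.2]; group
    · rintro ⟨⟨y, hy, hyt⟩, z, hz, hzt⟩ ⟨⟨y', hy', hyt'⟩, z', hz', hzt'⟩ e
      have e1 : y * z * y = y' * z' * y' := congrArg Subtype.val e
      have hai : a⁻¹ = a := inv_eq_of_mul_eq_one_right ha
      have fixa : ∀ w, w ∈ Ka → a * w * a⁻¹ = w := fun w hw => by
        rw [← Subgroup.mem_centralizer_singleton_iff.1 hw.2, mul_inv_cancel_right]
      have inva : ∀ w, w ∈ Kc → t * w * t⁻¹ = w⁻¹ → a * w * a⁻¹ = w⁻¹ := fun w hw hwt => by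
        have hc : t * a * w * (t * a)⁻¹ = w := by
          rw [← Subgroup.mem_centralizer_singleton_iff.1 hw.2, mul_inv_cancel_right]
        calc a * w * a⁻¹ = t⁻¹ * (t * a * w * (t * a)⁻¹) * t := by group
          _ = t * w * t⁻¹ := by
            rw [hc, inv_eq_of_mul_eq_one_right ht]
          _ = w⁻¹ := hwt
      have e2 : y * z⁻¹ * y = y' * z'⁻¹ * y' := by
        have := congrArg (fun w => a * w * a⁻¹) e1
        rw [show a * (y * z * y) * a⁻¹ = (a * y * a⁻¹) * (a * z * a⁻¹) * (a * y * a⁻¹) by group,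
          show a * (y' * z' * y') * a⁻¹ = (a * y' * a⁻¹) * (a * z' * a⁻¹) * (a * y' * a⁻¹) by group,
          fixa y hy, inva z hz hzt, fixa y' hy', inva z' hz' hzt'] at this
        exact this
      -- `w = y'y⁻¹y⁻¹y'` is inverted by `z'`
      set w := y' * y⁻¹ * (y⁻¹ * y') with hw
      have hz1 : z = y⁻¹ * y' * z' * (y' * y⁻¹) := by
        calc z = y⁻¹ * (y * z * y) * y⁻¹ := by group
          _ = _ := by rw [e1]; group
      have hz2 : z⁻¹ = y⁻¹ * y' * z'⁻¹ * (y' * y⁻¹) := by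
        calc z⁻¹ = y⁻¹ * (y * z⁻¹ * y) * y⁻¹ := by group
          _ = _ := by rw [e2]; group
      have hwz : w * z' * w = z' := by
        have h3 := inv_inv z
        rw [hz2] at h3
        have h4 : (y⁻¹ * y' * z'⁻¹ * (y' * y⁻¹))⁻¹ = y⁻¹ * y' * z' * (y' * y⁻¹) := h3.trans hz1
        calc w * z' * w = (y' * y⁻¹) * (y⁻¹ * y' * z' * (y' * y⁻¹)) * (y⁻¹ * y') := by
              rw [hw]; group
          _ = (y' * y⁻¹) * (y⁻¹ * y' * z'⁻¹ * (y' * y⁻¹))⁻¹ * (y⁻¹ * y') := by rw [h4]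
          _ = z' := by group
      have hinvw : z'⁻¹ * w * z'⁻¹⁻¹ = w⁻¹ := by
        rw [inv_inv, eq_inv_iff_mul_eq_one]
        calc z'⁻¹ * w * z' * w = z'⁻¹ * (w * z' * w) := by group
          _ = 1 := by rw [hwz, inv_mul_cancel]
      have hw1 : w = 1 := eq_one_of_inverts (odd_of_mem hK (inv_mem hz'.1))
        (odd_of_mem hK (mul_mem (mul_mem hy'.1 (inv_mem hy.1)) (mul_mem (inv_mem hy.1) hy'.1))) hinvw
      have hyy : y' * y' = y * y := by
        have h5 : y⁻¹ * y⁻¹ = y'⁻¹ * y'⁻¹ := by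
          calc y⁻¹ * y⁻¹ = y'⁻¹ * w * y'⁻¹ := by rw [hw]; group
            _ = _ := by rw [hw1, mul_one]
        rw [← mul_inv_rev, ← mul_inv_rev, inv_inj] at h5
        exact h5.symm
      obtain ⟨m, hm⟩ := hK
      have hp : ∀ v ∈ K, (v * v) ^ (m + 1) = v := fun v hv => by
        have h6 : v ^ Nat.card K = 1 := orderOf_dvd_iff_pow_eq_one.1 (Subgroup.orderOf_dvd_natCard K hv)
        rw [← pow_two, ← pow_mul, show 2 * (m + 1) = Nat.card K + 1 by omega, pow_succ, h6, one_mul]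
      have hyeq : y = y' := by rw [← hp y hy.1, ← hyy, hp y' hy'.1]
      subst hyeq
      have hzeq : z = z' := mul_left_cancel (mul_right_cancel e1)
      subst hzeq
      rfl
  calc _ ≤ Nat.card ↥(K ⊓ Subgroup.centralizer ({t} : Set Y)) *
        (Nat.card KV * (invIn Ka t).ncard) * (Nat.card KV * (invIn Kc t).ncard) :=
      Nat.mul_le_mul (Nat.mul_le_mul_left _ (hpart a (Or.inl rfl))) (hpart _ (Or.inr rfl))
    _ = Nat.card ↥(K ⊓ Subgroup.centralizer ({t} : Set Y)) * ((invIn Ka t).ncard * (invIn Kc t).ncard) *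
        Nat.card KV ^ 2 := by ring
    _ ≤ Nat.card ↥(K ⊓ Subgroup.centralizer ({t} : Set Y)) * (invIn K t).ncard * Nat.card KV ^ 2 :=
      Nat.mul_le_mul_right _ (Nat.mul_le_mul_left _ hinj)
    _ ≤ Nat.card K * Nat.card KV ^ 2 := Nat.mul_le_mul_right _ (mul_le_card K hK)

end Cfsg.Agent.Lib.GorensteinWalter.FixedPoints
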