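import Cfsg.Agent.Lib.GorensteinWalter.Four.Setting
import Cfsg.Agent.Lib.GorensteinWalter.ConfTools
import Cfsg.Agent.Lib.GorensteinWalter.Structure
import Cfsg.Agent.Lib.OddCentTrans.Basic

/-!
# Gorenstein–Walter, Sylow 2-subgroups of order four: fusion around `O(C(V))`

`N(V)` acts on `V` and on `D = O(C(V))` through a rotation `ρ`; fusion in `G` of elements of `O(C(t))`
is controlled by `C(t)` and `N(V)`.  If a Sylow `r`-subgroup `P` of `D` is not one of `O(C(t))`, its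
centralizer is fused at `V`; otherwise the inverted elements lie in the `r'`-core of `O(C(t))`.
-/

set_option autoImplicit false
set_option linter.unusedSectionVars false
set_option linter.style.haveILetI false

namespace Cfsg.Agent.Lib.GorensteinWalter.Four

open Cfsg.Agent.Lib.Fusion.Dihedral
open scoped Pointwise

universe u

variable {G : Type u} [Group G] [Finite G]

namespace Ctx

variable {t a : G} {V : Subgroup G} (h : Ctx t a V)
include h

/-! ## The four-group -/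

theorem ta_ne_one : t * a ≠ 1 := fun e => h.a_ne (by
  rw [← inv_eq_of_mul_eq_one_right e, h.t_inv])

theorem ta_ne_t : t * a ≠ t := fun e => h.a_ne_one (mul_eq_left.1 e)

theorem ta_ne_a : t * a ≠ a := fun e => h.t_ne_one (mul_eq_right.1 e)

theorem eq_cases {v : G} (hv : v ∈ V) : v = 1 ∨ v = t ∨ v = a ∨ v = t * a := by
  by_contra hne
  simp only [not_or] at hne
  have hsub : ({1, t, a, t * a} : Set G) ⊆ (V : Set G) \ {v} := by
    rintro y (rfl | rfl | rfl | rfl)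
    exacts [⟨one_mem V, Ne.symm hne.1⟩, ⟨h.t_mem, Ne.symm hne.2.1⟩, ⟨h.a_mem, Ne.symm hne.2.2.1⟩,
      ⟨mul_mem h.t_mem h.a_mem, Ne.symm hne.2.2.2⟩]
  have h3 := Set.ncard_le_ncard hsub (Set.toFinite _)
  rw [Set.ncard_sdiff (Set.singleton_subset_iff.2 hv), Set.ncard_singleton,
    show (V : Set G).ncard = 4 from (Nat.card_coe_set_eq _).symm.trans h.four.1,
    Set.ncard_insert_of_notMem, Set.ncard_insert_of_notMem, Set.ncard_pair h.ta_ne_a.symm] at h3
  · omega
  · simp only [Set.mem_insert_iff, Set.mem_singleton_iff, not_or]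
    exact ⟨h.a_ne.symm, h.ta_ne_t.symm⟩
  · simp only [Set.mem_insert_iff, Set.mem_singleton_iff, not_or]
    exact ⟨h.t_ne_one.symm, h.a_ne_one.symm, h.ta_ne_one.symm⟩

/-- Every involution of `V` can take the place of `t`. -/
theorem change {c : G} (hc : c ∈ V) (hc1 : c ≠ 1) : ∃ b, Ctx c b V := by
  obtain ⟨b, hb, hb1, hbc⟩ : ∃ b ∈ V, b ≠ 1 ∧ b ≠ c := by
    by_cases hca : c = a
    · exact ⟨t, h.t_mem, h.t_ne_one, hca ▸ h.a_ne.symm⟩
    · exact ⟨a, h.a_mem, h.a_ne_one, Ne.symm hca⟩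
  exact ⟨b, h.hyp, h.four, h.small, hc, hb, hc1, hb1, hbc⟩

/-- An element of `N(V)` fixing `t` lies in `V O(C(V))`. -/
theorem exists_mul_core {n : G} (hn : n ∈ Subgroup.normalizer (V : Set G)) (hnt : n * t * n⁻¹ = t) :
    ∃ v ∈ V, ∃ x ∈ coreV V, n = v * x := by
  obtain ⟨o, ho, v, hv, rfl⟩ :=
    h.exists_mul (Subgroup.mem_centralizer_singleton_iff.2 (mul_inv_eq_iff_eq_mul.1 hnt))
  have hoV : o ∈ Subgroup.centralizer (V : Set G) := Subgroup.mem_centralizer_iff.2 fun w hw => by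
    have hc : o * w * o⁻¹ ∈ V := by
      have h1 := (Subgroup.mem_normalizer_iff.1 hn w).1 hw
      rwa [show o * v * w * (o * v)⁻¹ = o * (v * w * v⁻¹) * o⁻¹ by group, h.four.comm hv hw,
        mul_inv_cancel_right] at h1
    have e : o * (w * o⁻¹ * w⁻¹) = o * w * o⁻¹ * w⁻¹ := by group
    have h1 : o * (w * o⁻¹ * w⁻¹) = 1 := h.eq_one_of_mem
      (mul_mem ho (h.conj_mem (h.four_le hw) (inv_mem ho))) (e ▸ mul_mem hc (inv_mem hw))
    calc w * o = o * (w * o⁻¹ * w⁻¹) * (w * o) := by rw [h1, one_mul]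
      _ = o * w := by group
  have hoD : o ∈ coreV V := h.hyp.mem_coreV h.four hoV (orderOf_odd_of_mem (coreC_odd t) ho)
  exact ⟨v, hv, o, hoD, (Subgroup.mem_centralizer_iff.1 hoV v hv).symm⟩

theorem coreV_comm {x v : G} (hx : x ∈ coreV V) (hv : v ∈ V) : v * x = x * v :=
  Subgroup.mem_centralizer_iff.1 (coreV_le V hx) v hv

/-- An element of `N(V)` fixing an involution of `V` centralises `V`. -/
theorem fix_centralizes {n c : G} (hn : n ∈ Subgroup.normalizer (V : Set G)) (hc : c ∈ V) (hc1 : c ≠ 1)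
    (hnc : n * c * n⁻¹ = c) : n ∈ Subgroup.centralizer (V : Set G) := by
  obtain ⟨b, hb⟩ := h.change hc hc1
  obtain ⟨v, hv, x, hx, rfl⟩ := hb.exists_mul_core hn hnc
  exact mul_mem (h.four.le_centralizer_self hv) (coreV_le V hx)

theorem exists_rot : ∃ ρ ∈ Subgroup.normalizer (V : Set G), ρ * t * ρ⁻¹ = a := by
  obtain ⟨g, -, hg, he⟩ := (h.hyp.fusedIn_top h.four).2.2 t h.t_mem h.t_ne_one a h.a_mem h.a_ne_one
  exact ⟨g, hg, he⟩

theorem rot_a {ρ : G} (hρ : ρ ∈ Subgroup.normalizer (V : Set G)) (hρt : ρ * t * ρ⁻¹ = a) :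
    ρ * a * ρ⁻¹ = t * a := by
  rcases h.eq_cases ((Subgroup.mem_normalizer_iff.1 hρ a).1 h.a_mem) with e | e | e | e
  · exact absurd (conj_eq_one_iff.1 e) h.a_ne_one
  · have hta : ρ * (t * a) * ρ⁻¹ = t * a := by
      rw [show ρ * (t * a) * ρ⁻¹ = ρ * t * ρ⁻¹ * (ρ * a * ρ⁻¹) by group, hρt, e]
      exact h.four.comm h.a_mem h.t_mem
    have hc := h.fix_centralizes hρ (mul_mem h.t_mem h.a_mem) h.ta_ne_one hta
    refine absurd ?_ h.a_ne
    rw [← hρt, ← Subgroup.mem_centralizer_iff.1 hc t h.t_mem, mul_inv_cancel_right]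
  · exact absurd (e.trans hρt.symm) fun e' => h.a_ne (mul_left_cancel (mul_right_cancel e'))
  · exact e

theorem rot_ta {ρ : G} (hρ : ρ ∈ Subgroup.normalizer (V : Set G)) (hρt : ρ * t * ρ⁻¹ = a) :
    ρ * (t * a) * ρ⁻¹ = t := by
  rw [show ρ * (t * a) * ρ⁻¹ = ρ * t * ρ⁻¹ * (ρ * a * ρ⁻¹) by group, hρt, h.rot_a hρ hρt,
    h.four.comm h.t_mem h.a_mem, ← mul_assoc, h.a_sq, one_mul]

theorem fused_of_rot {H : Subgroup G} (hVH : V ≤ H) {ρ : G} (hρ : ρ ∈ Subgroup.normalizer (V : Set G))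
    (hρH : ρ ∈ H) (hρt : ρ * t * ρ⁻¹ = a) : FusedIn V H := by
  refine ⟨h.four, hVH, ?_⟩
  have ht : ∀ v ∈ V, v ≠ 1 → ∃ g ∈ H, g ∈ Subgroup.normalizer (V : Set G) ∧ g * t * g⁻¹ = v := by
    intro v hv hv1
    rcases h.eq_cases hv with rfl | rfl | rfl | rfl
    · exact absurd rfl hv1
    · exact ⟨1, one_mem _, one_mem _, by group⟩
    · exact ⟨ρ, hρH, hρ, hρt⟩
    · exact ⟨ρ * ρ, mul_mem hρH hρH, mul_mem hρ hρ, by
        rw [show ρ * ρ * t * (ρ * ρ)⁻¹ = ρ * (ρ * t * ρ⁻¹) * ρ⁻¹ by group, hρt, h.rot_a hρ hρt]⟩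
  intro v hv hv1 w hw hw1
  obtain ⟨g, hgH, hgN, hgv⟩ := ht v hv hv1
  obtain ⟨k, hkH, hkN, hkw⟩ := ht w hw hw1
  refine ⟨k * g⁻¹, mul_mem hkH (inv_mem hgH), mul_mem hkN (inv_mem hgN), ?_⟩
  rw [← hgv, ← hkw]
  group

/-! ## Fusion -/

/-- A 2-subgroup of `H` is conjugate in `H` into any four-group of `H`. -/
theorem conj_into {W H Q : Subgroup G} (hW : IsFour W) (hWH : W ≤ H) (hQ : IsPGroup 2 Q) (hQH : Q ≤ H) :
    ∃ k ∈ H, ∀ x ∈ Q, k * x * k⁻¹ ∈ W := by
  haveI : Fact (Nat.Prime 2) := ⟨Nat.prime_two⟩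
  obtain ⟨T, hT⟩ := (hW.isPGroup.comap_subtype (K := H)).exists_le_sylow
  obtain ⟨T', hT'⟩ := (hQ.comap_subtype (K := H)).exists_le_sylow
  obtain ⟨k, hk⟩ := MulAction.exists_smul_eq H T' T
  set P := (T : Subgroup H).map H.subtype
  have hWP : W = P := Subgroup.eq_of_le_of_card_ge (fun x hx => ⟨⟨x, hWH hx⟩, hT hx, rfl⟩)
    ((h.small P (T.2.map _)).trans hW.1.ge)
  refine ⟨k, k.2, fun x hx => hWP ▸ ⟨k * ⟨x, hQH hx⟩ * k⁻¹, ?_, rfl⟩⟩
  rw [← hk]
  exact Subgroup.smul_mem_pointwise_smul _ (MulAut.conj k) (T' : Subgroup H) (hT' hx)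

theorem exists_involution_conj {u : G} (hu : orderOf u = 2) : ∃ g : G, g * t * g⁻¹ = u :=
  isConj_iff.1 (h.hyp.isConj h.t_two hu)

omit h in
theorem isPGroup_two_zpowers {u : G} (hu : u * u = 1) : IsPGroup 2 (Subgroup.zpowers u) :=
  SolvCent.isPGroup_zpowers_invol (by rw [sq, hu])

/-- Two elements of `O(C(V))` conjugate in `G` are conjugate in `N(V)`. -/
theorem exists_normalizer_conj {x x' : G} (hx : x ∈ coreV V) (hx' : x' ∈ coreV V) {g : G}
    (hg : g * x * g⁻¹ = x') :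
    ∃ n ∈ Subgroup.normalizer (V : Set G), n * x * n⁻¹ = x' := by
  have hV : ∀ {y : G}, y ∈ coreV V → V ≤ Subgroup.centralizer ({y} : Set G) := fun hy v hv =>
    Subgroup.mem_centralizer_singleton_iff.2 (h.coreV_comm hy hv)
  have hQ : V.map (MulAut.conj g⁻¹).toMonoidHom ≤ Subgroup.centralizer ({x} : Set G) := by
    rintro _ ⟨v, hv, rfl⟩
    rw [Subgroup.mem_centralizer_singleton_iff]
    simp only [MulEquiv.coe_toMonoidHom, MulAut.conj_apply, inv_inv]
    calc g⁻¹ * v * g * x = g⁻¹ * (v * (g * x * g⁻¹)) * g := by group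
      _ = g⁻¹ * (g * x * g⁻¹ * v) * g := by rw [hg, h.coreV_comm hx' hv]
      _ = x * (g⁻¹ * v * g) := by group
  obtain ⟨k, hk, hkV⟩ := h.conj_into h.four (hV hx) (h.four.isPGroup.map _) hQ
  refine ⟨g * k⁻¹, ?_, ?_⟩
  · rw [Subgroup.mem_normalizer_iff_map_conj_eq]
    have h1 : V.map (MulAut.conj (k * g⁻¹)).toMonoidHom = V := by
      refine Subgroup.eq_of_le_of_card_ge ?_ ?_
      · rintro _ ⟨v, hv, rfl⟩
        have := hkV _ ⟨v, hv, rfl⟩
        simpa [mul_assoc] using this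
      · rw [Subgroup.card_map_of_injective (MulAut.conj (k * g⁻¹)).injective]
    conv_lhs => rw [← h1]
    rw [Subgroup.map_map]
    convert Subgroup.map_id V using 2
    ext z
    simp [mul_assoc]
  · rw [← hg, show g * k⁻¹ * x * (g * k⁻¹)⁻¹ = g * (k⁻¹ * x * k) * g⁻¹ by group]
    have := Subgroup.mem_centralizer_singleton_iff.1 hk
    rw [show k⁻¹ * x * k = x by rw [mul_assoc, ← this, inv_mul_cancel_left]]

theorem conj_coreV {n x : G} (hn : n ∈ Subgroup.normalizer (V : Set G)) (hx : x ∈ coreV V) :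
    n * x * n⁻¹ ∈ coreV V := by
  refine h.hyp.mem_coreV h.four (Subgroup.mem_centralizer_iff.2 fun v hv => ?_) ?_
  · have hv' := (Subgroup.mem_normalizer_iff''.1 hn v).1 hv
    calc v * (n * x * n⁻¹) = n * (n⁻¹ * v * n * x) * n⁻¹ := by group
      _ = n * (x * (n⁻¹ * v * n)) * n⁻¹ := by rw [h.coreV_comm hx hv']
      _ = n * x * n⁻¹ * v := by group
  · rw [← MulAut.conj_apply, MulEquiv.orderOf_eq (MulAut.conj n) x]
    exact orderOf_odd_of_mem (coreV_odd V) hx

/-- A class function on `O(C(V))` invariant under `ρ` is invariant under `N(V)`. -/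
theorem normalizer_invariant {ρ : G} (hρ : ρ ∈ Subgroup.normalizer (V : Set G))
    (hρt : ρ * t * ρ⁻¹ = a) (f : G → ℂ)
    (hD : ∀ d ∈ coreV V, ∀ x ∈ coreV V, f (d * x * d⁻¹) = f x)
    (hf : ∀ x ∈ coreV V, f (ρ * x * ρ⁻¹) = f x) :
    ∀ n ∈ Subgroup.normalizer (V : Set G), ∀ x ∈ coreV V, f (n * x * n⁻¹) = f x := by
  have hmem : ∀ n ∈ Subgroup.normalizer (V : Set G), ∀ x ∈ coreV V, n * x * n⁻¹ ∈ coreV V :=
    fun n hn x hx => h.conj_coreV hn hx
  -- elements fixing `t`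
  have hfix : ∀ n ∈ Subgroup.normalizer (V : Set G), n * t * n⁻¹ = t →
      ∀ x ∈ coreV V, f (n * x * n⁻¹) = f x := by
    intro n hn hnt x hx
    obtain ⟨v, hv, d, hd, rfl⟩ := h.exists_mul_core hn hnt
    have e : v * d * x * (v * d)⁻¹ = d * x * d⁻¹ := by
      rw [show v * d * x * (v * d)⁻¹ = v * (d * x * d⁻¹) * v⁻¹ by group,
        h.coreV_comm (mul_mem (mul_mem hd hx) (inv_mem hd)) hv, mul_inv_cancel_right]
    rw [e]
    exact hD d hd x hx
  intro n hn x hx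
  rcases h.eq_cases ((Subgroup.mem_normalizer_iff.1 hn t).1 h.t_mem) with e | e | e | e
  · exact absurd (conj_eq_one_iff.1 e) h.t_ne_one
  · exact hfix n hn e x hx
  · have h1 := hfix (ρ⁻¹ * n) (mul_mem (inv_mem hρ) hn) (by
      rw [show ρ⁻¹ * n * t * (ρ⁻¹ * n)⁻¹ = ρ⁻¹ * (n * t * n⁻¹) * ρ by group, e, ← hρt]; group) x hx
    rw [← h1, ← hf _ (hmem _ (mul_mem (inv_mem hρ) hn) x hx)]
    congr 1
    group
  · have h1 := hfix ((ρ * ρ)⁻¹ * n) (mul_mem (inv_mem (mul_mem hρ hρ)) hn) (by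
      rw [show (ρ * ρ)⁻¹ * n * t * ((ρ * ρ)⁻¹ * n)⁻¹ = ρ⁻¹ * (ρ⁻¹ * (n * t * n⁻¹) * ρ) * ρ by
          simp only [mul_inv_rev, inv_inv, mul_assoc],
        e, ← h.rot_a hρ hρt, show ρ⁻¹ * (ρ * a * ρ⁻¹) * ρ = a by group, ← hρt]
      group) x hx
    have h2 := hmem _ (mul_mem (inv_mem (mul_mem hρ hρ)) hn) x hx
    rw [← h1, ← hf _ h2, ← hf _ (hmem ρ hρ _ h2)]
    congr 1
    group

/-- Conjugation in `G` on `O(C(t))` preserves the class functions invariant under `a` and `ρ`. -/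
theorem fusion {ρ : G} (hρ : ρ ∈ Subgroup.normalizer (V : Set G)) (hρt : ρ * t * ρ⁻¹ = a) (F : G → ℂ)
    (hO : ∀ p ∈ coreC t, ∀ o ∈ coreC t, F (p * o * p⁻¹) = F o)
    (ha : ∀ o ∈ coreC t, F (a * o * a⁻¹) = F o)
    (hf : ∀ x ∈ coreV V, F (ρ * x * ρ⁻¹) = F x) :
    ∀ o ∈ coreC t, ∀ o' ∈ coreC t, IsConj o o' → F o = F o' := by
  classical
  haveI : Fact (Nat.Prime 2) := ⟨Nat.prime_two⟩
  -- `C(t)`
  have hC : ∀ c : G, c * t = t * c → ∀ o ∈ coreC t, F (c * o * c⁻¹) = F o := by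
    intro c hc o ho
    obtain ⟨p, hp, v, hv, rfl⟩ := h.exists_mul (Subgroup.mem_centralizer_singleton_iff.2 hc)
    rw [show p * v * o * (p * v)⁻¹ = p * (v * o * v⁻¹) * p⁻¹ by group,
      hO p hp _ (h.conj_mem (h.four_le hv) ho)]
    by_cases hv1 : v = 1
    · simp [hv1]
    by_cases hvt : v = t
    · rw [hvt, ← h.core_comm ho, mul_inv_cancel_right]
    rw [h.conj_eq hv hv1 hvt ho, ha o ho]
  intro o ho o' ho' hoo
  obtain ⟨g, hg⟩ := isConj_iff.1 hoo
  have hto : ∀ {y : G}, y ∈ coreC t → t ∈ Subgroup.centralizer ({y} : Set G) := fun hy =>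
    Subgroup.mem_centralizer_singleton_iff.2 (h.core_comm hy).symm
  by_cases hW : ∃ W : Subgroup G, IsFour W ∧ W ≤ Subgroup.centralizer ({o} : Set G)
  · -- both are conjugate into `O(C(V))`
    have key : ∀ y ∈ coreC t, (∃ W : Subgroup G, IsFour W ∧ W ≤ Subgroup.centralizer ({y} : Set G)) →
        ∃ k : G, k * t = t * k ∧ k * y * k⁻¹ ∈ coreV V := by
      intro y hy hW'
      obtain ⟨W, hW, hWy⟩ := hW'
      obtain ⟨k, hk, hkW⟩ := h.conj_into hW hWy (isPGroup_two_zpowers h.t_sq)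
        (Subgroup.zpowers_le.2 (hto hy))
      set W' := W.map (MulAut.conj k⁻¹).toMonoidHom with hW'
      have hW'4 : IsFour W' := hW.map k⁻¹
      have hmem : ∀ {w : G}, w ∈ W' → ∃ x ∈ W, k⁻¹ * x * k = w := fun hw => by
        obtain ⟨x, hx, rfl⟩ := hw
        exact ⟨x, hx, by simp⟩
      have htW : t ∈ W' := ⟨k * t * k⁻¹, hkW t (Subgroup.mem_zpowers t), by simp [mul_assoc]⟩
      have hW'C : W' ≤ Subgroup.centralizer ({t} : Set G) := fun w hw =>
        Subgroup.mem_centralizer_singleton_iff.2 (hW'4.comm hw htW)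
      obtain ⟨c, hc, hcV⟩ := h.conj_into h.four h.four_le hW'4.isPGroup hW'C
      refine ⟨c, Subgroup.mem_centralizer_singleton_iff.1 hc, ?_⟩
      refine h.hyp.mem_coreV h.four (Subgroup.mem_centralizer_iff.2 fun v hv => ?_) ?_
      · have h1 : W'.map (MulAut.conj c).toMonoidHom = V := Subgroup.eq_of_le_of_card_ge
          (by rintro _ ⟨w, hw, rfl⟩; exact hcV w hw)
          (by rw [Subgroup.card_map_of_injective (MulAut.conj c).injective, h.four.1, hW'4.1])
        rw [← h1] at hv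
        obtain ⟨w, hw, rfl⟩ := hv
        obtain ⟨x, hx, rfl⟩ := hmem hw
        have hxy := Subgroup.mem_centralizer_singleton_iff.1 (hWy hx)
        have hky := Subgroup.mem_centralizer_singleton_iff.1 hk
        have hwy : Commute (k⁻¹ * x * k) y :=
          ((show Commute k y from hky).inv_left.mul_left (show Commute x y from hxy)).mul_left hky
        simp only [MulEquiv.coe_toMonoidHom, MulAut.conj_apply]
        calc c * (k⁻¹ * x * k) * c⁻¹ * (c * y * c⁻¹) = c * (k⁻¹ * x * k * y) * c⁻¹ := by group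
          _ = c * (y * (k⁻¹ * x * k)) * c⁻¹ := by rw [hwy.eq]
          _ = _ := by group
      · rw [← MulAut.conj_apply, MulEquiv.orderOf_eq (MulAut.conj c) y]
        exact orderOf_odd_of_mem (coreC_odd t) hy
    obtain ⟨W, hW, hWo⟩ := hW
    obtain ⟨k, hk, hkD⟩ := key o ho ⟨W, hW, hWo⟩
    obtain ⟨k', hk', hkD'⟩ := key o' ho' ⟨W.map (MulAut.conj g).toMonoidHom, hW.map g, by
      rintro _ ⟨w, hw, rfl⟩
      rw [Subgroup.mem_centralizer_singleton_iff, ← hg]
      have := Subgroup.mem_centralizer_singleton_iff.1 (hWo hw)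
      simp only [MulEquiv.coe_toMonoidHom, MulAut.conj_apply]
      calc g * w * g⁻¹ * (g * o * g⁻¹) = g * (w * o) * g⁻¹ := by group
        _ = _ := by rw [this]; group⟩
    obtain ⟨n, hn, hne⟩ := h.exists_normalizer_conj hkD hkD' (g := k' * g * k⁻¹) (by rw [← hg]; group)
    rw [← hC k hk o ho, ← hC k' hk' o' ho', ← hne]
    exact (h.normalizer_invariant hρ hρt F (fun d hd x hx => hO d (h.coreV_le_core hd) x
      (h.coreV_le_core hx)) hf n hn _ hkD).symm
  · -- `⟨t⟩` is a Sylow 2-subgroup of `C(o)`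
    have hu : g⁻¹ * t * g ∈ Subgroup.centralizer ({o} : Set G) := by
      rw [Subgroup.mem_centralizer_singleton_iff]
      calc g⁻¹ * t * g * o = g⁻¹ * (t * (g * o * g⁻¹)) * g := by group
        _ = g⁻¹ * (g * o * g⁻¹ * t) * g := by rw [hg, h.core_comm ho']
        _ = o * (g⁻¹ * t * g) := by group
    obtain ⟨T, hT⟩ := ((isPGroup_two_zpowers h.t_sq).comap_subtype
      (K := Subgroup.centralizer ({o} : Set G))).exists_le_sylow
    obtain ⟨T', hT'⟩ := ((isPGroup_two_zpowers (u := g⁻¹ * t * g) (by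
      rw [show g⁻¹ * t * g * (g⁻¹ * t * g) = g⁻¹ * (t * t) * g by group, h.t_sq]; group)).comap_subtype
      (K := Subgroup.centralizer ({o} : Set G))).exists_le_sylow
    obtain ⟨k, hk⟩ := MulAction.exists_smul_eq ↥(Subgroup.centralizer ({o} : Set G)) T' T
    set P := (T : Subgroup ↥(Subgroup.centralizer ({o} : Set G))).map
      (Subgroup.centralizer ({o} : Set G)).subtype with hP
    have htP : t ∈ P := ⟨⟨t, hto ho⟩, hT (Subgroup.mem_zpowers t), rfl⟩
    have huP : (k : G) * (g⁻¹ * t * g) * (k : G)⁻¹ ∈ P := ⟨k * ⟨_, hu⟩ * k⁻¹, by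
      rw [← hk]
      exact Subgroup.smul_mem_pointwise_smul _ (MulAut.conj k) _ (hT' (Subgroup.mem_zpowers _)), rfl⟩
    have hPp : IsPGroup 2 P := T.2.map _
    have hP2 : Nat.card P ≤ 2 := by
      by_contra h3
      obtain ⟨j, hj⟩ := hPp.exists_card_eq
      have h4 := h.small P hPp
      have hP4 : Nat.card P = 4 := by
        have h1 : 1 ≤ j ∧ j ≤ 2 → j = 1 ∨ j = 2 := by omega
        have h2 : j ≤ 2 := (Nat.pow_le_pow_iff_right (by norm_num : 1 < 2)).1 (by rw [← hj]; exact h4)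
        interval_cases j <;> omega
      refine hW ⟨P, ⟨hP4, ?_⟩, Subgroup.map_subtype_le _⟩
      obtain ⟨c, -, hc⟩ := h.conj_into h.four (le_top : V ≤ ⊤) hPp le_top
      intro x hx
      refine (conj_eq_one_iff (a := c)).1 ?_
      rw [show c * (x * x) * c⁻¹ = c * x * c⁻¹ * (c * x * c⁻¹) by group]
      exact h.four.2 _ (hc x hx)
    have hut : (k : G) * (g⁻¹ * t * g) * (k : G)⁻¹ = t := by
      by_contra hne
      have hsub : ({1, t, (k : G) * (g⁻¹ * t * g) * (k : G)⁻¹} : Set G) ⊆ P := by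
        rintro y (rfl | rfl | rfl)
        exacts [one_mem P, htP, huP]
      have h3 := Set.ncard_le_ncard hsub (Set.toFinite _)
      rw [Set.ncard_insert_of_notMem, Set.ncard_pair (Ne.symm hne),
        show (P : Set G).ncard = Nat.card P from (Nat.card_coe_set_eq _).symm] at h3
      · omega
      · simp only [Set.mem_insert_iff, Set.mem_singleton_iff, not_or]
        refine ⟨h.t_ne_one.symm, fun e => h.t_ne_one ?_⟩
        calc t = g * ((k : G)⁻¹ * ((k : G) * (g⁻¹ * t * g) * (k : G)⁻¹) * k) * g⁻¹ := by group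
          _ = 1 := by rw [← e]; group
    have hko := Subgroup.mem_centralizer_singleton_iff.1 k.2
    have e : o' = g * (k : G)⁻¹ * o * (g * (k : G)⁻¹)⁻¹ := by
      rw [show g * (k : G)⁻¹ * o * (g * (k : G)⁻¹)⁻¹ = g * ((k : G)⁻¹ * (o * k)) * g⁻¹ by group, ← hko,
        inv_mul_cancel_left, hg]
    rw [e, hC]
    · calc g * (k : G)⁻¹ * t = g * (k : G)⁻¹ * ((k : G) * (g⁻¹ * t * g) * (k : G)⁻¹) := by rw [hut]
        _ = t * (g * (k : G)⁻¹) := by group
    · exact ho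

/-! ## Subgroups normalised by `C(t)` -/

/-- No nontrivial proper subgroup normalised by `C(t)` has a fused normalizer. -/
theorem false_of_normalized (hSE : ∀ H : Subgroup G, ¬ Cfsg.IsStronglyEmbedded H) {X : Subgroup G}
    (hX : X ≠ ⊥) (hX' : X ≠ ⊤)
    (hC : Subgroup.centralizer ({t} : Set G) ≤ Subgroup.normalizer (X : Set G))
    (hV : FusedIn V (Subgroup.normalizer (X : Set G))) : False := by
  haveI : Fact (Nat.Prime 2) := ⟨Nat.prime_two⟩
  set H := Subgroup.normalizer (X : Set G) with hH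
  have hVH : V ≤ H := hV.2.1
  have hloc : ∀ u ∈ H, orderOf u = 2 → ∃ l ∈ H, l * t * l⁻¹ = u := by
    intro u hu hu2
    obtain ⟨k, hk, hkV⟩ := h.conj_into h.four hVH
      (isPGroup_two_zpowers (by rw [← sq, ← hu2, pow_orderOf_eq_one])) (Subgroup.zpowers_le.2 hu)
    have hv := hkV u (Subgroup.mem_zpowers u)
    have hv1 : k * u * k⁻¹ ≠ 1 := fun e => by
      rw [conj_eq_one_iff.1 e, orderOf_one] at hu2; omega
    obtain ⟨g, hg, -, hge⟩ := hV.2.2 t h.t_mem h.t_ne_one _ hv hv1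
    exact ⟨k⁻¹ * g, mul_mem (inv_mem hk) hg, by
      rw [show k⁻¹ * g * t * (k⁻¹ * g)⁻¹ = k⁻¹ * (g * t * g⁻¹) * k by group, hge]; group⟩
  refine hSE H ⟨h.hyp.normalizer_ne_top hX hX', ?_, fun g hg => ?_⟩
  · rw [even_iff_two_dvd, ← h.t_two]
    exact Subgroup.orderOf_dvd_natCard H (hVH h.t_mem)
  by_contra hodd
  rw [Nat.not_odd_iff_even, even_iff_two_dvd] at hodd
  obtain ⟨u, hu⟩ := exists_prime_orderOf_dvd_card' 2 hodd
  have hu2 : orderOf (u : G) = 2 := by rw [Subgroup.orderOf_coe, hu]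
  obtain ⟨w, hw, hwu⟩ := (Subgroup.mem_inf.1 u.2).2
  have hwu' : g * w * g⁻¹ = (u : G) := hwu
  obtain ⟨l, hl, hle⟩ := hloc _ (Subgroup.mem_inf.1 u.2).1 hu2
  obtain ⟨m, hm, hme⟩ := hloc w hw (by
    rw [← hu2, ← hwu', ← MulAut.conj_apply, MulEquiv.orderOf_eq (MulAut.conj g) w])
  refine hg ?_
  have hz : (l⁻¹ * g * m) * t = t * (l⁻¹ * g * m) := by
    calc l⁻¹ * g * m * t = l⁻¹ * (g * (m * t * m⁻¹) * g⁻¹) * (g * m) := by group
      _ = l⁻¹ * (l * t * l⁻¹) * (g * m) := by rw [hme, hwu', hle]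
      _ = t * (l⁻¹ * g * m) := by group
  have := mul_mem (mul_mem hl (hC (Subgroup.mem_centralizer_singleton_iff.2 hz))) (inv_mem hm)
  simpa [mul_assoc] using this

/-- `O(C(t))` is not abelian. -/
theorem exists_not_comm (hSE : ∀ H : Subgroup G, ¬ Cfsg.IsStronglyEmbedded H) (hD : coreV V ≠ ⊥) :
    ∃ x ∈ coreC t, ∃ y ∈ coreC t, x * y ≠ y * x := by
  by_contra hc
  push Not at hc
  obtain ⟨ρ, hρ, hρt⟩ := h.exists_rot
  have hCN : ∀ c ∈ Subgroup.centralizer ({t} : Set G), ∀ x ∈ coreV V, c * x * c⁻¹ = x := by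
    intro c hc' x hx
    obtain ⟨o, ho, v, hv, rfl⟩ := h.exists_mul hc'
    rw [show o * v * x * (o * v)⁻¹ = o * (v * x * v⁻¹) * o⁻¹ by group, h.coreV_comm hx hv,
      mul_inv_cancel_right, hc o ho x (h.coreV_le_core hx), mul_inv_cancel_right]
  have hN : Subgroup.normalizer (V : Set G) ≤ Subgroup.normalizer (coreV V : Set G) := fun n hn =>
    Subgroup.mem_normalizer_fintype fun x hx => h.conj_coreV hn hx
  refine h.false_of_normalized hSE hD (h.hyp.ne_top_of_odd (coreV_odd V)) (fun c hc' => ?_)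
    (h.fused_of_rot (H := Subgroup.normalizer (coreV V : Set G)) (Subgroup.le_normalizer.trans hN) hρ (hN hρ) hρt)
  exact Subgroup.mem_normalizer_fintype fun x hx => by rw [hCN c hc' x hx]; exact hx

theorem conj_quot (x : G) : a * (x⁻¹ * (a * x * a⁻¹)) * a⁻¹ = (x⁻¹ * (a * x * a⁻¹))⁻¹ := by
  rw [h.a_inv]
  calc a * (x⁻¹ * (a * x * a)) * a = a * x⁻¹ * a * x * (a * a) := by group
    _ = (x⁻¹ * (a * x * a))⁻¹ := by
      rw [h.a_sq, mul_one, mul_inv_rev, mul_inv_rev, mul_inv_rev, inv_inv, h.a_inv]; group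

/-! ## Sylow subgroups of `O(C(V))` -/

variable {r : ℕ} [Fact r.Prime]

/-- A Sylow subgroup of `O(C(V))`, inside `G`, and a rotation normalising it. -/
theorem exists_rot_sylow (P : Sylow r ↥(coreV V)) :
    ∃ ρ ∈ Subgroup.normalizer (V : Set G), ρ * t * ρ⁻¹ = a ∧
      ρ ∈ Subgroup.normalizer (((P : Subgroup ↥(coreV V)).map (coreV V).subtype : Subgroup G) : Set G) := by
  obtain ⟨ρ, hρ, hρt⟩ := h.exists_rot
  set P' := (P : Subgroup ↥(coreV V)).map (coreV V).subtype with hP'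
  have hle : P'.map (MulAut.conj ρ).toMonoidHom ≤ coreV V := by
    rintro _ ⟨x, hx, rfl⟩
    exact h.conj_coreV hρ (Subgroup.map_subtype_le _ hx)
  let Q : Sylow r ↥(coreV V) := Sylow.ofCard ((P'.map (MulAut.conj ρ).toMonoidHom).subgroupOf (coreV V)) (by
    rw [Nat.card_congr (Subgroup.subgroupOfEquivOfLe hle).toEquiv,
      Subgroup.card_map_of_injective (MulAut.conj ρ).injective,
      Subgroup.card_map_of_injective (coreV V).subtype_injective, Sylow.card_eq_multiplicity P])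
  obtain ⟨d, hd⟩ := MulAction.exists_smul_eq ↥(coreV V) Q P
  have hdV : (d : G) ∈ Subgroup.normalizer (V : Set G) :=
    Subgroup.centralizer_le_normalizer _ (coreV_le V d.2)
  refine ⟨(d : G) * ρ, mul_mem hdV hρ, ?_, Subgroup.mem_normalizer_fintype fun x hx => ?_⟩
  · rw [show (d : G) * ρ * t * ((d : G) * ρ)⁻¹ = (d : G) * (ρ * t * ρ⁻¹) * (d : G)⁻¹ by group, hρt,
      ← h.coreV_comm d.2 h.a_mem, mul_inv_cancel_right]
  · obtain ⟨y, hy, rfl⟩ := hx
    have hy' : ρ * (y : G) * ρ⁻¹ ∈ coreV V := h.conj_coreV hρ y.2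
    refine ⟨d * ⟨_, hy'⟩ * d⁻¹, ?_, ?_⟩
    · rw [← hd]
      refine Subgroup.smul_mem_pointwise_smul _ (MulAut.conj d) (Q : Subgroup ↥(coreV V)) ?_
      exact ⟨(y : G), ⟨y, hy, rfl⟩, rfl⟩
    · show (d : G) * (ρ * (y : G) * ρ⁻¹) * (d : G)⁻¹ = _
      simp only [Subgroup.coe_subtype]
      group

/-- If a Sylow subgroup of `O(C(V))` is not one of `O(C(t))`, its centralizer is fused at `V`. -/
theorem fused_centralizer (hNC : ∀ W H : Subgroup G, ¬ Conf r W H)
    (P : Sylow r ↥(coreV V)) (hP : (P : Subgroup ↥(coreV V)) ≠ ⊥)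
    (hlt : Nat.card (P : Subgroup ↥(coreV V)) * r ∣ Nat.card ↥(coreC t)) :
    FusedIn V (Subgroup.centralizer
      (((P : Subgroup ↥(coreV V)).map (coreV V).subtype : Subgroup G) : Set G)) := by
  set P' := (P : Subgroup ↥(coreV V)).map (coreV V).subtype with hP'
  have hP'D : P' ≤ coreV V := Subgroup.map_subtype_le _
  have hcard : Nat.card P' = Nat.card (P : Subgroup ↥(coreV V)) :=
    Subgroup.card_map_of_injective (coreV V).subtype_injective
  have hP'1 : P' ≠ ⊥ := fun e => hP ((Subgroup.map_eq_bot_iff_of_injective _ (coreV V).subtype_injective).1 e)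
  have hVC : V ≤ Subgroup.centralizer (P' : Set G) := fun v hv =>
    Subgroup.mem_centralizer_iff.2 fun x hx => (h.coreV_comm (hP'D hx) hv).symm
  set K := coreC t ⊓ Subgroup.normalizer (P' : Set G) with hK
  have haK : ∀ x ∈ K, a * x * a⁻¹ ∈ K := fun x hx => ⟨h.conj_mem (h.four_le h.a_mem) hx.1,
    show a * x * a⁻¹ ∈ Subgroup.normalizer (P' : Set G) from
      mul_mem (mul_mem (Subgroup.centralizer_le_normalizer _ (hVC h.a_mem)) hx.2)
        (inv_mem (Subgroup.centralizer_le_normalizer _ (hVC h.a_mem)))⟩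
  have hKodd : Odd (Nat.card K) := Odd.of_dvd_nat (coreC_odd t) (Subgroup.card_dvd_of_le inf_le_left)
  obtain ⟨R, hRK, hRp, hRa, hRmax, hRnorm⟩ := OddCentTrans.Basic.exists_invariant_sylow r K hKodd h.a_sq haK
  have hPK : P' ≤ K := le_inf (hP'D.trans h.coreV_le_core) Subgroup.le_normalizer
  have hP'p : IsPGroup r P' := P.2.map _
  have hPR : P' ≤ R := hRnorm P' hPK hP'p fun k hk s hs =>
    (Subgroup.mem_normalizer_iff.1 hk.2 s).1 hs
  -- a larger `r`-subgroup of `K`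
  obtain ⟨K₂, hK₂, hK₂p, hlt₂⟩ : ∃ K₂ : Subgroup G, K₂ ≤ K ∧ IsPGroup r K₂ ∧ Nat.card P' < Nat.card K₂ := by
    obtain ⟨j, hj⟩ := hP'p.exists_card_eq
    obtain ⟨M, hM, hPM⟩ := Sylow.exists_subgroup_card_pow_succ (G := ↥(coreC t)) (p := r) (n := j)
      (by rw [pow_succ, ← hj, hcard]; exact hlt) (H := P'.subgroupOf (coreC t))
      (by rw [Nat.card_congr (Subgroup.subgroupOfEquivOfLe (hP'D.trans h.coreV_le_core)).toEquiv, hj])
    set M' := M.map (coreC t).subtype with hM'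
    have hM'c : Nat.card M' = r ^ (j + 1) := by
      rw [Subgroup.card_map_of_injective (coreC t).subtype_injective, hM]
    have hM'p : IsPGroup r M' := IsPGroup.of_card hM'c
    have hPM' : P' ≤ M' := fun x hx =>
      ⟨⟨x, h.coreV_le_core (hP'D hx)⟩, hPM (Subgroup.mem_subgroupOf.2 hx), rfl⟩
    refine ⟨M' ⊓ Subgroup.normalizer (P' : Set G), le_inf (inf_le_left.trans (Subgroup.map_subtype_le _))
      inf_le_right, hM'p.to_le inf_le_left, ?_⟩
    haveI : Group.IsNilpotent M' := hM'p.isNilpotent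
    have hne : P'.subgroupOf M' < ⊤ := lt_top_iff_ne_top.2 fun e => by
      have h1 := Subgroup.subgroupOf_eq_top.1 e
      have h2 := Subgroup.card_le_of_le h1
      rw [hM'c, hj, pow_succ] at h2
      have := (Fact.out : r.Prime).two_le
      have := Nat.pow_pos (n := j) (by omega : 0 < r)
      nlinarith
    obtain ⟨-, z, hz, hzP⟩ := SetLike.lt_iff_le_and_exists.1 (Group.normalizerCondition_of_isNilpotent _ hne)
    refine lt_of_le_of_ne (Subgroup.card_le_of_le (le_inf hPM' Subgroup.le_normalizer)) fun e => hzP ?_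
    have heq := Subgroup.eq_of_le_of_card_ge (le_inf hPM' Subgroup.le_normalizer) e.ge
    rw [Subgroup.mem_subgroupOf, heq]
    refine ⟨z.2, Subgroup.mem_normalizer_fintype fun x hx => ?_⟩
    exact (Subgroup.mem_normalizer_iff.1 hz ⟨x, hPM' hx⟩).1 hx
  -- `a` moves `R`
  obtain ⟨x, hxR, hxa⟩ : ∃ x ∈ R, a * x * a⁻¹ ≠ x := by
    by_contra hall
    push Not at hall
    have hRD : R ≤ coreV V := fun x hx => h.coreV_eq_inf ▸ ⟨(hRK hx).1,
      Subgroup.mem_centralizer_singleton_iff.2 (mul_inv_eq_iff_eq_mul.1 (hall x hx)).symm⟩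
    obtain ⟨i, hi⟩ := hRp.exists_card_eq
    have h1 : r ^ i ∣ Nat.card (P : Subgroup ↥(coreV V)) := by
      obtain ⟨Q, hQ⟩ := (hRp.comap_subtype (K := coreV V)).exists_le_sylow
      rw [Sylow.card_eq_multiplicity P, ← Sylow.card_eq_multiplicity Q, ← hi,
        ← Nat.card_congr (Subgroup.subgroupOfEquivOfLe hRD).toEquiv]
      exact Subgroup.card_dvd_of_le hQ
    have h2 := Nat.le_of_dvd Nat.card_pos (hi ▸ h1 : Nat.card R ∣ Nat.card (P : Subgroup ↥(coreV V)))
    have h3 := Nat.le_of_dvd Nat.card_pos (hRmax K₂ hK₂ hK₂p)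
    omega
  set y := x⁻¹ * (a * x * a⁻¹) with hy
  have hyR : y ∈ R := mul_mem (inv_mem hxR) (hRa x hxR)
  have hy1 : y ≠ 1 := fun e => hxa (inv_mul_eq_one.1 e).symm
  have hya : a * y * a⁻¹ = y⁻¹ := h.conj_quot x
  have hyO : y ∈ coreC t := (hRK hyR).1
  have hyC : y ∈ Subgroup.centralizer (P' : Set G) := by
    refine Subgroup.mem_centralizer_iff.2 fun d hd => ?_
    have hd' : y * d * y⁻¹ ∈ P' := (Subgroup.mem_normalizer_iff.1 (hRK hyR).2 d).1 hd
    have h1 : y * d * y⁻¹ = y⁻¹ * d * y := by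
      calc y * d * y⁻¹ = a * (y * d * y⁻¹) * a⁻¹ := by
            rw [h.coreV_comm (hP'D hd') h.a_mem, mul_inv_cancel_right]
        _ = a * y * a⁻¹ * (a * d * a⁻¹) * (a * y * a⁻¹)⁻¹ := by group
        _ = y⁻¹ * d * y := by rw [hya, h.coreV_comm (hP'D hd) h.a_mem, mul_inv_cancel_right, inv_inv]
    have h2 : Commute (y ^ 2) d := by
      show y ^ 2 * d = d * y ^ 2
      calc y ^ 2 * d = y * (y * d * y⁻¹) * y := by rw [sq]; group
        _ = d * y ^ 2 := by rw [h1, sq]; group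
    obtain ⟨k, hk⟩ := exists_pow_eq_self_of_coprime
      (Nat.coprime_two_left.2 (orderOf_odd_of_mem (coreC_odd t) hyO))
    have h3 := h2.pow_left k
    rw [hk] at h3
    exact h3.eq.symm
  by_contra hnf
  -- no four-group is fused in `C(P)`, so `y` is in the core of `N(P)`
  set C := Subgroup.centralizer (P' : Set G) with hC
  have hno : ∀ W : Subgroup G, ¬ FusedIn W C := by
    intro W hW
    obtain ⟨k, hk, hkV⟩ := h.conj_into h.four hVC hW.1.isPGroup hW.2.1
    have hWV : W.map (MulAut.conj k).toMonoidHom = V := Subgroup.eq_of_le_of_card_ge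
      (by rintro _ ⟨w, hw, rfl⟩; exact hkV w hw)
      (by rw [Subgroup.card_map_of_injective (MulAut.conj k).injective, h.four.1, hW.1.1])
    refine hnf ⟨h.four, hVC, fun v hv hv1 w hw hw1 => ?_⟩
    rw [← hWV] at hv hw
    obtain ⟨v, hv, rfl⟩ := hv
    obtain ⟨w, hw, rfl⟩ := hw
    obtain ⟨g, hg, hgN, hge⟩ := hW.2.2 v hv (fun e => hv1 (by rw [e, map_one])) w hw
      (fun e => hw1 (by rw [e, map_one]))
    refine ⟨k * g * k⁻¹, mul_mem (mul_mem hk hg) (inv_mem hk), ?_, ?_⟩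
    · rw [← hWV]
      exact Subgroup.le_normalizer_map _ ⟨g, hgN, by simp⟩
    · simp only [MulEquiv.coe_toMonoidHom, MulAut.conj_apply]
      rw [← hge]
      group
  obtain ⟨ρ, hρ, hρt, hρP⟩ := h.exists_rot_sylow P
  set H := Subgroup.normalizer (P' : Set G) with hH
  have hCH : C ≤ H := Subgroup.centralizer_le_normalizer _
  have hHC : H ≤ Subgroup.normalizer (C : Set G) := fun n hn => Subgroup.mem_normalizer_fintype fun z hz =>
    Subgroup.mem_centralizer_iff.2 fun d hd => by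
      have hd' := (Subgroup.mem_normalizer_iff''.1 hn d).1 hd
      calc d * (n * z * n⁻¹) = n * (n⁻¹ * d * n * z) * n⁻¹ := by group
        _ = n * (z * (n⁻¹ * d * n)) * n⁻¹ := by rw [Subgroup.mem_centralizer_iff.1 hz _ hd']
        _ = n * z * n⁻¹ * d := by group
  have hyH : y ∈ coreOf H := by
    have h1 : y ∈ coreOf C := propUnfused G h.hyp C hno y hyC (orderOf_odd_of_mem (coreC_odd t) hyO)
    haveI : ((coreOf C).subgroupOf H).Normal := Subgroup.normal_subgroupOf_of_le_normalizer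
      (hHC.trans (CharP.normalizer_le_normalizer_map_char _))
    refine ⟨⟨y, hCH hyC⟩, Cores.le_oddCore (N := (coreOf C).subgroupOf H) ?_ (Subgroup.mem_subgroupOf.2 h1),
      rfl⟩
    rw [Nat.card_congr (Subgroup.subgroupOfEquivOfLe ((Subgroup.map_subtype_le _).trans hCH)).toEquiv,
      Subgroup.card_map_of_injective C.subtype_injective]
    exact Cores.oddCore_odd
  refine hNC V H ⟨h.hyp.normalizer_ne_top hP'1 (h.hyp.ne_top_of_odd
    (Odd.of_dvd_nat (coreV_odd V) (Subgroup.card_dvd_of_le hP'D))), h.fused_of_rot (hVC.trans hCH) hρ hρP hρt,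
    Subgroup.zpowers y, Subgroup.zpowers_le.2 hyH, hRp.to_le (Subgroup.zpowers_le.2 hyR), fun v hv => ?_,
    fun hle => hy1 ?_⟩
  · refine Subgroup.mem_normalizer_fintype fun z hz => ?_
    obtain ⟨j, rfl⟩ := hz
    show v * y ^ j * v⁻¹ ∈ Subgroup.zpowers y
    rw [← conj_zpow]
    refine zpow_mem ?_ j
    by_cases hv1 : v = 1
    · simp [hv1]
    by_cases hvt : v = t
    · rw [hvt, ← h.core_comm hyO, mul_inv_cancel_right]; exact Subgroup.mem_zpowers y
    rw [h.conj_eq hv hv1 hvt hyO, hya]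
    exact inv_mem (Subgroup.mem_zpowers y)
  · have h1 := Subgroup.mem_centralizer_iff.1 (hle (Subgroup.mem_zpowers y)) a h.a_mem
    rw [h1, mul_inv_cancel_right] at hya
    exact congrArg Subtype.val (h.eq_one_of_sq (o := ⟨y, hyO⟩) (mul_eq_one_iff_eq_inv.2 hya))

/-- If a Sylow subgroup of `O(C(V))` is one of `O(C(t))`, the inverted elements lie in the `r'`-core. -/
theorem inv_mem_primeCore (P : Sylow r ↥(coreV V))
    (hfull : ¬ Nat.card (P : Subgroup ↥(coreV V)) * r ∣ Nat.card ↥(coreC t)) {i : ↥(coreC t)}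
    (hi : i ∈ invSet t a) : (i : G) ∈ ConfSmall.primeCore r (coreC t) := by
  set P' := (P : Subgroup ↥(coreV V)).map (coreV V).subtype with hP'
  have hP'O : P' ≤ coreC t := (Subgroup.map_subtype_le _).trans h.coreV_le_core
  have hcard : Nat.card P' = Nat.card (P : Subgroup ↥(coreV V)) :=
    Subgroup.card_map_of_injective (coreV V).subtype_injective
  let R : Sylow r ↥(coreC t) := Sylow.ofCard (P'.subgroupOf (coreC t)) (by
    rw [Nat.card_congr (Subgroup.subgroupOfEquivOfLe hP'O).toEquiv, hcard]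
    obtain ⟨j, hj⟩ := P.2.exists_card_eq
    rw [hj] at hfull ⊢
    have hdvd : r ^ j ∣ Nat.card ↥(coreC t) := by
      rw [← hj, ← hcard]; exact Subgroup.card_dvd_of_le hP'O
    have hr := (Fact.out : r.Prime)
    have h1 := (hr.pow_dvd_iff_le_factorization Nat.card_pos.ne').1 hdvd
    have h2 : ¬ j + 1 ≤ (Nat.card ↥(coreC t)).factorization r := fun hh =>
      hfull (pow_succ r j ▸ (hr.pow_dvd_iff_le_factorization Nat.card_pos.ne').2 hh)
    rw [show (Nat.card ↥(coreC t)).factorization r = j by omega])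
  have hR : (R : Subgroup ↥(coreC t)).map (coreC t).subtype = P' := by
    show (P'.subgroupOf (coreC t)).map (coreC t).subtype = P'
    rw [Subgroup.subgroupOf_map_subtype, inf_of_le_left hP'O]
  set N := ConfSmall.primeCore r (coreC t) with hN
  obtain ⟨w, hw, hwR⟩ := ConfSmall.exists_conj_fit R
    (Subgroup.le_normalizer (H := coreC t) i.2)
  rw [hR] at hwR
  set R₀ := P' ⊓ ConfSmall.fit r (coreC t) with hR₀
  have hfix : ∀ z ∈ R₀, a * z * a⁻¹ = z := fun z hz => by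
    rw [h.coreV_comm (Subgroup.map_subtype_le _ hz.1) h.a_mem, mul_inv_cancel_right]
  have hwO : w ∈ coreC t := Subgroup.map_subtype_le _ hw
  set x := w⁻¹ * (i : G) with hx
  have hxO : x ∈ coreC t := mul_mem (inv_mem hwO) i.2
  set d := x⁻¹ * (a * x * a⁻¹) with hd
  have hdO : d ∈ coreC t := mul_mem (inv_mem hxO) (h.conj_mem (h.four_le h.a_mem) hxO)
  have hdc : ∀ z ∈ R₀, d * z = z * d := by
    intro z hz
    have h1 : x * z * x⁻¹ ∈ R₀ := hwR z hz
    have h2 : a * x * a⁻¹ * z * (a * x * a⁻¹)⁻¹ = x * z * x⁻¹ := by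
      calc a * x * a⁻¹ * z * (a * x * a⁻¹)⁻¹ = a * x * a⁻¹ * (a * z * a⁻¹) * (a * x * a⁻¹)⁻¹ := by
            rw [hfix z hz]
        _ = a * (x * z * x⁻¹) * a⁻¹ := by group
        _ = x * z * x⁻¹ := hfix _ h1
    calc d * z = x⁻¹ * (a * x * a⁻¹ * z * (a * x * a⁻¹)⁻¹) * (a * x * a⁻¹) := by rw [hd]; group
      _ = z * d := by rw [h2, hd]; group
  have hdF := ConfSmall.mem_fit_of_centralizes (isSolvable_coreC t) R hdO (by rw [hR]; exact hdc)
  obtain ⟨y, hy, hyd⟩ := ConfSmall.exists_mem_fit R hdF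
  rw [hR] at hyd
  have haN : a ∈ Subgroup.normalizer (N : Set G) := ConfSmall.normalizer_le_normalizer_primeCore _
    (centralizer_le_normalizer_coreC t (h.four_le h.a_mem))
  have hON : coreC t ≤ Subgroup.normalizer (N : Set G) :=
    Subgroup.le_normalizer.trans (ConfSmall.normalizer_le_normalizer_primeCore _)
  have hda : a * d * a⁻¹ = d⁻¹ := h.conj_quot x
  -- the part of `d` in `P` is an involution modulo `N`
  set s := y⁻¹ * d with hs
  have hsq : s * s ∈ N := by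
    have h1 : a * y⁻¹ * a⁻¹ * d⁻¹ = s := by
      rw [← hda, ← hfix s hyd, hs]; group
    have h2 : s * s = y⁻¹ * d * (a * y⁻¹ * a⁻¹) * d⁻¹ := by
      conv_lhs => arg 2; rw [← h1]
      rw [hs]; group
    rw [h2, show y⁻¹ * d * (a * y⁻¹ * a⁻¹) * d⁻¹ = y⁻¹ * (d * (a * y⁻¹ * a⁻¹) * d⁻¹) by group]
    exact mul_mem (inv_mem hy) ((Subgroup.mem_normalizer_iff.1 (hON hdO) _).1
      ((Subgroup.mem_normalizer_iff.1 haN _).1 (inv_mem hy)))
  have hsP : s ∈ P' := hyd.1
  have hs1 : s = 1 := by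
    have hsO : s ∈ coreC t := hP'O hsP
    have e : s * s = 1 := by
      obtain ⟨j, hj⟩ := (P.2.map (coreV V).subtype).exists_card_eq
      refine orderOf_eq_one_iff.1 (Nat.eq_one_of_dvd_coprimes
        (((ConfSmall.primeCore_coprime (r := r) (coreC t)).pow_right j)) ?_ ?_)
      · exact Subgroup.orderOf_dvd_natCard _ hsq
      · rw [← hj]
        exact Subgroup.orderOf_dvd_natCard _ (mul_mem hsP hsP)
    exact congrArg Subtype.val (h.eq_one_of_sq (o := ⟨s, hsO⟩) e)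
  have hdN : d ∈ N := by rw [← inv_mul_eq_one.1 (hs1 : y⁻¹ * d = 1)]; exact hy
  -- `i⁻² ∈ N`
  have hawN : a * w * a⁻¹ ∈ N := (Subgroup.mem_normalizer_iff.1 haN w).1 hw
  have hiA := mem_invSet.1 hi
  have hi2 : (i : G)⁻¹ * (i : G)⁻¹ ∈ N := by
    have e : (i : G)⁻¹ * (i : G)⁻¹ = d * ((i : G) * (w * (a * w * a⁻¹)⁻¹)⁻¹ * (i : G)⁻¹) := by
      rw [hd, hx, show a * (w⁻¹ * (i : G)) * a⁻¹ = (a * w * a⁻¹)⁻¹ * (a * (i : G) * a⁻¹) by group, hiA]
      group
    rw [e]
    exact mul_mem hdN ((Subgroup.mem_normalizer_iff.1 (hON i.2) _).1 (inv_mem (mul_mem hw (inv_mem hawN))))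
  obtain ⟨k, hk⟩ := exists_pow_eq_self_of_coprime
    (Nat.coprime_two_left.2 (orderOf_odd_of_mem (coreC_odd t) (inv_mem i.2)))
  have := pow_mem hi2 k
  rw [← sq, hk] at this
  simpa using inv_mem this

end Ctx

end Cfsg.Agent.Lib.GorensteinWalter.Four
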