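import Cfsg.Agent.Lib.GorensteinWalter.Four.LevelTwoLocal

/-!
# Gorenstein–Walter, Sylow 2-subgroups of order four, second level: the image of `N(⟨x⟩)`

`π : N(⟨x⟩) → X` is onto with kernel `O(N(⟨x⟩))` and `X` is as in the model.  Then the `r`-subgroups of
`N(⟨x⟩)` are abelian, and the involutions of `X` are the images of the conjugates of `t`.
-/

set_option autoImplicit false
set_option linter.unusedSectionVars false
set_option linter.style.haveILetI false

namespace Cfsg.Agent.Lib.GorensteinWalter.Four.LevelTwo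

open Cfsg.Agent.Lib.Fusion.Dihedral Cfsg.Agent.Lib.Fusion.Alperin

universe u

variable {G : Type u} [Group G]

/-- The involutions of `X` excluded at `t̄`. -/
def excluded {X : Type u} [Group X] (t a : X) : Set X :=
  {j : X | orderOf j = 2 ∧ ∃ y y' b : X, orderOf b = 2 ∧ b * j = j * b ∧
      y ≠ 1 ∧ y' ≠ 1 ∧ Odd (orderOf y) ∧ Odd (orderOf y') ∧
      y * t = t * y ∧ a * y * a⁻¹ = y⁻¹ ∧ y' * j = j * y' ∧ b * y' * b⁻¹ = y'⁻¹ ∧
      Odd (Nat.card (Subgroup.closure ({y, y'} : Set X)))}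

/-- The model of `N(⟨x⟩)` modulo its core. -/
structure Image (t a x : G) (htM : t ∈ lineM x) (haM : a ∈ lineM x) {X : Type u} [Group X]
    (π : ↥(lineM x) →* X) (T q : ℕ) (ε : ℤ) : Prop where
  surj : Function.Surjective π
  ker : ∀ g : ↥(lineM x), π g = 1 ↔ (g : G) ∈ coreOf (lineM x)
  sign : ε = 1 ∨ ε = -1
  odd : Odd T
  q_eq : (q : ℤ) = 4 * (T : ℤ) + ε
  order : 2 * (Nat.card X : ℤ) = (q : ℤ) * ((q : ℤ) + ε) *
    Nat.card (Subgroup.centralizer ({π ⟨t, htM⟩} : Set X))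
  uniq : ∀ y : X, Odd (orderOf y) → y * π ⟨t, htM⟩ = π ⟨t, htM⟩ * y →
    π ⟨a, haM⟩ * y * (π ⟨a, haM⟩)⁻¹ = y⁻¹ →
      orderOf y ∣ T ∧ (y ≠ 1 → ∀ j : X, orderOf j = 2 → j * y = y * j → j = π ⟨t, htM⟩)
  excluded_le : (excluded (π ⟨t, htM⟩) (π ⟨a, haM⟩)).ncard ≤ 2 * q

variable [Finite G] {V : Subgroup G} {t a : G} {r : ℕ} [hr : Fact r.Prime] {x z : G} {Q : Subgroup G}
  (h : FourSetting V t a) (hl : Line V t a r x) (hH : Heisenberg V t a r x z Q)
  {htM : t ∈ lineM x} {haM : a ∈ lineM x} {X : Type u} [Group X] {π : ↥(lineM x) →* X} {T q : ℕ} {ε : ℤ}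
  (hI : Image t a x htM haM π T q ε)

include h hl hH hI

theorem x_in_core : x ∈ coreOf (lineM x) := by
  set M := lineM x
  have hxM : Subgroup.zpowers x ≤ M := Subgroup.le_normalizer
  haveI : ((Subgroup.zpowers x).subgroupOf M).Normal :=
    Subgroup.normal_subgroupOf_of_le_normalizer le_rfl
  refine ⟨⟨x, hxM (Subgroup.mem_zpowers x)⟩, Cores.le_oddCore (N := (Subgroup.zpowers x).subgroupOf M) ?_
    (Subgroup.mem_subgroupOf.2 (Subgroup.mem_zpowers x)), rfl⟩
  rw [Nat.card_congr (Subgroup.subgroupOfEquivOfLe hxM).toEquiv, Nat.card_zpowers, hl.order]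
  exact Line.r_odd hl

theorem image_zpowers {g : ↥(lineM x)} (hg : (g : G) ∈ Subgroup.zpowers x) : π g = 1 :=
  (hI.ker g).2 (Subgroup.zpowers_le.2 (x_in_core h hl hH hI) hg)

theorem image_t_two : orderOf (π ⟨t, htM⟩) = 2 := by
  refine orderOf_eq_prime ?_ fun e => ?_
  · rw [← map_pow, show (⟨t, htM⟩ : ↥(lineM x)) ^ 2 = 1 from Subtype.ext (by
      show t ^ 2 = 1
      rw [← h.t_two, pow_orderOf_eq_one]), map_one]
  · have h1 := orderOf_odd_of_mem (G := G)
      (Subgroup.card_map_of_injective (lineM x).subtype_injective ▸ Cores.oddCore_odd) ((hI.ker _).1 e)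
    rw [h.t_two] at h1
    exact absurd h1 (by decide)

theorem image_a_two : orderOf (π ⟨a, haM⟩) = 2 := by
  refine orderOf_eq_prime ?_ fun e => ?_
  · rw [← map_pow, show (⟨a, haM⟩ : ↥(lineM x)) ^ 2 = 1 from Subtype.ext (by
      show a ^ 2 = 1
      rw [← h.a_two, pow_orderOf_eq_one]), map_one]
  · have h1 := orderOf_odd_of_mem (G := G)
      (Subgroup.card_map_of_injective (lineM x).subtype_injective ▸ Cores.oddCore_odd) ((hI.ker _).1 e)
    rw [h.a_two] at h1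
    exact absurd h1 (by decide)

/-- An element of order `r` at `t` inverted by `a` has a non-trivial image. -/
theorem image_inverted {y : G} (hyM : y ∈ lineM x) (ho : orderOf y = r) (ht : y * t = t * y)
    (hy : a * y * a⁻¹ = y⁻¹) :
    orderOf (π ⟨y, hyM⟩) = r ∧ π ⟨y, hyM⟩ * π ⟨t, htM⟩ = π ⟨t, htM⟩ * π ⟨y, hyM⟩ ∧
      π ⟨a, haM⟩ * π ⟨y, hyM⟩ * (π ⟨a, haM⟩)⁻¹ = (π ⟨y, hyM⟩)⁻¹ := by
  refine ⟨orderOf_eq_prime ?_ fun e => not_mem_core h hl ho ht hy ((hI.ker _).1 e), ?_, ?_⟩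
  · rw [← map_pow, show (⟨y, hyM⟩ : ↥(lineM x)) ^ r = 1 from Subtype.ext (by
      show y ^ r = 1
      rw [← ho, pow_orderOf_eq_one]), map_one]
  · rw [← map_mul, ← map_mul]
    exact congrArg π (Subtype.ext ht)
  · rw [← map_inv, ← map_mul, ← map_mul, ← map_inv]
    exact congrArg π (Subtype.ext hy)

theorem zpow_image {c : ℕ} (hc : ¬ r ∣ c) (hzM : z ^ c ∈ lineM x) :
    orderOf (π ⟨z ^ c, hzM⟩) = r ∧ π ⟨z ^ c, hzM⟩ * π ⟨t, htM⟩ = π ⟨t, htM⟩ * π ⟨z ^ c, hzM⟩ ∧
      π ⟨a, haM⟩ * π ⟨z ^ c, hzM⟩ * (π ⟨a, haM⟩)⁻¹ = (π ⟨z ^ c, hzM⟩)⁻¹ := by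
  refine image_inverted h hl hH hI hzM ?_ ((show Commute z t from z_comm_t h hl hH).pow_left c).eq ?_
  · rw [Nat.Coprime.orderOf_pow (y := z) (by rw [hH.z_order]; exact hr.out.coprime_iff_not_dvd.2 hc),
      hH.z_order]
  · rw [← conj_pow, hH.z_inverted, inv_pow]

theorem r_dvd_T : r ∣ T := by
  have hzM : z ^ 1 ∈ lineM x := pow_mem (z_mem_lineM h hl hH) 1
  obtain ⟨h1, h2, h3⟩ := zpow_image h hl hH hI (c := 1) (fun e => hr.out.not_dvd_one e) hzM
  exact h1 ▸ (hI.uniq _ (h1 ▸ Line.r_odd hl) h2 h3).1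

theorem not_r_dvd : ¬ (r : ℤ) ∣ (q : ℤ) * ((q : ℤ) + ε) := by
  have hp : Prime (r : ℤ) := Nat.prime_iff_prime_int.1 hr.out
  have hT : (r : ℤ) ∣ (T : ℤ) := Int.natCast_dvd_natCast.2 (r_dvd_T h hl hH hI)
  intro hd
  have h2 : (r : ℤ) ∣ 2 := by
    have he : (q : ℤ) * ((q : ℤ) + ε) - (T : ℤ) * (16 * T + 12 * ε) = 2 := by
      rcases hI.sign with e | e <;> rw [hI.q_eq, e] <;> ring
    exact he ▸ dvd_sub hd (dvd_mul_of_dvd_left hT _)
  have := Int.le_of_dvd (by norm_num) h2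
  have := Line.three_le hl
  omega

theorem exists_centralizer_lift {w : X} (hw : w * π ⟨t, htM⟩ = π ⟨t, htM⟩ * w) :
    ∃ c : ↥(lineM x), (c : G) * t = t * (c : G) ∧ π c = w := by
  obtain ⟨k, rfl⟩ := hI.surj w
  have hn : Subgroup.zpowers t ≤ Subgroup.normalizer (coreOf (lineM x) : Set G) :=
    (Subgroup.zpowers_le.2 htM).trans (OddOrder.Basic.le_normalizer_map_subtype (lineM x) (Cfsg.oddCore (lineM x)))
  have hodd : Odd (Nat.card (coreOf (lineM x))) :=
    Subgroup.card_map_of_injective (lineM x).subtype_injective ▸ Cores.oddCore_odd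
  obtain ⟨n, hn', hc⟩ := Coprime.exists_mul_fixed hn
    (by rw [Nat.card_zpowers, h.t_two]; exact Nat.coprime_two_left.2 hodd)
    (Or.inl (Coprime.isSolvable_zpowers t)) (k := (k : G)) (fun b hb => by
      obtain ⟨i, rfl⟩ := hb
      have h1 : π (k⁻¹ * ((⟨t, htM⟩ : ↥(lineM x)) ^ i * k * ((⟨t, htM⟩ : ↥(lineM x)) ^ i)⁻¹)) = 1 := by
        rw [map_mul, map_mul, map_mul, map_inv, map_inv, map_zpow,
          ← ((show Commute (π k) (π ⟨t, htM⟩) from hw).zpow_right i).eq, mul_inv_cancel_right, inv_mul_cancel]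
      simpa using (hI.ker _).1 h1)
  refine ⟨k * ⟨n, Subgroup.map_subtype_le _ hn'⟩, ?_, ?_⟩
  · exact (Subgroup.mem_centralizer_iff.1 hc t (Subgroup.mem_zpowers t)).symm
  · rw [map_mul, (hI.ker ⟨n, Subgroup.map_subtype_le _ hn'⟩).2 hn', mul_one]

theorem core_inf_rGroup {P : Subgroup G} (hP : P ≤ coreOf (lineM x)) (hp : IsPGroup r P) :
    Nat.card P ≤ r := by
  have hn : V ≤ Subgroup.normalizer ((coreOf (lineM x)) : Set G) := fun v hv =>
    OddOrder.Basic.le_normalizer_map_subtype (lineM x) (Cfsg.oddCore (lineM x)) ((hl.fused h hr.out).2.1 hv)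
  have hodd : Odd (Nat.card (coreOf (lineM x))) :=
    Subgroup.card_map_of_injective (lineM x).subtype_injective ▸ Cores.oddCore_odd
  obtain ⟨R, hR⟩ := Coprime.exists_invariant_sylow hn
    (by rw [h.four.1, show (4 : ℕ) = 2 ^ 2 from rfl]; exact (Nat.coprime_two_left.2 hodd).pow_left 2)
    (Or.inr (Cfsg.Agent.S0205.result hodd)) r
  have h1 := invariant_le_coreV h hl (Subgroup.map_subtype_le _) (R.2.map _) hR
  have h2 := Subgroup.card_dvd_of_le h1
  rw [Coprime.card_sylow_map, hr.out.pow_dvd_iff_le_factorization Nat.card_pos.ne', hH.core_part] at h2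
  obtain ⟨n, hn'⟩ := IsPGroup.iff_card.1 hp
  have h3 : r ^ n ∣ Nat.card (coreOf (lineM x)) := hn' ▸ Subgroup.card_dvd_of_le hP
  rw [hr.out.pow_dvd_iff_le_factorization Nat.card_pos.ne'] at h3
  rw [hn']
  calc r ^ n ≤ r ^ 1 := Nat.pow_le_pow_right hr.out.pos (by omega)
    _ = r := pow_one r

/-- `r³` does not divide `|C(t) ∩ N(⟨x⟩)|`. -/
theorem not_cube_dvd : ¬ r ^ 3 ∣ Nat.card ↥(lineM x ⊓ coreC t) := by
  intro hd
  obtain ⟨P, hP⟩ := Sylow.exists_subgroup_card_pow_prime r hd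
  set P' := P.map (lineM x ⊓ coreC t).subtype
  have hc : Nat.card P' = r ^ 3 := by rw [Subgroup.card_map_of_injective (Subgroup.subtype_injective _), hP]
  have hle : P' ≤ lineM x ⊓ coreC t := Subgroup.map_subtype_le _
  have hQ := r_subgroup_le h hl hH (hle.trans inf_le_right) (IsPGroup.of_card hc)
  have heq : P' = Q := Subgroup.eq_of_le_of_card_ge hQ (by rw [hc, hH.card])
  have hall : Q ≤ Subgroup.zpowers x ⊔ Subgroup.zpowers z := fun g hg => hH.cent g hg (by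
    have h1 : g * x * g⁻¹ ∈ Subgroup.zpowers x :=
      (Subgroup.mem_normalizer_iff.1 (hle (heq ▸ hg)).1 x).1 (Subgroup.mem_zpowers x)
    have h2 : g * x * g⁻¹ * x⁻¹ ∈ Subgroup.zpowers z := hH.comm g hg x hH.x_mem
    have h3 : g * x * g⁻¹ * x⁻¹ = 1 := line_inf_centre h hl hH
      (mul_mem h1 (inv_mem (Subgroup.mem_zpowers x))) h2
    exact mul_inv_eq_iff_eq_mul.1 (mul_inv_eq_one.1 h3))
  exact not_le_plane h hl hH hall

theorem not_sq_dvd_image [Finite X] : ¬ r ^ 2 ∣ Nat.card X := by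
  intro hd
  have hr2 : ¬ r ∣ 2 := fun e => by
    have := Nat.le_of_dvd (by norm_num) e
    have := Line.three_le hl
    omega
  have hC : r ^ 2 ∣ Nat.card (Subgroup.centralizer ({π ⟨t, htM⟩} : Set X)) := by
    have h1 : ((r : ℤ) ^ 2) ∣ 2 * (Nat.card X : ℤ) := dvd_mul_of_dvd_right (by exact_mod_cast hd) _
    rw [hI.order] at h1
    have h2 := (((Nat.prime_iff_prime_int.1 hr.out).coprime_iff_not_dvd.2
      (not_r_dvd h hl hH hI)).pow_left (m := 2)).dvd_of_dvd_mul_left h1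
    exact_mod_cast h2
  set C := (Subgroup.centralizer ({t} : Set G)).subgroupOf (lineM x) with hCdef
  have hmap : C.map π = Subgroup.centralizer ({π ⟨t, htM⟩} : Set X) := by
    refine le_antisymm ?_ fun w hw => ?_
    · rintro _ ⟨c, hc, rfl⟩
      rw [Subgroup.mem_centralizer_singleton_iff, ← map_mul, ← map_mul]
      exact congrArg π (Subtype.ext (Subgroup.mem_centralizer_singleton_iff.1 (Subgroup.mem_subgroupOf.1 hc)))
    · obtain ⟨c, hc, hcw⟩ := exists_centralizer_lift h hl hH hI (Subgroup.mem_centralizer_singleton_iff.1 hw)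
      exact ⟨c, Subgroup.mem_subgroupOf.2 (Subgroup.mem_centralizer_singleton_iff.2 hc), hcw⟩
  have hcard : Nat.card C = 4 * Nat.card ↥((lineM x) ⊓ coreC t) := by
    rw [← h.card_inf_centralizer (hl.fused h hr.out).2.1,
      ← Subgroup.card_map_of_injective (K := C) (lineM x).subtype_injective, hCdef, Subgroup.subgroupOf_map_subtype,
      inf_comm]
  have hk : r ∣ Nat.card ↥(C ⊓ π.ker) := by
    have hxM : x ∈ (lineM x) := Subgroup.le_normalizer (Subgroup.mem_zpowers x)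
    have hxo : orderOf (⟨x, hxM⟩ : ↥(lineM x)) = r := by rw [Subgroup.orderOf_mk, hl.order]
    rw [← hxo]
    exact Subgroup.orderOf_dvd_natCard _ ⟨Subgroup.mem_subgroupOf.2
      (Subgroup.mem_centralizer_singleton_iff.2 (Line.x_comm hl h.t_mem)),
      (hI.ker _).2 (x_in_core h hl hH hI)⟩
  have h3 : r ^ 3 ∣ 4 * Nat.card ↥((lineM x) ⊓ coreC t) := by
    rw [← hcard, ← card_map_mul_card_inf_ker π C, hmap, pow_succ]
    exact mul_dvd_mul hC hk
  have hc4 : Nat.Coprime (r ^ 3) 4 := by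
    rw [show (4 : ℕ) = 2 ^ 2 from rfl]
    exact ((hr.out.coprime_iff_not_dvd.2 hr2).pow_left 3).pow_right 2
  exact not_cube_dvd h hl hH hI (hc4.dvd_of_dvd_mul_left h3)

/-- The `r`-subgroups of `N(⟨x⟩)` are abelian. -/
theorem rGroup_comm [Finite X] {P : Subgroup G} (hP : P ≤ lineM x) (hp : IsPGroup r P) :
    ∀ b ∈ P, ∀ c ∈ P, b * c = c * b := by
  set P₀ := P.subgroupOf (lineM x)
  have hp₀ : IsPGroup r P₀ := hp.of_equiv (Subgroup.subgroupOfEquivOfLe hP).symm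
  obtain ⟨i, hi⟩ := IsPGroup.iff_card.1 (hp₀.map π)
  have h1 : i ≤ 1 := by
    by_contra hlt
    exact not_sq_dvd_image h hl hH hI (((Nat.pow_dvd_pow r (by omega : 2 ≤ i)).trans (dvd_of_eq hi.symm)).trans
      (Subgroup.card_subgroup_dvd_card _))
  have h2 : Nat.card ↥(P₀ ⊓ π.ker) ≤ r := by
    rw [← Subgroup.card_map_of_injective (lineM x).subtype_injective]
    refine core_inf_rGroup h hl hH hI ?_ ((hp₀.to_le inf_le_left).map _)
    rintro _ ⟨w, hw, rfl⟩
    exact (hI.ker w).1 hw.2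
  obtain ⟨n, hn⟩ := IsPGroup.iff_card.1 hp
  have h3 : r ^ n ≤ r ^ 2 := by
    rw [← hn, ← Nat.card_congr (Subgroup.subgroupOfEquivOfLe hP).toEquiv, ← card_map_mul_card_inf_ker π P₀,
      hi, sq]
    refine Nat.mul_le_mul ?_ h2
    calc r ^ i ≤ r ^ 1 := Nat.pow_le_pow_right hr.out.pos h1
      _ = r := pow_one r
  have hn2 : n ≤ 2 := (Nat.pow_le_pow_iff_right hr.out.one_lt).1 h3
  intro b hb c hc
  have hcomm : ∀ u v : P, u * v = v * u := by
    rcases n with _ | _ | _ | n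
    · rw [pow_zero, Nat.card_eq_one_iff_unique] at hn
      haveI := hn.1
      exact fun u v => Subsingleton.elim _ _
    · rw [zero_add, pow_one] at hn
      haveI := isCyclic_of_prime_card hn
      exact fun u v => IsCyclic.commGroup.mul_comm u v
    · haveI := IsPGroup.isMulCommutative_of_card_eq_prime_sq hn
      exact fun u v => IsMulCommutative.is_comm.comm u v
    · omega
  exact congrArg Subtype.val (hcomm ⟨b, hb⟩ ⟨c, hc⟩)

/-- Every involution of `X` is the image of a conjugate of `t`. -/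
theorem exists_involution_lift [Finite X] {j : X} (hj : orderOf j = 2) :
    ∃ m : ↥(lineM x), π (m * ⟨t, htM⟩ * m⁻¹) = j := by
  haveI : Fact (Nat.Prime 2) := ⟨Nat.prime_two⟩
  obtain ⟨S, hS⟩ := h.exists_sylow
  have hSM : (S : Subgroup G) ≤ lineM x := hS ▸ (hl.fused h hr.out).2.1
  set S₀ := S.subtype hSM
  obtain ⟨S', hS'⟩ := (IsPGroup.of_card (n := 1) (G := ↥(Subgroup.zpowers j))
    (by rw [Nat.card_zpowers, hj, pow_one])).exists_le_sylow
  obtain ⟨k, hk⟩ := MulAction.exists_smul_eq X (S₀.mapSurjective hI.surj) S'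
  obtain ⟨k₀, rfl⟩ := hI.surj k
  have hjS : j ∈ (S' : Subgroup X) := hS' (Subgroup.mem_zpowers j)
  rw [← hk] at hjS
  obtain ⟨w, hw, hwe⟩ : ∃ w ∈ ((S₀ : Subgroup ↥(lineM x)).map π), π k₀ * w * (π k₀)⁻¹ = j := hjS
  obtain ⟨v, hv, rfl⟩ := hw
  have hvV : (v : G) ∈ V := by
    rw [← hS]
    exact hv
  have hv1 : (v : G) ≠ 1 := fun e => by
    have h2 : j = 1 := by
      rw [← hwe, show v = 1 from Subtype.ext e, map_one, mul_one, mul_inv_cancel]
    rw [h2, orderOf_one] at hj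
    omega
  obtain ⟨g, hg, -, hgv⟩ := (hl.fused h hr.out).2.2 t h.t_mem h.t_ne v hvV hv1
  refine ⟨k₀ * ⟨g, hg⟩, ?_⟩
  rw [show k₀ * ⟨g, hg⟩ * ⟨t, htM⟩ * (k₀ * ⟨g, hg⟩)⁻¹ = k₀ * v * k₀⁻¹ from Subtype.ext (by
      show (k₀ : G) * g * t * ((k₀ : G) * g)⁻¹ = k₀ * v * (k₀ : G)⁻¹
      rw [← hgv]; group), map_mul, map_mul, map_inv]
  exact hwe

/-- The number of involutions of `X`. -/
theorem card_involutions [Finite X] :
    2 * (Nat.card {j : X // orderOf j = 2} : ℤ) = (q : ℤ) * ((q : ℤ) + ε) := by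
  set t' := π ⟨t, htM⟩
  have hset : {j : X | orderOf j = 2} = MulAction.orbit (ConjAct X) t' := by
    ext j
    constructor
    · intro hj
      obtain ⟨m, hm⟩ := exists_involution_lift h hl hH hI hj
      refine ⟨ConjAct.toConjAct (π m), ?_⟩
      rw [← hm, map_mul, map_mul, map_inv]
      exact ConjAct.toConjAct_smul _ _
    · rintro ⟨k, rfl⟩
      show orderOf (k • t') = 2
      rw [ConjAct.smul_def, ← MulAut.conj_apply, MulEquiv.orderOf_eq, image_t_two h hl hH hI]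
  have h1 : Nat.card {j : X // orderOf j = 2} * Nat.card (Subgroup.centralizer ({t'} : Set X)) =
      Nat.card X := by
    rw [show Nat.card {j : X // orderOf j = 2} = Nat.card (MulAction.orbit (ConjAct X) t') from by
      rw [← hset]; rfl]
    have hos := Nat.card_congr (MulAction.orbitProdStabilizerEquivGroup (ConjAct X) t')
    rw [Nat.card_prod] at hos
    have hst : Nat.card (MulAction.stabilizer (ConjAct X) t') = Nat.card (Subgroup.centralizer ({t'} : Set X)) := by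
      refine Nat.card_congr (Equiv.subtypeEquiv ConjAct.ofConjAct.toEquiv fun k => ?_)
      rw [MulAction.mem_stabilizer_iff, ConjAct.smul_def]
      show _ ↔ ConjAct.ofConjAct k ∈ Subgroup.centralizer ({t'} : Set X)
      rw [Subgroup.mem_centralizer_singleton_iff, mul_inv_eq_iff_eq_mul]
    rw [hst] at hos
    exact hos.trans (Nat.card_congr ConjAct.ofConjAct.toEquiv)
  have h2 := hI.order
  rw [← h1, Nat.cast_mul, ← mul_assoc] at h2
  exact mul_right_cancel₀ (Nat.cast_ne_zero.2 Nat.card_pos.ne') h2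

end Cfsg.Agent.Lib.GorensteinWalter.Four.LevelTwo
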