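import Cfsg.Agent.Lib.GorensteinWalter.Basic
import Cfsg.Agent.Lib.OddOrder.Fitting

/-!
# Gorenstein–Walter, Sylow 2-subgroups of order four, second level of the count: tools

An element of order `r` of a subgroup of odd order with abelian `r`-subgroups, not commuting with
another one, moves an invariant `r'`-subgroup; the closing inequality.
-/

set_option autoImplicit false
set_option linter.unusedSectionVars false
set_option linter.style.haveILetI false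

namespace Cfsg.Agent.Lib.GorensteinWalter.Four.LevelTwo

open Cfsg.Agent.Lib.Fusion.Dihedral

universe u

variable {G : Type u} [Group G] [Finite G]

theorem zpowers_isPGroup {r : ℕ} [Fact r.Prime] {h : G} (ho : orderOf h = r) :
    IsPGroup r (Subgroup.zpowers h) :=
  IsPGroup.of_card (n := 1) (by rw [Nat.card_zpowers, ho, pow_one])

/-- An element of order `r` moves an invariant `r'`-subgroup. -/
theorem exists_moved {H : Subgroup G} (hH : Odd (Nat.card H)) {r : ℕ} [hr : Fact r.Prime] {h k : G}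
    (hh : h ∈ H) (hk : k ∈ H) (ho : orderOf h = r) (hko : orderOf k = r)
    (hab : ∀ P : Subgroup G, P ≤ H → IsPGroup r P → ∀ a ∈ P, ∀ b ∈ P, a * b = b * a)
    (hne : h * k ≠ k * h) :
    ∃ U : Subgroup G, U ≤ H ∧ (Nat.card U).Coprime r ∧ (∀ u ∈ U, h * u * h⁻¹ ∈ U) ∧
      ∃ u ∈ U, h * u ≠ u * h := by
  by_contra hcon
  push Not at hcon
  haveI : Group.IsSolvable H := Cfsg.Agent.S0205.result hH
  have hn : ∀ (p : ℕ) [Fact p.Prime], H ≤ Subgroup.normalizer (Cfsg.pCoreOf p H : Set G) := by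
    intro p _
    haveI : (Cfsg.pCore p H).Normal := Subgroup.sSup_normal _ fun _ hN => hN.1
    exact OddOrder.Basic.le_normalizer_map_subtype H (Cfsg.pCore p H)
  have hle : ∀ (p : ℕ), Cfsg.pCoreOf p H ≤ H := fun p => Subgroup.map_subtype_le _
  have hjoin : ∀ g : G, g ∈ H → orderOf g = r →
      IsPGroup r (Subgroup.zpowers g ⊔ Cfsg.pCoreOf r H : Subgroup G) ∧
        Subgroup.zpowers g ⊔ Cfsg.pCoreOf r H ≤ H := fun g hg hgo =>
    ⟨(zpowers_isPGroup hgo).to_sup_of_normal_right' (CharP.isPGroup_pCoreOf r H)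
      ((Subgroup.zpowers_le.2 hg).trans (hn r)), sup_le (Subgroup.zpowers_le.2 hg) (hle r)⟩
  have hF : h ∈ Cfsg.fittingOf H := by
    refine OddOrder.Fitting.inf_centralizer_fittingOf_le H ⟨hh,
      OddOrder.Fitting.mem_centralizer_fittingOf fun p hp _ u hu => ?_⟩
    rcases eq_or_ne p r with rfl | hpr
    · obtain ⟨h1, h2⟩ := hjoin h hh ho
      exact hab _ h2 h1 _ (Subgroup.mem_sup_left (Subgroup.mem_zpowers h)) _ (Subgroup.mem_sup_right hu)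
    · refine hcon _ (hle p) ?_ (fun v hv => (Subgroup.mem_normalizer_iff.1 (hn p hh) v).1 hv) u hu
      obtain ⟨n, hn'⟩ := IsPGroup.iff_card.1 (CharP.isPGroup_pCoreOf p H)
      rw [hn']
      exact ((Nat.coprime_primes hp.out hr.out).2 hpr).pow_left n
  have hcore : h ∈ Cfsg.pCoreOf r H :=
    OddOrder.Fitting.mem_pCoreOf_of_pow (k := 1) hF (by rw [ho, pow_one])
  obtain ⟨h1, h2⟩ := hjoin k hk hko
  exact hne (hab _ h2 h1 h (Subgroup.mem_sup_right hcore) k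
    (Subgroup.mem_sup_left (Subgroup.mem_zpowers k)))

/-- Two subgroups which normalise each other and meet trivially commute elementwise. -/
theorem commute_of_coprime {U Q : Subgroup G} (hc : (Nat.card U).Coprime (Nat.card Q)) {u h : G}
    (hu : u ∈ U) (hh : h ∈ Q) (hU : h * u * h⁻¹ ∈ U) (hQ : u * h * u⁻¹ ∈ Q) : h * u = u * h := by
  have h1 : h * u * h⁻¹ * u⁻¹ ∈ U ⊓ Q := by
    refine Subgroup.mem_inf.2 ⟨mul_mem hU (inv_mem hu), ?_⟩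
    rw [show h * u * h⁻¹ * u⁻¹ = h * (u * h * u⁻¹)⁻¹ by group]
    exact mul_mem hh (inv_mem hQ)
  rw [OddOrder.Basic.inf_eq_bot_of_coprime hc, Subgroup.mem_bot] at h1
  exact mul_inv_eq_iff_eq_mul.1 (mul_inv_eq_one.1 h1)

/-- The closing inequality of the second level. -/
theorem count_absurd {T r s₀ q : ℕ} {ε : ℤ} (hr : 3 ≤ r) (hT : r ≤ T) (hε : ε = 1 ∨ ε = -1)
    (hq : (q : ℤ) = 4 * (T : ℤ) + ε) (hs : 2 * (s₀ : ℤ) = (q : ℤ) * ((q : ℤ) + ε)) {N : ℕ}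
    (hN : (s₀ * (r - 1)) * ((s₀ - 2 * q) * (r - 1)) ≤ N)
    (hb : 36 * (N : ℤ) * ((q : ℤ) * ((q : ℤ) + ε)) ≤ 728 * ((r : ℤ) ^ 2) ^ 3 * (T : ℤ) ^ 2) : False := by
  have hT3 : (3 : ℤ) ≤ T := by exact_mod_cast hr.trans hT
  have hr3 : (3 : ℤ) ≤ r := by exact_mod_cast hr
  have hrT : (r : ℤ) ≤ T := by exact_mod_cast hT
  have hs1 : 6 * (T : ℤ) ^ 2 ≤ s₀ ∧ 2 * (q : ℤ) + 3 * (T : ℤ) ^ 2 ≤ s₀ := by
    rcases hε with rfl | rfl <;> constructor <;> nlinarith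
  have hsub : 2 * q ≤ s₀ := by
    have : 2 * (q : ℤ) ≤ s₀ := by nlinarith [hs1.2]
    exact_mod_cast this
  have hN' : ((s₀ : ℤ) * ((r : ℤ) - 1)) * (((s₀ : ℤ) - 2 * q) * ((r : ℤ) - 1)) ≤ N := by
    have h1 : (((s₀ * (r - 1)) * ((s₀ - 2 * q) * (r - 1)) : ℕ) : ℤ) ≤ (N : ℤ) := by exact_mod_cast hN
    push_cast [Nat.cast_sub hsub, Nat.cast_sub (show 1 ≤ r by omega)] at h1
    exact h1
  have h2 : 4 * (r : ℤ) ^ 2 ≤ 9 * ((r : ℤ) - 1) ^ 2 := by nlinarith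
  have h3 : (s₀ : ℤ) * ((s₀ : ℤ) - 2 * q) * ((r : ℤ) - 1) ^ 2 ≤ N := by nlinarith [hN']
  have h4 : (6 * (T : ℤ) ^ 2) * (3 * (T : ℤ) ^ 2) ≤ (s₀ : ℤ) * ((s₀ : ℤ) - 2 * q) :=
    mul_le_mul hs1.1 (by linarith [hs1.2]) (by positivity) (by linarith [hs1.1, sq_nonneg (T : ℤ)])
  have h5 : (18 * (T : ℤ) ^ 4) * ((r : ℤ) - 1) ^ 2 ≤ N := by
    calc (18 * (T : ℤ) ^ 4) * ((r : ℤ) - 1) ^ 2
        = (6 * (T : ℤ) ^ 2) * (3 * (T : ℤ) ^ 2) * ((r : ℤ) - 1) ^ 2 := by ring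
      _ ≤ (s₀ : ℤ) * ((s₀ : ℤ) - 2 * q) * ((r : ℤ) - 1) ^ 2 :=
          mul_le_mul_of_nonneg_right h4 (sq_nonneg _)
      _ ≤ N := h3
  have h6 : 12 * (T : ℤ) ^ 2 ≤ (q : ℤ) * ((q : ℤ) + ε) := by nlinarith [hs1.1]
  have h7 : 36 * (18 * (T : ℤ) ^ 4 * ((r : ℤ) - 1) ^ 2) * (12 * (T : ℤ) ^ 2) ≤
      728 * ((r : ℤ) ^ 2) ^ 3 * (T : ℤ) ^ 2 :=
    le_trans (mul_le_mul (by linarith) h6 (by positivity) (by positivity)) hb
  have hr4 : ((r : ℤ) ^ 2) ^ 2 ≤ (T : ℤ) ^ 4 := by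
    calc ((r : ℤ) ^ 2) ^ 2 = (r : ℤ) ^ 4 := by ring
      _ ≤ (T : ℤ) ^ 4 := pow_le_pow_left₀ (by positivity) hrT 4
  have h8 : 9 * (728 * ((r : ℤ) ^ 2) ^ 3) ≤ 9 * 728 * (T : ℤ) ^ 4 * (r : ℤ) ^ 2 := by
    nlinarith [mul_le_mul_of_nonneg_right hr4 (sq_nonneg (r : ℤ))]
  have h9 : 36 * 18 * 12 * (T : ℤ) ^ 4 * (4 * (r : ℤ) ^ 2) ≤
      36 * 18 * 12 * (T : ℤ) ^ 4 * (9 * ((r : ℤ) - 1) ^ 2) :=
    mul_le_mul_of_nonneg_left h2 (by positivity)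
  have hpos : 0 < (T : ℤ) ^ 4 * (r : ℤ) ^ 2 := by positivity
  nlinarith [mul_le_mul_of_nonneg_right h8 (sq_nonneg (T : ℤ)),
    mul_le_mul_of_nonneg_right h9 (sq_nonneg (T : ℤ)), h7,
    mul_pos hpos (show 0 < (T : ℤ) ^ 2 by positivity)]

end Cfsg.Agent.Lib.GorensteinWalter.Four.LevelTwo
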