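import Cfsg.Agent.Lib.GorensteinWalter.Basic
import Cfsg.Agent.Lib.GorensteinWalter.TrivialCores

/-!
# Gorenstein–Walter, Sylow 2-subgroups of order four: the setting

`V = {1, t, a, t a}` is a Sylow 2-subgroup, `O = O(C(t))`, so `C(t) = O V`; the elements of `O` inverted
by `a` form a transversal `invSet` of `O(C(V)) = C_O(a)`.
-/

set_option autoImplicit false
set_option linter.unusedSectionVars false
set_option linter.style.haveILetI false

namespace Cfsg.Agent.Lib.GorensteinWalter.Four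

open Cfsg.Agent.Lib.Fusion.Dihedral

universe u

variable {G : Type u} [Group G] [Finite G]

/-- A four-group Sylow 2-subgroup `V` with two of its involutions. -/
structure Ctx (t a : G) (V : Subgroup G) : Prop where
  hyp : Hyp G
  four : IsFour V
  small : ∀ Q : Subgroup G, IsPGroup 2 Q → Nat.card Q ≤ 4
  t_mem : t ∈ V
  a_mem : a ∈ V
  t_ne_one : t ≠ 1
  a_ne_one : a ≠ 1
  a_ne : a ≠ t

/-- A four-group of a group with Sylow 2-subgroups of order four gives a setting. -/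
theorem exists_ctx (hG : Hyp G) (h4 : ∀ S : Sylow 2 G, Nat.card (S : Subgroup G) = 4) {V : Subgroup G}
    (hV : IsFour V) {t : G} (htV : t ∈ V) (ht1 : t ≠ 1) : ∃ a : G, Ctx t a V := by
  obtain ⟨a, ha, ha1, hat⟩ : ∃ a ∈ V, a ≠ 1 ∧ a ≠ t := by
    by_contra h
    push Not at h
    have h2 : (V : Set G) ⊆ {1, t} := fun a ha => (eq_or_ne a 1).imp id (h a ha)
    have h3 := Set.ncard_le_ncard h2 (Set.toFinite _)
    rw [← Nat.card_coe_set_eq, show Nat.card ((V : Set G) : Type u) = 4 from hV.1] at h3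
    have h4 := Set.ncard_insert_le (1 : G) {t}
    rw [Set.ncard_singleton] at h4
    omega
  refine ⟨a, hG, hV, fun Q hQ => ?_, htV, ha, ht1, ha1, hat⟩
  obtain ⟨S, hS⟩ := hQ.exists_le_sylow
  exact (Subgroup.card_le_of_le hS).trans (h4 S).le

namespace Ctx

variable {t a : G} {V : Subgroup G} (h : Ctx t a V)
include h

theorem t_two : orderOf t = 2 := h.four.orderOf_eq h.t_mem h.t_ne_one

theorem t_sq : t * t = 1 := h.four.2 t h.t_mem

theorem a_sq : a * a = 1 := h.four.2 a h.a_mem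

theorem t_inv : t⁻¹ = t := inv_eq_of_mul_eq_one_right h.t_sq

theorem a_inv : a⁻¹ = a := inv_eq_of_mul_eq_one_right h.a_sq

theorem four_le : V ≤ Subgroup.centralizer ({t} : Set G) := fun _ hv =>
  Subgroup.mem_centralizer_singleton_iff.2 (h.four.comm hv h.t_mem)

theorem core_comm {o : G} (ho : o ∈ coreC t) : o * t = t * o :=
  Subgroup.mem_centralizer_singleton_iff.1 (coreC_le t ho)

theorem coreV_eq_inf : coreC t ⊓ Subgroup.centralizer ({a} : Set G) = coreV V :=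
  h.hyp.coreC_inf_eq h.four h.t_mem h.t_ne_one h.a_mem h.a_ne_one h.a_ne.symm

theorem eq_one_of_mem {x : G} (hx : x ∈ coreC t) (hxV : x ∈ V) : x = 1 :=
  orderOf_eq_one_iff.1 (Nat.eq_one_of_dvd_coprimes
    (Nat.coprime_two_left.2 (orderOf_odd_of_mem (coreC_odd t) hx))
    (orderOf_dvd_of_pow_eq_one (by rw [sq]; exact h.four.2 x hxV)) dvd_rfl)

theorem exists_mul {c : G} (hc : c ∈ Subgroup.centralizer ({t} : Set G)) :
    ∃ o ∈ coreC t, ∃ v ∈ V, c = o * v := by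
  haveI : Fact (Nat.Prime 2) := ⟨Nat.prime_two⟩
  obtain ⟨T, hT⟩ := (h.four.isPGroup.comap_subtype
    (K := Subgroup.centralizer ({t} : Set G))).exists_le_sylow
  set T' := (T : Subgroup ↥(Subgroup.centralizer ({t} : Set G))).map
    (Subgroup.centralizer ({t} : Set G)).subtype with hT'
  have hVT : V = T' := Subgroup.eq_of_le_of_card_ge
    (fun v hv => ⟨⟨v, h.four_le hv⟩, hT (show (v : G) ∈ V from hv), rfl⟩)
    ((h.small T' (T.2.map _)).trans h.four.1.ge)
  have hsup := h.hyp.coreC_sup_sylow h.t_two T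
  rw [← hT', ← hVT] at hsup
  have hc' : c ∈ ((coreC t ⊔ V : Subgroup G) : Set G) := hsup ▸ hc
  rw [Subgroup.coe_mul_of_right_le_normalizer_left _ _
    (h.four_le.trans (centralizer_le_normalizer_coreC t))] at hc'
  obtain ⟨o, ho, v, hv, rfl⟩ := hc'
  exact ⟨o, ho, v, hv, rfl⟩

theorem mul_unique {o o' v v' : G} (ho : o ∈ coreC t) (ho' : o' ∈ coreC t) (hv : v ∈ V) (hv' : v' ∈ V)
    (he : o * v = o' * v') : o = o' ∧ v = v' := by
  have he2 : o'⁻¹ * o = v' * v⁻¹ := by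
    calc o'⁻¹ * o = o'⁻¹ * (o * v) * v⁻¹ := by group
      _ = v' * v⁻¹ := by rw [he]; group
  have h1 := h.eq_one_of_mem (mul_mem (inv_mem ho') ho) (he2 ▸ mul_mem hv' (inv_mem hv))
  have h2 : o = o' := (inv_mul_eq_one.1 h1).symm
  exact ⟨h2, mul_left_cancel (he.trans (by rw [h2]))⟩

theorem prod_mem (p : ↥(coreC t) × ↥V) :
    (p.1 : G) * (p.2 : G) ∈ Subgroup.centralizer ({t} : Set G) :=
  mul_mem (coreC_le t p.1.2) (h.four_le p.2.2)

/-- `C(t) = O × V` as sets. -/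
noncomputable def equivProd : ↥(coreC t) × ↥V ≃ ↥(Subgroup.centralizer ({t} : Set G)) :=
  Equiv.ofBijective (fun p => ⟨(p.1 : G) * p.2, h.prod_mem p⟩)
    ⟨fun p q e => by
      obtain ⟨h1, h2⟩ := h.mul_unique p.1.2 q.1.2 p.2.2 q.2.2 (congrArg Subtype.val e)
      exact Prod.ext (Subtype.ext h1) (Subtype.ext h2),
    fun c => by
      obtain ⟨o, ho, v, hv, he⟩ := h.exists_mul c.2
      exact ⟨(⟨o, ho⟩, ⟨v, hv⟩), Subtype.ext he.symm⟩⟩

theorem equivProd_apply (p : ↥(coreC t) × ↥V) :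
    (h.equivProd p : G) = (p.1 : G) * (p.2 : G) := rfl

theorem card_centralizer :
    Nat.card ↥(Subgroup.centralizer ({t} : Set G)) = 4 * Nat.card ↥(coreC t) := by
  rw [← Nat.card_congr h.equivProd, Nat.card_prod, h.four.1, mul_comm]

theorem conj_mem {c : G} (hc : c ∈ Subgroup.centralizer ({t} : Set G)) {o : G} (ho : o ∈ coreC t) :
    c * o * c⁻¹ ∈ coreC t :=
  (Subgroup.mem_normalizer_iff.1 (centralizer_le_normalizer_coreC t hc) o).1 ho

/-- The involutions of `V` outside `⟨t⟩` act on `O` as `a`. -/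
theorem conj_eq {v : G} (hv : v ∈ V) (hv1 : v ≠ 1) (hvt : v ≠ t) {o : G} (ho : o ∈ coreC t) :
    v * o * v⁻¹ = a * o * a⁻¹ := by
  rcases eq_or_ne v a with rfl | hva
  · rfl
  have hvat : v = t * a := by
    by_contra hne
    have hsub : ({1, t, a, t * a} : Set G) ⊆ (V : Set G) \ {v} := by
      rintro y (rfl | rfl | rfl | rfl)
      exacts [⟨one_mem V, hv1.symm⟩, ⟨h.t_mem, hvt.symm⟩, ⟨h.a_mem, hva.symm⟩,
        ⟨mul_mem h.t_mem h.a_mem, Ne.symm hne⟩]
    have h3 := Set.ncard_le_ncard hsub (Set.toFinite _)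
    rw [Set.ncard_sdiff (Set.singleton_subset_iff.2 hv), Set.ncard_singleton,
      show (V : Set G).ncard = 4 from (Nat.card_coe_set_eq _).symm.trans h.four.1,
      Set.ncard_insert_of_notMem, Set.ncard_insert_of_notMem, Set.ncard_pair] at h3
    · omega
    · exact fun e => h.t_ne_one (mul_eq_right.1 e.symm)
    · simp only [Set.mem_insert_iff, Set.mem_singleton_iff, not_or]
      exact ⟨h.a_ne.symm, fun e => h.a_ne_one (mul_eq_left.1 e.symm)⟩
    · simp only [Set.mem_insert_iff, Set.mem_singleton_iff, not_or]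
      refine ⟨h.t_ne_one.symm, h.a_ne_one.symm, fun e => h.a_ne ?_⟩
      exact (inv_eq_of_mul_eq_one_right e.symm).symm.trans h.t_inv
  rw [hvat, show t * a * o * (t * a)⁻¹ = t * (a * o * a⁻¹) * t⁻¹ by group,
    ← h.core_comm (h.conj_mem (h.four_le h.a_mem) ho), mul_inv_cancel_right]

/-! ## Inverted elements -/

omit h in
/-- The elements of `O` inverted by `a`. -/
def invSet (t a : G) : Set ↥(coreC t) := {o | a * (o : G) * a⁻¹ = (o : G)⁻¹}

omit h in
theorem mem_invSet {o : ↥(coreC t)} : o ∈ invSet t a ↔ a * (o : G) * a⁻¹ = (o : G)⁻¹ := Iff.rfl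

omit h in
theorem inv_mem_invSet {o : ↥(coreC t)} (ho : o ∈ invSet t a) : o⁻¹ ∈ invSet t a := by
  rw [mem_invSet, Subgroup.coe_inv, ← conj_inv, mem_invSet.1 ho]

omit h in
theorem pow_mem_invSet {o : ↥(coreC t)} (ho : o ∈ invSet t a) (k : ℕ) : o ^ k ∈ invSet t a := by
  rw [mem_invSet, Subgroup.coe_pow, ← conj_pow, mem_invSet.1 ho, inv_pow]

/-- Square roots in `O`. -/
noncomputable def sqr (_h : Ctx t a V) (o : ↥(coreC t)) : ↥(coreC t) :=
  o ^ ((Nat.card ↥(coreC t) + 1) / 2)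

theorem sqr_sq (o : ↥(coreC t)) : h.sqr o * h.sqr o = o := by
  obtain ⟨k, hk⟩ := coreC_odd t
  rw [sqr, ← pow_add, show (Nat.card ↥(coreC t) + 1) / 2 + (Nat.card ↥(coreC t) + 1) / 2 =
    Nat.card ↥(coreC t) + 1 by omega, pow_succ, pow_card_eq_one', one_mul]

theorem sqr_mem {o : ↥(coreC t)} (ho : o ∈ invSet t a) : h.sqr o ∈ invSet t a :=
  pow_mem_invSet ho _

theorem eq_one_of_sq {o : ↥(coreC t)} (ho : (o : G) * o = 1) : o = 1 := by
  refine Subtype.ext (orderOf_eq_one_iff.1 (Nat.eq_one_of_dvd_coprimes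
    (Nat.coprime_two_left.2 (orderOf_odd_of_mem (coreC_odd t) o.2))
    (orderOf_dvd_of_pow_eq_one (by rw [sq]; exact ho)) dvd_rfl))

theorem coreV_le_core : coreV V ≤ coreC t := h.coreV_eq_inf ▸ inf_le_left

/-- `O = O(C(V)) · invSet`. -/
theorem exists_decomp (o : ↥(coreC t)) :
    ∃ i ∈ invSet t a, (o : G) * ((i : ↥(coreC t)) : G)⁻¹ ∈ coreV V := by
  set y : ↥(coreC t) := o⁻¹ * ⟨a * o * a⁻¹, h.conj_mem (h.four_le h.a_mem) o.2⟩ with hy
  have hyc : (y : G) = (o : G)⁻¹ * (a * o * a⁻¹) := rfl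
  have hyI : y ∈ invSet t a := by
    rw [mem_invSet, hyc, h.a_inv]
    calc a * ((o : G)⁻¹ * (a * o * a)) * a = a * (o : G)⁻¹ * a * o * (a * a) := by group
      _ = ((o : G)⁻¹ * (a * o * a))⁻¹ := by
        rw [h.a_sq, mul_one, mul_inv_rev, mul_inv_rev, mul_inv_rev, inv_inv, h.a_inv]; group
  set i := h.sqr y⁻¹
  have hiI : i ∈ invSet t a := h.sqr_mem (inv_mem_invSet hyI)
  have hii : i * i = y⁻¹ := h.sqr_sq _
  have hd : (o : G) * (i : G)⁻¹ ∈ coreV V := by
    rw [← h.coreV_eq_inf]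
    refine Subgroup.mem_inf.2 ⟨mul_mem o.2 (inv_mem i.2), Subgroup.mem_centralizer_singleton_iff.2 ?_⟩
    have e1 : a * ((o : G) * (i : G)⁻¹) * a⁻¹ = (o : G) * (i : G)⁻¹ := by
      calc a * ((o : G) * (i : G)⁻¹) * a⁻¹ = a * o * a⁻¹ * (a * (i : G) * a⁻¹)⁻¹ := by group
        _ = (o : G) * (y : G) * i := by rw [mem_invSet.1 hiI, inv_inv, hyc]; group
        _ = (o : G) * (((i * i)⁻¹ : ↥(coreC t)) : G) * i := by rw [hii, inv_inv]
        _ = (o : G) * (i : G)⁻¹ := by rw [Subgroup.coe_inv, Subgroup.coe_mul]; group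
    exact (mul_inv_eq_iff_eq_mul.1 e1).symm
  exact ⟨i, hiI, hd⟩

/-- `|invSet| · |O(C(V))| = |O|`. -/
theorem card_invSet_mul :
    Nat.card (invSet t a) * Nat.card ↥(coreV V) = Nat.card ↥(coreC t) := by
  have hD : ∀ d ∈ coreV V, d ∈ coreC t ∧ a * d * a⁻¹ = d := fun d hd => by
    rw [← h.coreV_eq_inf] at hd
    exact ⟨hd.1, by rw [← Subgroup.mem_centralizer_singleton_iff.1 hd.2, mul_inv_cancel_right]⟩
  let f : ↥(invSet t a) × ↥(coreV V) → ↥(coreC t) := fun p => ⟨(p.2 : G), (hD _ p.2.2).1⟩ * p.1.1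
  rw [← Nat.card_prod]
  refine Nat.card_congr (Equiv.ofBijective f ⟨fun p q e => ?_, fun o => ?_⟩)
  · have e1 : (p.2 : G) * (p.1.1 : G) = q.2 * q.1.1 := congrArg Subtype.val e
    set z := (q.2 : G)⁻¹ * p.2 with hz
    have hzD : z ∈ coreV V := mul_mem (inv_mem q.2.2) p.2.2
    have hq : (q.1.1 : G) = z * p.1.1 := by rw [hz, mul_assoc, e1, inv_mul_cancel_left]
    have hq2 := mem_invSet.1 q.1.2
    rw [hq, show a * (z * (p.1.1 : G)) * a⁻¹ = a * z * a⁻¹ * (a * (p.1.1 : G) * a⁻¹) by group,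
      (hD z hzD).2, mem_invSet.1 p.1.2] at hq2
    -- `z i⁻¹ = i⁻¹ z⁻¹`
    set i := (p.1.1 : G)
    have h1 : i * z * i⁻¹ = z⁻¹ := by
      calc i * z * i⁻¹ = i * (z * i⁻¹) := by group
        _ = z⁻¹ := by rw [hq2]; group
    have h2 : Commute ((p.1.1 : G) * p.1.1) z := by
      show i * i * z = z * (i * i)
      calc i * i * z = i * (i * z * i⁻¹) * i := by group
        _ = i * z⁻¹ * i := by rw [h1]
        _ = (i * z * i⁻¹)⁻¹ * (i * i) := by group
        _ = z * (i * i) := by rw [h1, inv_inv]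
    have h3 : Commute i z := by
      obtain ⟨k, hk⟩ := exists_pow_eq_self_of_coprime
        (Nat.coprime_two_left.2 (orderOf_odd_of_mem (coreC_odd t) p.1.1.2))
      have h4 := h2.pow_left k
      rwa [← sq, hk] at h4
    rw [h3.eq, mul_inv_cancel_right] at h1
    have hz1 : z = 1 := congrArg Subtype.val (h.eq_one_of_sq (o := ⟨z, (hD z hzD).1⟩)
      (mul_eq_one_iff_eq_inv.2 h1))
    rw [hz1, one_mul] at hq
    exact Prod.ext (Subtype.ext (Subtype.ext hq.symm))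
      (Subtype.ext (inv_mul_eq_one.1 (hz ▸ hz1)).symm)
  · obtain ⟨i, hiI, hd⟩ := h.exists_decomp o
    exact ⟨(⟨i, hiI⟩, ⟨_, hd⟩), Subtype.ext (inv_mul_cancel_right _ _)⟩

/-- An involution of `C(t)` other than `t`. -/
theorem involution_cases {u : G} (hu : orderOf u = 2) (huC : u ∈ Subgroup.centralizer ({t} : Set G))
    (hut : u ≠ t) :
    ∃ v ∈ V, v ≠ 1 ∧ v ≠ t ∧ ∃ i ∈ invSet t a, u = (i : ↥(coreC t)) * v := by
  obtain ⟨o, ho, v, hv, rfl⟩ := h.exists_mul huC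
  have hsq : o * v * (o * v) = 1 := by rw [← sq, ← hu, pow_orderOf_eq_one]
  have hne : o * v ≠ 1 := fun e => by rw [e, orderOf_one] at hu; omega
  have hvv := h.four.2 v hv
  have hv1 : v ≠ 1 := by
    rintro rfl
    rw [mul_one] at hsq hne
    exact hne (congrArg Subtype.val (h.eq_one_of_sq (o := ⟨o, ho⟩) hsq))
  have hvo : v * o * v⁻¹ = o⁻¹ := by
    rw [inv_eq_of_mul_eq_one_right hvv]
    exact eq_inv_of_mul_eq_one_right (by rw [← hsq]; group)
  have hvt : v ≠ t := by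
    rintro rfl
    rw [← h.core_comm ho, mul_inv_cancel_right] at hvo
    have h1 : o = 1 := congrArg Subtype.val (h.eq_one_of_sq (o := ⟨o, ho⟩) (mul_eq_one_iff_eq_inv.2 hvo))
    exact hut (by rw [h1, one_mul])
  exact ⟨v, hv, hv1, hvt, ⟨o, ho⟩, by rw [mem_invSet, ← h.conj_eq hv hv1 hvt ho]; exact hvo, rfl⟩

end Ctx

end Cfsg.Agent.Lib.GorensteinWalter.Four
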