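import Cfsg.Agent.Lib.GorensteinWalter.Four.LineSetup
import Cfsg.Agent.Lib.GorensteinWalter.Four.Setting
import Cfsg.Agent.Lib.GorensteinWalter.Four.LevelTwoTools

/-!
# Gorenstein–Walter, Sylow 2-subgroups of order four, second level: the line and its plane at `t`

`M = N(⟨x⟩)` has one class of involutions, all centralising `x`; no inverted `r`-element of `C(t) ∩ M`
lies in `O(M)`, whose `r`-part is at most `r`; every line `⟨x z^c⟩` is a conjugate of `⟨x⟩` by `Q`.
-/

set_option autoImplicit false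
set_option linter.unusedSectionVars false
set_option linter.style.haveILetI false

namespace Cfsg.Agent.Lib.GorensteinWalter.Four.LevelTwo

open Cfsg.Agent.Lib.Fusion.Dihedral Cfsg.Agent.Lib.Fusion.Alperin

universe u

variable {G : Type u} [Group G] [Finite G] {V : Subgroup G} {t a : G} {r : ℕ} [hr : Fact r.Prime]
  {x z : G} {Q : Subgroup G}

theorem commute_of_mem_zpowers {g x y : G} (h : g * x = x * g) (hy : y ∈ Subgroup.zpowers x) :
    g * y = y * g := by
  obtain ⟨i, rfl⟩ := hy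
  exact ((show Commute g x from h).zpow_right i).eq

theorem zpowers_eq_of_mem {y w : G} (hy : orderOf y = r) (hw : w ∈ Subgroup.zpowers y) (hw1 : w ≠ 1) :
    Subgroup.zpowers w = Subgroup.zpowers y := by
  refine Subgroup.eq_of_le_of_card_ge (Subgroup.zpowers_le.2 hw) ?_
  rw [Nat.card_zpowers, Nat.card_zpowers, hy]
  have h1 : orderOf w ∣ r := by
    rw [← hy, ← Nat.card_zpowers y]
    exact Subgroup.orderOf_dvd_natCard _ hw
  rcases hr.out.eq_one_or_self_of_dvd _ h1 with e | e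
  · exact absurd (orderOf_eq_one_iff.1 e) hw1
  · exact e.ge

/-! ## The line -/

theorem Line.x_comm (hl : Line V t a r x) {v : G} (hv : v ∈ V) : x * v = v * x :=
  (Subgroup.mem_centralizer_iff.1 (coreV_le V hl.mem) v hv).symm

theorem Line.dvd_coreV (hl : Line V t a r x) : r ∣ Nat.card (coreV V) :=
  hl.order ▸ Subgroup.orderOf_dvd_natCard (coreV V) hl.mem

theorem Line.x_ne_one (hl : Line V t a r x) : x ≠ 1 := fun e => by
  have := hl.order
  rw [e, orderOf_one] at this
  exact hr.out.one_lt.ne this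

theorem Line.r_odd (hl : Line V t a r x) : Odd r := hl.order ▸ orderOf_odd_of_mem (coreV_odd V) hl.mem

theorem Line.three_le (hl : Line V t a r x) : 3 ≤ r := by
  have h1 := hr.out.two_le
  obtain ⟨k, hk⟩ := Line.r_odd hl
  omega

variable (h : FourSetting V t a) (hl : Line V t a r x)
include h hl

/-- The involutions of `N(⟨x⟩)` centralise `x`. -/
theorem involution_comm {v : G} (hv : v ∈ lineM x) (ho : orderOf v = 2) : v * x = x * v := by
  obtain ⟨m, hm, rfl⟩ := h.exists_conj_involution (hl.fused h hr.out) hv ho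
  have h1 : m⁻¹ * x * m ∈ Subgroup.zpowers x :=
    (Subgroup.mem_normalizer_iff''.1 hm x).1 (Subgroup.mem_zpowers x)
  have h2 := commute_of_mem_zpowers (Line.x_comm hl h.t_mem).symm h1
  calc m * t * m⁻¹ * x = m * (t * (m⁻¹ * x * m)) * m⁻¹ := by group
    _ = x * (m * t * m⁻¹) := by rw [h2]; group

/-- An element of order `r` of `C(t) ∩ N(⟨x⟩)` inverted by `a` is outside `O(N(⟨x⟩))`. -/
theorem not_mem_core {y : G} (ho : orderOf y = r) (ht : y * t = t * y) (hy : a * y * a⁻¹ = y⁻¹) :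
    y ∉ coreOf (lineM x) := by
  intro hc
  refine h.noConf r hr.out (Line.dvd_coreV hl) V (lineM x) ⟨(hl.ne_top h hr.out), hl.fused h hr.out,
    Subgroup.zpowers y, Subgroup.zpowers_le.2 hc,
    IsPGroup.of_card (n := 1) (by rw [Nat.card_zpowers, ho, pow_one]), ?_, fun hle => ?_⟩
  · refine h.four.eq_of_mem h.t_mem h.a_mem h.t_ne h.a_ne h.ne.symm
      (Subgroup.centralizer_le_normalizer _ (Subgroup.mem_centralizer_iff.2 fun w hw =>
        (commute_of_mem_zpowers ht.symm hw).symm)) ?_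
    refine Subgroup.mem_normalizer_fintype fun w hw => ?_
    obtain ⟨i, rfl⟩ := hw
    exact ⟨-i, by rw [conj_zpow.symm, hy, inv_zpow', ]⟩
  · have h1 := Subgroup.mem_centralizer_iff.1 (hle (Subgroup.mem_zpowers y)) a h.a_mem
    rw [h1, mul_inv_cancel_right] at hy
    have h2 : orderOf y ∣ 2 := orderOf_dvd_of_pow_eq_one (by rw [sq]; exact mul_eq_one_iff_eq_inv.2 hy)
    rw [ho, Nat.prime_dvd_prime_iff_eq hr.out Nat.prime_two] at h2
    have := Line.three_le hl
    omega

/-- The `r`-subgroups of `O(N(⟨x⟩))` normalised by `V` lie in `O(C(V))`. -/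
theorem invariant_le_coreV {K : Subgroup G} (hK : K ≤ coreOf (lineM x)) (hp : IsPGroup r K)
    (hn : V ≤ Subgroup.normalizer (K : Set G)) : K ≤ coreV V := by
  have hc : K ≤ Subgroup.centralizer (V : Set G) := by
    by_contra hne
    exact h.noConf r hr.out (Line.dvd_coreV hl) V (lineM x)
      ⟨(hl.ne_top h hr.out), hl.fused h hr.out, K, hK, hp, hn, hne⟩
  refine h.hyp.le_coreV h.four hc ?_
  obtain ⟨n, hn'⟩ := IsPGroup.iff_card.1 hp
  exact hn' ▸ (Line.r_odd hl).pow

/-! ## The extraspecial group -/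

variable (hH : Heisenberg V t a r x z Q)
include hH

theorem z_comm_t : z * t = t * z :=
  Subgroup.mem_centralizer_singleton_iff.1 (coreC_le t (hH.le hH.z_mem))

theorem z_comm_x : z * x = x * z :=
  (Subgroup.mem_centralizer_singleton_iff.1 (hH.z_central (hH.le hH.x_mem))).symm

theorem z_comm_mem {g : G} (hg : g ∈ Q) : Commute g z :=
  Subgroup.mem_centralizer_singleton_iff.1 (hH.z_central (hH.le hg))

theorem z_mem_lineM : z ∈ lineM x :=
  centralizer_le_lineM x (Subgroup.mem_centralizer_singleton_iff.2 (z_comm_x h hl hH))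

theorem zpow_not_mem_core {c : ℕ} (hc : ¬ r ∣ c) : z ^ c ∉ coreOf (lineM x) := by
  refine not_mem_core h hl ?_ ((show Commute z t from z_comm_t h hl hH).pow_left c).eq ?_
  · rw [(Nat.Coprime.orderOf_pow (y := z) ?_), hH.z_order]
    rw [hH.z_order]
    exact hr.out.coprime_iff_not_dvd.2 hc
  · rw [← conj_pow, hH.z_inverted, inv_pow]

theorem r_subgroup_le {P : Subgroup G} (hP : P ≤ coreC t) (hp : IsPGroup r P) : P ≤ Q := by
  have hQp : IsPGroup r Q := IsPGroup.of_card (n := 3) hH.card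
  have h1 : IsPGroup r (P ⊔ Q : Subgroup G) := hp.to_sup_of_normal_right' hQp (hP.trans hH.normal)
  obtain ⟨n, hn⟩ := IsPGroup.iff_card.1 h1
  have h2 : r ^ n ∣ Nat.card (coreC t) := hn ▸ Subgroup.card_dvd_of_le (sup_le hP hH.le)
  rw [hr.out.pow_dvd_iff_le_factorization Nat.card_pos.ne', hH.sylow] at h2
  have h3 : Q = P ⊔ Q := Subgroup.eq_of_le_of_card_ge le_sup_right
    (by rw [hn, hH.card]; exact Nat.pow_le_pow_right hr.out.pos h2)
  exact h3 ▸ le_sup_left

theorem line_inf_centre {w : G} (hwx : w ∈ Subgroup.zpowers x) (hwz : w ∈ Subgroup.zpowers z) : w = 1 := by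
  by_contra hw
  have h2 : a * w = w * a :=
    commute_of_mem_zpowers (Line.x_comm hl h.a_mem).symm hwx
  have h3 : z ∈ Subgroup.zpowers w := by
    rw [zpowers_eq_of_mem hH.z_order hwz hw]
    exact Subgroup.mem_zpowers z
  have h4 := commute_of_mem_zpowers h2 h3
  have h5 := hH.z_inverted
  rw [h4, mul_inv_cancel_right] at h5
  have h6 : orderOf z ∣ 2 := orderOf_dvd_of_pow_eq_one (by rw [sq]; exact mul_eq_one_iff_eq_inv.2 h5)
  rw [hH.z_order, Nat.prime_dvd_prime_iff_eq hr.out Nat.prime_two] at h6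
  have := Line.three_le hl
  omega

theorem not_le_plane : ¬ Q ≤ Subgroup.zpowers x ⊔ Subgroup.zpowers z := by
  intro hle
  have h1 := Subgroup.card_le_of_le hle
  have h2 : Nat.card (Subgroup.zpowers x ⊔ Subgroup.zpowers z : Subgroup G) ≤ r * r := by
    rw [← SetLike.coe_sort_coe, Subgroup.coe_mul_of_left_le_normalizer_right _ _
      ((Subgroup.zpowers_le.2 (Subgroup.mem_centralizer_singleton_iff.2 (z_comm_x h hl hH).symm)).trans
        (centralizer_le_lineM z))]
    refine Set.natCard_mul_le.trans ?_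
    rw [SetLike.coe_sort_coe, SetLike.coe_sort_coe, Nat.card_zpowers, Nat.card_zpowers, hl.order, hH.z_order]
  rw [hH.card] at h1
  have h3 : r * r * 2 ≤ r ^ 3 := by
    rw [pow_succ, sq]
    exact Nat.mul_le_mul_left _ hr.out.two_le
  nlinarith [hr.out.pos]

/-- The lines of the plane at `t` are conjugate under `Q`. -/
theorem exists_conj_line (c : ℕ) : ∃ g ∈ Q, g * x * g⁻¹ = x * z ^ c := by
  have hcx : ∀ g ∈ Q, ∃ i : ℤ, g * x * g⁻¹ = x * z ^ i := fun g hg => by
    obtain ⟨i, hi⟩ := hH.comm g hg x hH.x_mem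
    refine ⟨i, ?_⟩
    have hi' : z ^ i = g * x * g⁻¹ * x⁻¹ := hi
    rw [((show Commute z x from z_comm_x h hl hH).zpow_left i).symm.eq, hi']
    group
  obtain ⟨g₀, hg₀, hne⟩ : ∃ g ∈ Q, g * x ≠ x * g := by
    by_contra hall
    push Not at hall
    exact not_le_plane h hl hH fun g hg => hH.cent g hg (hall g hg)
  obtain ⟨i, hi⟩ := hcx g₀ hg₀
  have hzi : z ^ i ≠ 1 := fun e => hne (mul_inv_eq_iff_eq_mul.1 (by rw [hi, e, mul_one]))
  have hzp := zpowers_eq_of_mem hH.z_order (⟨i, rfl⟩ : z ^ i ∈ Subgroup.zpowers z) hzi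
  obtain ⟨k, hk⟩ : z ^ c ∈ Subgroup.zpowers (z ^ i) := hzp ▸ Subgroup.npow_mem_zpowers z c
  have hgz : Commute g₀ (z ^ i) := (z_comm_mem h hl hH hg₀).zpow_right i
  have hpow : ∀ n : ℕ, g₀ ^ n * x * (g₀ ^ n)⁻¹ = x * (z ^ i) ^ n := by
    intro n
    induction n with
    | zero => simp
    | succ n ih =>
      calc g₀ ^ (n + 1) * x * (g₀ ^ (n + 1))⁻¹ = g₀ * (g₀ ^ n * x * (g₀ ^ n)⁻¹) * g₀⁻¹ := by group
        _ = g₀ * x * g₀⁻¹ * (g₀ * (z ^ i) ^ n * g₀⁻¹) := by rw [ih]; group
        _ = x * z ^ i * (z ^ i) ^ n := by rw [hi, (hgz.pow_right n).eq, mul_inv_cancel_right]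
        _ = x * (z ^ i) ^ (n + 1) := by rw [mul_assoc, ← pow_succ']
  obtain ⟨n, hn⟩ : z ^ c ∈ Submonoid.powers (z ^ i) :=
    mem_powers_iff_mem_zpowers.2 ⟨k, hk⟩
  exact ⟨g₀ ^ n, pow_mem hg₀ n, (hpow n).trans (congrArg (x * ·) hn)⟩

end Cfsg.Agent.Lib.GorensteinWalter.Four.LevelTwo
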