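import Cfsg.Agent.Lib.GorensteinWalter.Four.LineSetup
import Cfsg.Agent.Lib.GorensteinWalter.Four.FixedPoints

/-!
# The model of the normaliser of a line, and the bound on the number of lines

`M = N(⟨x⟩)`, `Q = M / O(M)`.  `PropModelKlein` gives `T`, `q`, `ε`; the bound of the setting becomes
`36 |G : M| |Q : C(t̄)| ≤ 364 k³ T²`, `k` the number of lines.
-/

set_option autoImplicit false
set_option linter.unusedSectionVars false
set_option linter.style.haveILetI false

namespace Cfsg.Agent.Lib.GorensteinWalter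

open Cfsg.Agent.Lib.Fusion.Dihedral Cfsg.Agent.Lib.Fusion.Alperin

universe u

variable {G : Type u} [Group G] [Finite G]

instance lineCore_normal (x : G) : (Cfsg.oddCore ↥(lineM x)).Normal := by
  unfold Cfsg.oddCore
  infer_instance

/-- `M / O(M)`. -/
abbrev lineQ (x : G) : Type u := ↥(lineM x) ⧸ Cfsg.oddCore ↥(lineM x)

/-- The map from `M` onto `M / O(M)`. -/
abbrev lineF (x : G) : ↥(lineM x) →* lineQ x := QuotientGroup.mk' _

/-- The data of `M / O(M)` and the bound on the index of `M`. -/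
structure LineModel (V : Subgroup G) (t a : G) (x : G) (T q : ℕ) (ε : ℤ) : Prop where
  eps : ε = 1 ∨ ε = -1
  prime_pow : IsPrimePow q
  odd : Odd T
  q_eq : (q : ℤ) = 4 * (T : ℤ) + ε
  mt : t ∈ lineM x
  ma : a ∈ lineM x
  card_core : Nat.card (coreC (lineF x ⟨t, mt⟩)) =
    T * Nat.card (coreV ((V.subgroupOf (lineM x)).map (lineF x)))
  two_index : 2 * ((Subgroup.centralizer ({lineF x ⟨t, mt⟩} : Set (lineQ x))).index : ℤ) =
    (q : ℤ) * ((q : ℤ) + ε)
  torus : ∀ y : lineQ x, Odd (orderOf y) → y * lineF x ⟨t, mt⟩ = lineF x ⟨t, mt⟩ * y →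
    lineF x ⟨a, ma⟩ * y * (lineF x ⟨a, ma⟩)⁻¹ = y⁻¹ →
      orderOf y ∣ T ∧ (y ≠ 1 → ∀ j : lineQ x, orderOf j = 2 → j * y = y * j → j = lineF x ⟨t, mt⟩)
  borel : {j : lineQ x | orderOf j = 2 ∧ ∃ y y' b : lineQ x, orderOf b = 2 ∧ b * j = j * b ∧
      y ≠ 1 ∧ y' ≠ 1 ∧ Odd (orderOf y) ∧ Odd (orderOf y') ∧
      y * lineF x ⟨t, mt⟩ = lineF x ⟨t, mt⟩ * y ∧
      lineF x ⟨a, ma⟩ * y * (lineF x ⟨a, ma⟩)⁻¹ = y⁻¹ ∧ y' * j = j * y' ∧ b * y' * b⁻¹ = y'⁻¹ ∧
      Odd (Nat.card (Subgroup.closure ({y, y'} : Set (lineQ x))))}.ncard ≤ 2 * q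
  bound : 36 * (lineM x).index * (Subgroup.centralizer ({lineF x ⟨t, mt⟩} : Set (lineQ x))).index ≤
    364 * (lines t x).ncard ^ 3 * T ^ 2

/-- The lines in a subgroup of `M` map to `M / O(M)` with kernel their part of `O(M)`. -/
theorem card_map_lineF (x : G) {H : Subgroup G} (hH : H ≤ lineM x) :
    Nat.card ((H.subgroupOf (lineM x)).map (lineF x)) * Nat.card ↥(H ⊓ coreOf (lineM x)) = Nat.card H := by
  have h1 := card_map_mul_card_inf_ker (lineF x) (H.subgroupOf (lineM x))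
  rw [QuotientGroup.ker_mk', Nat.card_congr (Subgroup.subgroupOfEquivOfLe hH).toEquiv,
    ← Subgroup.card_map_of_injective (K := H.subgroupOf (lineM x) ⊓ _) (lineM x).subtype_injective,
    Subgroup.map_inf _ _ _ (lineM x).subtype_injective, Subgroup.map_subgroupOf_eq_of_le hH] at h1
  exact h1

namespace Line

variable {V : Subgroup G} {t a : G} {r : ℕ} {x : G} (h : FourSetting V t a) (hl : Line V t a r x)
  (hr : r.Prime)

include h hl hr

theorem t_mem_lineM : t ∈ lineM x := (hl.fused h hr).2.1 h.t_mem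

theorem a_mem_lineM : a ∈ lineM x := (hl.fused h hr).2.1 h.a_mem

/-- `O(M) ∩ V = 1`. -/
theorem lineF_ne_one {v : lineM x} (hv : (v : G) ∈ V) (hv1 : v ≠ 1) : lineF x v ≠ 1 := fun e => by
  have h1 : (v : G) ∈ coreOf (lineM x) := ⟨v, (QuotientGroup.eq_one_iff v).1 e, rfl⟩
  have h2 := orderOf_odd_of_mem (coreOf_odd (lineM x)) h1
  rw [h.four.orderOf_eq hv (fun e' => hv1 (Subtype.ext e'))] at h2
  exact absurd h2 (by decide)

theorem lineF_injOn {v w : lineM x} (hv : (v : G) ∈ V) (hw : (w : G) ∈ V) (e : lineF x v = lineF x w) :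
    v = w := by
  by_contra hne
  refine hl.lineF_ne_one h hr (v := v * w⁻¹) (mul_mem hv (inv_mem hw)) (fun e' => hne (mul_inv_eq_one.1 e')) ?_
  rw [map_mul, map_inv, e, mul_inv_cancel]

theorem card_map_four : Nat.card ((V.subgroupOf (lineM x)).map (lineF x)) = 4 := by
  have h1 := card_map_lineF x (hl.fused h hr).2.1
  have h2 : Nat.card ↥(V ⊓ coreOf (lineM x)) = 1 := Subgroup.card_eq_one.2 (Disjoint.eq_bot
    (Subgroup.disjoint_of_coprime_natCard (by
      rw [h.four.1]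
      exact (Nat.coprime_two_left.2 (coreOf_odd _)).pow_left 2)))
  rwa [h2, mul_one, h.four.1] at h1

theorem isFour_map : IsFour ((V.subgroupOf (lineM x)).map (lineF x)) :=
  ⟨hl.card_map_four h hr, by
    rintro _ ⟨v, hv, rfl⟩
    rw [← map_mul, show v * v = 1 from Subtype.ext (h.four.2 _ (Subgroup.mem_subgroupOf.1 hv)), map_one]⟩

theorem fused_map : FusedIn ((V.subgroupOf (lineM x)).map (lineF x)) ⊤ := by
  refine ⟨hl.isFour_map h hr, le_top, ?_⟩
  rintro _ ⟨v, hv, rfl⟩ hv1 _ ⟨w, hw, rfl⟩ hw1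
  obtain ⟨g, hg, hgN, hgv⟩ := (hl.fused h hr).2.2 v hv
    (fun e => hv1 (by rw [show v = 1 from Subtype.ext e, map_one])) w hw
    (fun e => hw1 (by rw [show w = 1 from Subtype.ext e, map_one]))
  refine ⟨lineF x ⟨g, hg⟩, trivial, Subgroup.le_normalizer_map _ ⟨⟨g, hg⟩, ?_, rfl⟩, ?_⟩
  · exact Subgroup.mem_normalizer_fintype fun u hu =>
      Subgroup.mem_subgroupOf.2 (conj_mem_of_mem_normalizer hgN (Subgroup.mem_subgroupOf.1 hu))
  · rw [← map_inv, ← map_mul, ← map_mul]
    exact congrArg _ (Subtype.ext hgv)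

theorem sylow_card (S : Sylow 2 (lineQ x)) : Nat.card (S : Subgroup (lineQ x)) = 4 := by
  haveI : Fact (Nat.Prime 2) := ⟨Nat.prime_two⟩
  obtain ⟨P, -⟩ := h.exists_sylow
  have h4 : 4 ∣ Nat.card (lineQ x) := hl.card_map_four h hr ▸ Subgroup.card_subgroup_dvd_card _
  have hle : (Nat.card (lineQ x)).factorization 2 ≤ (Nat.card G).factorization 2 :=
    (Nat.factorization_le_iff_dvd Nat.card_pos.ne' Nat.card_pos.ne').2
      ((Subgroup.card_quotient_dvd_card _).trans (Subgroup.card_subgroup_dvd_card (lineM x))) 2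
  have hge : 2 ≤ (Nat.card (lineQ x)).factorization 2 :=
    (Nat.prime_two.pow_dvd_iff_le_factorization Nat.card_pos.ne').1 h4
  have hG : (Nat.card G).factorization 2 = 2 := Nat.pow_right_injective (le_refl 2) (by
    show 2 ^ (Nat.card G).factorization 2 = 2 ^ 2
    rw [← P.card_eq_multiplicity]
    exact h.sylow P)
  rw [S.card_eq_multiplicity, show (Nat.card (lineQ x)).factorization 2 = 2 by omega]
  rfl

theorem dihedral_quotient : HasDihedralSylow (lineQ x) := by
  haveI : Fact (Nat.Prime 2) := ⟨Nat.prime_two⟩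
  have hW4 := hl.isFour_map h hr
  obtain ⟨T, hT⟩ := hW4.isPGroup.exists_le_sylow
  intro T'
  rcases ((h.hyp.cd.subgroup (lineM x)).of_surjective (lineF x) (QuotientGroup.mk'_surjective _)) T'
    with hc | hd
  · exfalso
    haveI := hc
    haveI : IsCyclic (T : Subgroup (lineQ x)) :=
      isCyclic_of_injective (Sylow.equiv T T').toMonoidHom (MulEquiv.injective _)
    exact not_isCyclic_of_four hW4 (Subgroup.isCyclic_of_le hT)
  · exact hd

/-- An element inverted by `a` of `r`-power order, commuting with `x` and `t`, is outside `O(M)`. -/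
theorem lineF_inverted {c : lineM x} {n : ℕ} (hc : (c : G) ^ r ^ n = 1) (hc1 : c ≠ 1)
    (hct : (c : G) * t = t * c) (hca : a * c * a⁻¹ = (c : G)⁻¹) : lineF x c ≠ 1 := fun e => by
  haveI : Fact r.Prime := ⟨hr⟩
  obtain ⟨i, -, hi⟩ := (Nat.dvd_prime_pow hr).1 (orderOf_dvd_of_pow_eq_one hc)
  refine not_mem_coreOf_of_inverted (hl.noConf h hr) (hl.ne_top h hr) (hl.fused h hr) h.t_mem h.a_mem
    h.t_ne h.a_ne h.ne.symm (y := (c : G))
    (IsPGroup.of_card (n := i) (by rw [Nat.card_zpowers, hi])) ?_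
    (fun e' => hc1 (Subtype.ext e')) hct.symm hca ⟨c, (QuotientGroup.eq_one_iff c).1 e, rfl⟩
  rw [hi]
  exact (hr.odd_of_ne_two (hl.r_ne_two h hr)).pow

/-- Every line other than `⟨x⟩` yields an element of the torus. -/
theorem exists_torus {L : Subgroup G} (hL : L ∈ lines t x) (hne : L ≠ Subgroup.zpowers x) :
    ∃ y : lineM x, (y : G) ∈ Subgroup.zpowers x ⊔ L ∧ orderOf (y : G) = r ∧ (y : G) * t = t * y ∧
      a * y * a⁻¹ = (y : G)⁻¹ ∧ lineF x y ≠ 1 := by
  obtain ⟨y, hy, hyr, hyx, hya⟩ := hl.good L hL hne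
  have hyM : y ∈ lineM x := centralizer_le_lineM x (Subgroup.mem_centralizer_singleton_iff.2 hyx)
  have hyt : y * t = t * y := Subgroup.mem_centralizer_singleton_iff.1 (coreC_le t
    ((sup_le (Subgroup.zpowers_le.2 (hl.x_mem_coreC h hr)) hL.1) hy))
  refine ⟨⟨y, hyM⟩, hy, hyr, hyt, hya, hl.lineF_inverted h hr (n := 1) ?_ ?_ hyt hya⟩
  · rw [pow_one, ← hyr, pow_orderOf_eq_one]
  · intro e
    rw [show y = 1 from congrArg Subtype.val e, orderOf_one] at hyr
    exact hr.ne_one hyr.symm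

theorem exists_line_ne : ∃ L ∈ lines t x, L ≠ Subgroup.zpowers x := by
  by_contra hno
  push Not at hno
  have h1 := Set.ncard_le_ncard (show lines t x ⊆ {Subgroup.zpowers x} from hno) (Set.toFinite _)
  rw [Set.ncard_singleton] at h1
  have := hl.three_le_ncard h hr
  omega

theorem lineF_two {j : lineM x} (hj : orderOf (j : G) = 2) : orderOf (lineF x j) = 2 := by
  refine orderOf_eq_prime (by rw [← map_pow, show j ^ 2 = 1 from Subtype.ext (by
    rw [SubgroupClass.coe_pow, ← hj, pow_orderOf_eq_one, OneMemClass.coe_one]), map_one]) fun e => ?_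
  have h1 : (j : G) ∈ coreOf (lineM x) := ⟨j, (QuotientGroup.eq_one_iff j).1 e, rfl⟩
  have h2 := orderOf_odd_of_mem (coreOf_odd (lineM x)) h1
  rw [hj] at h2
  exact absurd h2 (by decide)

omit hr in
theorem lineF_inverts {y : lineM x} (ma : a ∈ lineM x) (hya : a * y * a⁻¹ = (y : G)⁻¹) :
    lineF x ⟨a, ma⟩ * lineF x y * (lineF x ⟨a, ma⟩)⁻¹ = (lineF x y)⁻¹ := by
  rw [← map_inv, ← map_inv, ← map_mul, ← map_mul]
  exact congrArg _ (Subtype.ext hya)

/-- `M / O(M)` satisfies the hypotheses of the model; the bound of the setting becomes the bound. -/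
theorem exists_model (hMK : PropModelKlein.{u}) : ∃ (T q : ℕ) (ε : ℤ), LineModel V t a x T q ε := by
  classical
  haveI : Fact (Nat.Prime 2) := ⟨Nat.prime_two⟩
  set M := lineM x with hM
  set f := lineF x with hf
  have mt := hl.t_mem_lineM h hr
  have ma := hl.a_mem_lineM h hr
  set t' : M := ⟨t, mt⟩ with ht'
  set a' : M := ⟨a, ma⟩ with ha'
  set W := (V.subgroupOf M).map f with hW
  have hfta : f a' ≠ f t' := fun e => h.ne (congrArg Subtype.val
    (hl.lineF_injOn h hr (v := a') (w := t') h.a_mem h.t_mem e))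
  obtain ⟨L, hL, hLne⟩ := hl.exists_line_ne h hr
  obtain ⟨y, -, hyr, hyt, hya, hy1⟩ := hl.exists_torus h hr hL hLne
  have hyodd : Odd (orderOf (y : G)) := hyr ▸ hr.odd_of_ne_two (hl.r_ne_two h hr)
  have hfyodd : Odd (orderOf (f y)) :=
    Odd.of_dvd_nat (Subgroup.orderOf_coe y ▸ hyodd) (orderOf_map_dvd f y)
  obtain ⟨T, q, ε, hε, hq, hT, hqT, hcard, hQ, htor, hbor, -⟩ := hMK (lineQ x) W (f t') (f a')
    (Cores.pPrimeCore_quotient_pPrimeCore 2) (hl.dihedral_quotient h hr) (hl.sylow_card h hr)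
    (fun L N _ hs hna => known_sections_quotient h.hyp (hl.ne_top h hr) _ L N hs hna)
    (hl.fused_map h hr) ⟨t', h.t_mem, rfl⟩ ⟨a', h.a_mem, rfl⟩
    (hl.lineF_ne_one h hr h.t_mem (fun e => h.t_ne (congrArg Subtype.val e)))
    (hl.lineF_ne_one h hr h.a_mem (fun e => h.a_ne (congrArg Subtype.val e))) hfta
    ⟨f y, hfyodd, by rw [← map_mul, ← map_mul, show y * t' = t' * y from Subtype.ext hyt], fun e => hy1 (by
      have h1 := hl.lineF_inverts h ma hya
      rw [← e, mul_inv_cancel_right] at h1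
      exact eq_one_of_eq_inv hfyodd h1)⟩
  set C := Subgroup.centralizer ({f t'} : Set (lineQ x)) with hC
  have hidx : 2 * (C.index : ℤ) = (q : ℤ) * ((q : ℤ) + ε) := by
    have h1 : (Nat.card (lineQ x) : ℤ) = (C.index : ℤ) * Nat.card C := by
      exact_mod_cast (Subgroup.index_mul_card C).symm
    rw [h1, ← mul_assoc] at hQ
    exact mul_right_cancel₀ (by exact_mod_cast Nat.card_pos.ne') hQ
  refine ⟨T, q, ε, hε, hq, hT, hqT, mt, ma, hcard, hidx, htor, hbor, ?_⟩
  -- `K = O(M)`, fixed points of `V` on it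
  set K := coreOf M with hK
  have hKn : M ≤ Subgroup.normalizer (K : Set G) := le_normalizer_coreOf M
  set kt := Nat.card ↥(K ⊓ Subgroup.centralizer ({t} : Set G)) with hkt
  set kV := Nat.card ↥(K ⊓ Subgroup.centralizer ({t, a} : Set G)) with hkV
  have hVM : V ≤ M := (hl.fused h hr).2.1
  have hfix : kt * kt * kt ≤ Nat.card K * kV ^ 2 := by
    have hsame : ∀ v ∈ V, v ≠ 1 → Nat.card ↥(K ⊓ Subgroup.centralizer ({v} : Set G)) = kt := by
      intro v hv hv1
      obtain ⟨g, hg, -, hgv⟩ := (hl.fused h hr).2.2 t h.t_mem h.t_ne v hv hv1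
      refine le_antisymm ?_ ?_
      · rw [hkt, ← Subgroup.card_map_of_injective (K := K ⊓ Subgroup.centralizer ({v} : Set G))
          (f := (MulAut.conj (g⁻¹ : G)).toMonoidHom) (MulAut.conj (g⁻¹ : G)).injective]
        refine Subgroup.card_le_of_le ?_
        rintro _ ⟨c, ⟨hcK, hcv⟩, rfl⟩
        refine Subgroup.mem_inf.2 ⟨conj_mem_of_mem_normalizer (hKn (inv_mem hg)) hcK, ?_⟩
        rw [Subgroup.mem_centralizer_singleton_iff]
        have h1 := Subgroup.mem_centralizer_singleton_iff.1 hcv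
        rw [← hgv] at h1
        show g⁻¹ * c * g⁻¹⁻¹ * t = t * (g⁻¹ * c * g⁻¹⁻¹)
        calc g⁻¹ * c * g⁻¹⁻¹ * t = g⁻¹ * (c * (g * t * g⁻¹)) * g := by group
          _ = _ := by rw [h1]; group
      · rw [hkt, ← Subgroup.card_map_of_injective (K := K ⊓ Subgroup.centralizer ({t} : Set G))
          (f := (MulAut.conj (g : G)).toMonoidHom) (MulAut.conj (g : G)).injective]
        refine Subgroup.card_le_of_le ?_
        rintro _ ⟨c, ⟨hcK, hct⟩, rfl⟩
        refine Subgroup.mem_inf.2 ⟨conj_mem_of_mem_normalizer (hKn hg) hcK, ?_⟩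
        rw [Subgroup.mem_centralizer_singleton_iff, ← hgv]
        have h1 := Subgroup.mem_centralizer_singleton_iff.1 hct
        show g * c * g⁻¹ * (g * t * g⁻¹) = g * t * g⁻¹ * (g * c * g⁻¹)
        calc g * c * g⁻¹ * (g * t * g⁻¹) = g * (c * t) * g⁻¹ := by group
          _ = _ := by rw [h1]; group
    have hta : t * a ≠ 1 := fun e => h.ne (by
      calc a = (t * t) * a := by rw [h.four.2 t h.t_mem, one_mul]
        _ = t := by rw [mul_assoc, e, mul_one])
    have h1 := FixedPoints.fixed_le K (coreOf_odd M) (h.four.2 t h.t_mem) (h.four.2 a h.a_mem)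
      (h.four.comm h.t_mem h.a_mem) (fun y hy => conj_mem_of_mem_normalizer (hKn mt) hy)
    rwa [hsame a h.a_mem h.a_ne, hsame (t * a) (mul_mem h.t_mem h.a_mem) hta] at h1
  -- `C(t) ∩ M`
  set C0 := Nat.card ↥(M ⊓ coreC t) with hC0
  have hcent : 4 * C0 ≤ Nat.card C * kt := by
    rw [hC0, ← h.card_inf_centralizer hVM, ← card_map_lineF x inf_le_left]
    refine Nat.mul_le_mul (Subgroup.card_le_of_le ?_) (Subgroup.card_le_of_le ?_)
    · rintro _ ⟨c, hc, rfl⟩
      rw [Subgroup.mem_centralizer_singleton_iff, ← map_mul, ← map_mul]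
      exact congrArg f (Subtype.ext (Subgroup.mem_centralizer_singleton_iff.1
        (Subgroup.mem_inf.1 (Subgroup.mem_subgroupOf.1 hc)).2))
    · rintro c ⟨⟨-, hc⟩, hcK⟩
      exact ⟨hcK, hc⟩
  have hQCD : SylowCD (lineQ x) := (h.hyp.cd.subgroup M).of_surjective f (QuotientGroup.mk'_surjective _)
  have hft2 : orderOf (f t') = 2 := hl.lineF_two h hr h.t_two
  have hcoreT : C0 ≤ T * Nat.card (coreV W) * kt := by
    rw [hC0, ← card_map_lineF x (inf_le_left (a := M) (b := coreC t)), ← hcard]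
    refine Nat.mul_le_mul (Subgroup.card_le_of_le ?_) (Subgroup.card_le_of_le ?_)
    · rintro _ ⟨c, hc, rfl⟩
      have hcC := (Subgroup.mem_inf.1 (Subgroup.mem_subgroupOf.1 hc)).2
      refine hQCD.odd_mem_coreC hft2 ?_ (Odd.of_dvd_nat
        (Subgroup.orderOf_coe c ▸ orderOf_odd_of_mem (coreC_odd t) hcC) (orderOf_map_dvd f c))
      rw [← map_mul, ← map_mul]
      exact congrArg f (Subtype.ext (Subgroup.mem_centralizer_singleton_iff.1 (coreC_le t hcC)))
    · rintro c ⟨⟨-, hc⟩, hcK⟩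
      exact ⟨hcK, coreC_le t hc⟩
  -- lifting the core of the four-group
  have hdM : coreV V ≤ M := hl.normalized
  have hlift : coreV W ≤ ((coreV V).subgroupOf M).map f := by
    intro w hw
    have hwodd : Odd (orderOf w) := orderOf_odd_of_mem (coreV_odd W) hw
    obtain ⟨k, rfl⟩ := QuotientGroup.mk'_surjective _ w
    have hfixk : ∀ v ∈ V, v * (k : G) * v⁻¹ * (k : G)⁻¹ ∈ K := by
      intro v hv
      refine ⟨⟨v, hVM hv⟩ * k * ⟨v, hVM hv⟩⁻¹ * k⁻¹, ?_, rfl⟩
      rw [SetLike.mem_coe, ← QuotientGroup.eq_one_iff, QuotientGroup.mk_mul, QuotientGroup.mk_mul,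
        QuotientGroup.mk_mul, QuotientGroup.mk_inv, QuotientGroup.mk_inv,
        show (QuotientGroup.mk ⟨v, hVM hv⟩ : lineQ x) * QuotientGroup.mk k = QuotientGroup.mk k *
          QuotientGroup.mk ⟨v, hVM hv⟩ from Subgroup.mem_centralizer_iff.1 (coreV_le W hw) _
            ⟨⟨v, hVM hv⟩, hv, rfl⟩]
      exact mul_inv_eq_one.2 (mul_inv_cancel_right _ _)
    obtain ⟨n, hn, hnk⟩ := Coprime.exists_fixed_mul (A := V) (hVM.trans hKn)
      (by rw [h.four.1]; exact (Nat.coprime_two_left.2 (coreOf_odd M)).pow_left 2)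
      (Or.inl (Coprime.isSolvable_of_isPGroup h.four.isPGroup)) hfixk
    obtain ⟨n', hn', rfl⟩ := hn
    rw [← (h.hyp.centralizer_four h.four).1] at hnk
    obtain ⟨v, hv, d, hd, he⟩ := Coprime.exists_mul_of_mem_sup (fun u hu => Subgroup.mem_normalizer_fintype
      fun z hz => by
        rw [SetLike.mem_coe, ← (Subgroup.mem_centralizer_iff.1 (coreV_le V hz) u hu).symm]
        simpa using hz) hnk
    have hfk : f k = f ⟨v, hVM hv⟩ * f ⟨d, hdM hd⟩ := by
      have e1 : n' * k = ⟨v, hVM hv⟩ * ⟨d, hdM hd⟩ := Subtype.ext (by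
        simpa using he)
      rw [← map_mul, ← e1, map_mul]
      rw [show f n' = 1 from (QuotientGroup.eq_one_iff n').2 hn', one_mul]
    have hv1 : f ⟨v, hVM hv⟩ = 1 := by
      by_contra hne
      have h2 : f ⟨v, hVM hv⟩ * f ⟨v, hVM hv⟩ = 1 := by
        rw [← map_mul, show (⟨v, hVM hv⟩ : M) * ⟨v, hVM hv⟩ = 1 from Subtype.ext (h.four.2 v hv), map_one]
      have hcomm : Commute (f ⟨v, hVM hv⟩) (f ⟨d, hdM hd⟩) := by
        rw [Commute, SemiconjBy, ← map_mul, ← map_mul]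
        exact congrArg f (Subtype.ext (Subgroup.mem_centralizer_iff.1 (coreV_le V hd) v hv))
      have hdodd : Odd (orderOf (f ⟨d, hdM hd⟩)) := Odd.of_dvd_nat
        (Subgroup.orderOf_mk d (hdM hd) ▸ orderOf_odd_of_mem (coreV_odd V) hd) (orderOf_map_dvd f _)
      obtain ⟨m, hm⟩ := hwodd.mul hdodd
      refine hne ?_
      have h3 : (f ⟨v, hVM hv⟩) ^ (2 * m + 1) = 1 := by
        have h4 : (f k) ^ (2 * m + 1) = 1 := orderOf_dvd_iff_pow_eq_one.1 ⟨_, hm.symm⟩
        rw [hfk, hcomm.mul_pow, orderOf_dvd_iff_pow_eq_one.1 (show orderOf (f ⟨d, hdM hd⟩) ∣ 2 * m + 1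
          from hm ▸ dvd_mul_left _ _), mul_one] at h4
        exact h4
      rwa [pow_succ, pow_mul, pow_two, h2, one_pow, one_mul] at h3
    rw [hv1, one_mul] at hfk
    exact ⟨⟨d, hdM hd⟩, hd, hfk.symm⟩
  have hd : Nat.card (coreV W) * kV ≤ Nat.card (coreV V) := by
    rw [← card_map_lineF x hdM]
    refine Nat.mul_le_mul (Subgroup.card_le_of_le hlift) (Subgroup.card_le_of_le ?_)
    refine le_inf ?_ inf_le_left
    rintro c ⟨hcK, hc⟩
    refine h.hyp.mem_coreV h.four ?_ (orderOf_odd_of_mem (coreOf_odd M) hcK)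
    rwa [h.four.centralizer_pair h.t_mem h.a_mem h.t_ne h.a_ne h.ne.symm] at hc
  -- the bound
  have hbound := h.bound
  have hcoreC : Nat.card (coreC t) = (lines t x).ncard * C0 := (hl.ncard_lines_mul h hr).symm
  have hG : Nat.card G = M.index * (Nat.card K * (C.index * Nat.card C)) := by
    rw [← Subgroup.index_mul_card M, Subgroup.index_mul_card C, hK,
      Subgroup.card_map_of_injective M.subtype_injective, mul_comm (Nat.card (Cfsg.oddCore M)),
      ← Subgroup.card_eq_card_quotient_mul_card_subgroup]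
  rw [hG, hcoreC] at hbound
  have hC0pos : 0 < C0 := Nat.card_pos
  have hktpos : 0 < kt := Nat.card_pos
  set d := Nat.card (coreV V) with hddef
  set k := (lines t x).ncard with hkdef
  have h1 : C0 * kV ≤ T * kt * d := calc
    C0 * kV ≤ T * Nat.card (coreV W) * kt * kV := Nat.mul_le_mul_right _ hcoreT
    _ = T * kt * (Nat.card (coreV W) * kV) := by ring
    _ ≤ T * kt * d := Nat.mul_le_mul_left _ hd
  refine Nat.le_of_mul_le_mul_right ?_ (show 0 < (C0 * kt) ^ 3 by positivity)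
  calc 36 * M.index * C.index * (C0 * kt) ^ 3
      = 36 * M.index * C.index * C0 ^ 3 * (kt * kt * kt) := by ring
    _ ≤ 36 * M.index * C.index * C0 ^ 3 * (Nat.card K * kV ^ 2) := Nat.mul_le_mul_left _ hfix
    _ = 9 * M.index * Nat.card K * C.index * (4 * C0) * (C0 * kV) ^ 2 := by ring
    _ ≤ 9 * M.index * Nat.card K * C.index * (Nat.card C * kt) * (T * kt * d) ^ 2 :=
      Nat.mul_le_mul (Nat.mul_le_mul_left _ hcent) (Nat.pow_le_pow_left h1 2)
    _ = 9 * (M.index * (Nat.card K * (C.index * Nat.card C))) * d ^ 2 * (T ^ 2 * kt ^ 3) := by ring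
    _ ≤ 364 * (k * C0) ^ 3 * (T ^ 2 * kt ^ 3) := Nat.mul_le_mul_right _ hbound
    _ = 364 * k ^ 3 * T ^ 2 * (C0 * kt) ^ 3 := by ring

/-- An involution of `M` centralising a second line has the image of `t`. -/
theorem lineF_eq_of_commute {T q : ℕ} {ε : ℤ} (hm : LineModel V t a x T q ε) {L : Subgroup G}
    (hL : L ∈ lines t x) (hne : L ≠ Subgroup.zpowers x) {j : lineM x} (hj : orderOf (j : G) = 2)
    (hjx : (j : G) * x = x * j) (hjL : ∀ z ∈ L, (j : G) * z = z * j) :
    lineF x j = lineF x ⟨t, hm.mt⟩ := by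
  obtain ⟨y, hy, hyr, hyt, hya, hy1⟩ := hl.exists_torus h hr hL hne
  have hjy : (j : G) * y = y * j := by
    have h1 : Subgroup.zpowers x ⊔ L ≤ Subgroup.centralizer ({(j : G)} : Set G) := sup_le
      (Subgroup.zpowers_le.2 (Subgroup.mem_centralizer_singleton_iff.2 hjx.symm))
      fun z hz => Subgroup.mem_centralizer_singleton_iff.2 (hjL z hz).symm
    exact (Subgroup.mem_centralizer_singleton_iff.1 (h1 hy)).symm
  have hyodd : Odd (orderOf (lineF x y)) := Odd.of_dvd_nat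
    (Subgroup.orderOf_coe y ▸ hyr.symm ▸ hr.odd_of_ne_two (hl.r_ne_two h hr)) (orderOf_map_dvd _ y)
  refine (hm.torus _ hyodd ?_ (hl.lineF_inverts h hm.ma hya)).2 hy1 _ (hl.lineF_two h hr hj) ?_
  · rw [← map_mul, ← map_mul]
    exact congrArg _ (Subtype.ext hyt)
  · rw [← map_mul, ← map_mul]
    exact congrArg _ (Subtype.ext hjy)

/-- An involution of `M` centralises `x`. -/
theorem involution_comm {j : G} (hjM : j ∈ lineM x) (hj : orderOf j = 2) : j * x = x * j := by
  obtain ⟨m, hm, rfl⟩ := h.exists_conj_involution (hl.fused h hr) hjM hj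
  have hmx : m⁻¹ * x * m⁻¹⁻¹ ∈ Subgroup.zpowers x :=
    conj_mem_of_mem_normalizer (inv_mem hm) (Subgroup.mem_zpowers x)
  have h1 : m⁻¹ * x * m⁻¹⁻¹ * t = t * (m⁻¹ * x * m⁻¹⁻¹) := Subgroup.mem_centralizer_singleton_iff.1
    (coreC_le t (Subgroup.zpowers_le.2 (hl.x_mem_coreC h hr) hmx))
  calc m * t * m⁻¹ * x = m * (t * (m⁻¹ * x * m⁻¹⁻¹)) * m⁻¹ := by group
    _ = x * (m * t * m⁻¹) := by rw [← h1]; group

/-- The conjugates under `M` of the lines at `t` over distinct images of `t` are distinct. -/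
theorem eq_of_conjS_eq {T q : ℕ} {ε : ℤ} (hm : LineModel V t a x T q ε) {L L' : Subgroup G}
    (hL : L ∈ lines t x) (hne : L ≠ Subgroup.zpowers x) (hL' : L' ∈ lines t x) {m m' : lineM x}
    (e : conjS (m : G) L = conjS (m' : G) L') :
    (lineF x m)⁻¹ * lineF x m' ∈ Subgroup.centralizer ({lineF x ⟨t, hm.mt⟩} : Set (lineQ x)) := by
  set w := m⁻¹ * m' with hw
  have e1 : L = conjS (w : G) L' := by
    rw [hw, Subgroup.coe_mul, Subgroup.coe_inv, conjS_mul, ← e, conjS_inv_conjS]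
  set j : lineM x := w * ⟨t, hm.mt⟩ * w⁻¹ with hj
  have hj2 : orderOf (j : G) = 2 := by
    rw [hj, Subgroup.coe_mul, Subgroup.coe_mul, Subgroup.coe_inv, ← MulAut.conj_apply, MulEquiv.orderOf_eq]
    exact h.t_two
  have h1 := hl.lineF_eq_of_commute h hr hm hL hne hj2 (hl.involution_comm h hr j.2 hj2) (by
    intro z hz
    rw [e1] at hz
    obtain ⟨z', hz', rfl⟩ := hz
    have h2 := Subgroup.mem_centralizer_singleton_iff.1 (coreC_le t (hL'.1 hz'))
    show (w : G) * t * (w : G)⁻¹ * ((w : G) * z' * (w : G)⁻¹) =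
      (w : G) * z' * (w : G)⁻¹ * ((w : G) * t * (w : G)⁻¹)
    calc (w : G) * t * (w : G)⁻¹ * ((w : G) * z' * (w : G)⁻¹) = (w : G) * (t * z') * (w : G)⁻¹ := by group
      _ = _ := by rw [← h2]; group)
  rw [hj, map_mul, map_mul, map_inv, hw, map_mul, map_inv] at h1
  rw [Subgroup.mem_centralizer_singleton_iff]
  exact mul_inv_eq_iff_eq_mul.1 h1

end Line

end Cfsg.Agent.Lib.GorensteinWalter
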