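import Cfsg.Agent.Lib.GorensteinWalter.InterfaceH
import Cfsg.Agent.Lib.GorensteinWalter.FusedCentralizerMain
import Cfsg.Agent.Lib.Involutions.StronglyEmbedded
import Cfsg.Agent.Lib.Coprime.Glauberman

/-!
# Lines: the normaliser of a line and its conjugates in `O(C(t))`
-/

set_option autoImplicit false
set_option linter.unusedSectionVars false
set_option linter.style.haveILetI false

namespace Cfsg.Agent.Lib.GorensteinWalter

open Cfsg.Agent.Lib.Fusion.Dihedral Cfsg.Agent.Lib.Fusion.Alperin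

universe u

variable {G : Type u} [Group G] [Finite G]

/-- The normaliser of a line. -/
abbrev lineM (x : G) : Subgroup G := Subgroup.normalizer (Subgroup.zpowers x : Set G)

theorem centralizer_le_lineM (x : G) : Subgroup.centralizer ({x} : Set G) ≤ lineM x := by
  intro c hc
  refine Subgroup.mem_normalizer_fintype fun z hz => ?_
  obtain ⟨i, rfl⟩ := Subgroup.mem_zpowers_iff.1 hz
  rw [SetLike.mem_coe, ← MulAut.conj_apply, map_zpow, MulAut.conj_apply,
    Subgroup.mem_centralizer_singleton_iff.1 hc, mul_inv_cancel_right]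
  exact zpow_mem (Subgroup.mem_zpowers x) i

theorem conjS_eq_iff_mem {x g h : G} :
    conjS g (Subgroup.zpowers x) = conjS h (Subgroup.zpowers x) ↔ g⁻¹ * h ∈ lineM x := by
  constructor
  · intro e
    refine mem_normalizer_of_conjS_eq ?_
    rw [conjS_mul, ← e, conjS_inv_conjS]
  · intro hm
    have e := congrArg (conjS g) (conjS_eq_of_mem_normalizer hm)
    rw [← conjS_mul, mul_inv_cancel_left] at e
    exact e.symm

/-- `H` is the product of its image and the part of the kernel inside it. -/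
theorem card_map_mul_card_inf_ker {A B : Type*} [Group A] [Group B] (f : A →* B) (H : Subgroup A) :
    Nat.card (H.map f) * Nat.card ↥(H ⊓ f.ker) = Nat.card H := by
  have e1 : (f.comp H.subtype).range = H.map f := by
    rw [MonoidHom.range_comp, Subgroup.range_subtype]
  have e2 : (f.comp H.subtype).ker.map H.subtype = H ⊓ f.ker := by
    ext y
    constructor
    · rintro ⟨z, hz, rfl⟩
      exact ⟨z.2, hz⟩
    · rintro ⟨h1, h2⟩
      exact ⟨⟨y, h1⟩, h2, rfl⟩
  have h1 := Subgroup.card_eq_card_quotient_mul_card_subgroup (f.comp H.subtype).ker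
  rw [Nat.card_congr (QuotientGroup.quotientKerEquivRange (f.comp H.subtype)).toEquiv, e1,
    ← Subgroup.card_map_of_injective (H.subtype_injective), e2] at h1
  exact h1.symm

namespace FourSetting

variable {V : Subgroup G} {t a : G} (h : FourSetting V t a)
include h

theorem t_two : orderOf t = 2 := h.four.orderOf_eq h.t_mem h.t_ne

theorem a_two : orderOf a = 2 := h.four.orderOf_eq h.a_mem h.a_ne

/-- The four-group is a Sylow 2-subgroup. -/
theorem exists_sylow : ∃ S : Sylow 2 G, (S : Subgroup G) = V := by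
  haveI : Fact (Nat.Prime 2) := ⟨Nat.prime_two⟩
  obtain ⟨S, hS⟩ := h.four.isPGroup.exists_le_sylow
  exact ⟨S, (Subgroup.eq_of_le_of_card_ge hS (by rw [h.sylow S, h.four.1])).symm⟩

/-- Involutions of an overgroup in which `V` is fused are conjugate to `t` in it. -/
theorem exists_conj_involution {H : Subgroup G} (hV : FusedIn V H) {j : G} (hj : j ∈ H)
    (hj2 : orderOf j = 2) : ∃ m ∈ H, m * t * m⁻¹ = j := by
  haveI : Fact (Nat.Prime 2) := ⟨Nat.prime_two⟩
  obtain ⟨S, hS⟩ := h.exists_sylow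
  have hSH : (S : Subgroup G) ≤ H := hS ▸ hV.2.1
  obtain ⟨m, hm, hle⟩ := Involutions.StronglyEmbedded.exists_conj_le_sylow (H := H)
    (S.subtype hSH) (W := Subgroup.zpowers j)
    (IsPGroup.of_card (n := 1) (by rw [Nat.card_zpowers, hj2, pow_one])) (Subgroup.zpowers_le.2 hj)
  obtain ⟨y, hy, hye⟩ := hle (Subgroup.mem_map_of_mem _ (Subgroup.mem_zpowers j))
  have hye' : (y : G) = m * j * m⁻¹ := hye
  have hyV : m * j * m⁻¹ ∈ V := by
    rw [← hye', ← hS]
    exact hy
  have hne : m * j * m⁻¹ ≠ 1 := fun e => by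
    rw [conj_eq_one_iff] at e
    rw [e, orderOf_one] at hj2
    omega
  obtain ⟨g, hg, -, hgt⟩ := hV.2.2 t h.t_mem h.t_ne _ hyV hne
  refine ⟨m⁻¹ * g, mul_mem (inv_mem hm) hg, ?_⟩
  calc m⁻¹ * g * t * (m⁻¹ * g)⁻¹ = m⁻¹ * (g * t * g⁻¹) * m := by group
    _ = j := by rw [hgt]; group

/-- `C(t) = O(C(t)) V`. -/
theorem centralizer_t_eq : V ⊔ coreC t = Subgroup.centralizer ({t} : Set G) := by
  haveI : Fact (Nat.Prime 2) := ⟨Nat.prime_two⟩
  obtain ⟨S, hS⟩ := h.exists_sylow
  have hVC : (S : Subgroup G) ≤ Subgroup.centralizer ({t} : Set G) := fun v hv =>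
    Subgroup.mem_centralizer_singleton_iff.2 (h.four.comm (hS ▸ hv) h.t_mem)
  have := h.hyp.coreC_sup_sylow h.t_two (S.subtype hVC)
  rw [Sylow.coe_subtype, Subgroup.map_subgroupOf_eq_of_le hVC, hS] at this
  rwa [sup_comm]

theorem four_le_normalizer_coreC : V ≤ Subgroup.normalizer (coreC t : Set G) :=
  fun v hv => centralizer_le_normalizer_coreC t
    (Subgroup.mem_centralizer_singleton_iff.2 (h.four.comm hv h.t_mem))

/-- The order of a subgroup between `V` and `C(t)`. -/
theorem card_inf_centralizer {H : Subgroup G} (hVH : V ≤ H) :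
    Nat.card ↥(H ⊓ Subgroup.centralizer ({t} : Set G)) = 4 * Nat.card ↥(H ⊓ coreC t) := by
  have hd : Disjoint V (H ⊓ coreC t) := by
    refine Subgroup.disjoint_of_coprime_natCard ?_
    rw [h.four.1]
    exact (Nat.coprime_two_left.2 (Odd.of_dvd_nat (coreC_odd t)
      (Subgroup.card_dvd_of_le inf_le_right))).pow_left 2
  have hn : V ≤ Subgroup.normalizer ((H ⊓ coreC t : Subgroup G) : Set G) :=
    Coprime.le_normalizer_inf (hVH.trans Subgroup.le_normalizer) h.four_le_normalizer_coreC
  rw [← h.four.1, ← Coprime.card_sup_of_disjoint hn hd]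
  refine congrArg (fun K : Subgroup G => Nat.card K) ?_
  refine Subgroup.ext fun g => ⟨fun hg => ?_, fun hg => ?_⟩
  · obtain ⟨hgH, hgC⟩ := Subgroup.mem_inf.1 hg
    rw [← h.centralizer_t_eq] at hgC
    obtain ⟨v, hv, o, ho, rfl⟩ := Coprime.exists_mul_of_mem_sup h.four_le_normalizer_coreC hgC
    exact mul_mem (Subgroup.mem_sup_left hv) (Subgroup.mem_sup_right
      ⟨by simpa using mul_mem (inv_mem (hVH hv)) hgH, ho⟩)
  · refine (sup_le (le_inf hVH fun v hv => ?_) (inf_le_inf_left _ (coreC_le t))) hg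
    exact Subgroup.mem_centralizer_singleton_iff.2 (h.four.comm hv h.t_mem)

theorem card_centralizer_t :
    Nat.card (Subgroup.centralizer ({t} : Set G)) = 4 * Nat.card (coreC t) := by
  have := h.card_inf_centralizer (H := ⊤) le_top
  rwa [top_inf_eq, top_inf_eq] at this

/-- A proper subgroup with one class of involutions does not contain `C(t)`. -/
theorem not_centralizer_le {H : Subgroup G} (hH : H ≠ ⊤) (hV : FusedIn V H) :
    ¬ Subgroup.centralizer ({t} : Set G) ≤ H := by
  intro hle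
  haveI : Fact (Nat.Prime 2) := ⟨Nat.prime_two⟩
  have heven : Even (Nat.card H) := by
    rw [even_iff_two_dvd, ← h.t_two, ← Subgroup.orderOf_mk t (hV.2.1 h.t_mem)]
    exact orderOf_dvd_natCard _
  refine h.noStronglyEmbedded H ((Involutions.StronglyEmbedded.isStronglyEmbedded_iff_fusion hH heven).2
    ⟨fun s hs hs2 g hg => ?_, fun s hs u hu hs2 hu2 _ => ?_⟩)
  · obtain ⟨m, hm, rfl⟩ := h.exists_conj_involution hV hs hs2
    have h1 : m⁻¹ * g * m ∈ H := hle (Subgroup.mem_centralizer_singleton_iff.2 (by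
      have := Subgroup.mem_centralizer_singleton_iff.1 hg
      calc m⁻¹ * g * m * t = m⁻¹ * (g * (m * t * m⁻¹)) * m := by group
        _ = m⁻¹ * (m * t * m⁻¹ * g) * m := by rw [this]
        _ = t * (m⁻¹ * g * m) := by group))
    simpa [mul_assoc] using mul_mem (mul_mem hm h1) (inv_mem hm)
  · obtain ⟨m, hm, rfl⟩ := h.exists_conj_involution hV hs hs2
    obtain ⟨n, hn, rfl⟩ := h.exists_conj_involution hV hu hu2
    exact ⟨n * m⁻¹, mul_mem hn (inv_mem hm), by group⟩

end FourSetting

namespace Line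

variable {V : Subgroup G} {t a : G} {r : ℕ} {x : G} (h : FourSetting V t a) (hl : Line V t a r x)
  (hr : r.Prime)

include h hl hr

theorem r_dvd : r ∣ Nat.card (coreV V) := by
  rw [← hl.order]
  exact Subgroup.orderOf_dvd_natCard _ hl.mem

theorem r_ne_two : r ≠ 2 := fun e =>
  Nat.not_even_iff_odd.2 (coreV_odd V) (even_iff_two_dvd.2 (e ▸ hl.r_dvd h hr))

theorem noConf : ∀ W H : Subgroup G, ¬ Conf r W H := h.noConf r hr (hl.r_dvd h hr)

theorem x_ne : x ≠ 1 := fun e => by
  have h1 := hl.order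
  rw [e, orderOf_one] at h1
  exact hr.ne_one h1.symm

theorem four_le_centralizer : V ≤ Subgroup.centralizer ({x} : Set G) := fun v hv =>
  Subgroup.mem_centralizer_singleton_iff.2
    (Subgroup.mem_centralizer_iff.1 (coreV_le V hl.mem) v hv)

theorem x_mem_coreC : x ∈ coreC t := by
  have := hl.mem
  rw [h.hyp.coreV_eq h.four h.t_mem h.t_ne] at this
  exact this.1

theorem fused : FusedIn V (lineM x) :=
  (h.fused x hl.mem (hl.order ▸ hr)).mono (centralizer_le_lineM x)

theorem ne_top : lineM x ≠ ⊤ := by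
  refine h.hyp.normalizer_ne_top (fun e => hl.x_ne h hr (Subgroup.zpowers_eq_bot.1 e))
    (h.hyp.ne_top_of_odd ?_)
  rw [Nat.card_zpowers, hl.order]
  exact hr.odd_of_ne_two (hl.r_ne_two h hr)

theorem zpowers_mem_lines : Subgroup.zpowers x ∈ lines t x :=
  ⟨Subgroup.zpowers_le.2 (hl.x_mem_coreC h hr), 1, (conjS_one _).symm⟩

/-- The conjugates in `O(C(t))` are conjugate under it. -/
theorem exists_core_conj {L : Subgroup G} (hL : L ∈ lines t x) :
    ∃ o ∈ coreC t, L = conjS o (Subgroup.zpowers x) := by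
  obtain ⟨hLO, g, rfl⟩ := hL
  have htL : g * x * g⁻¹ ∈ Subgroup.centralizer ({t} : Set G) :=
    coreC_le t (hLO (conj_mem_conjS (Subgroup.mem_zpowers x)))
  have hj : g⁻¹ * t * g ∈ lineM x := centralizer_le_lineM x (Subgroup.mem_centralizer_singleton_iff.2 (by
    have := Subgroup.mem_centralizer_singleton_iff.1 htL
    calc g⁻¹ * t * g * x = g⁻¹ * (t * (g * x * g⁻¹)) * g := by group
      _ = g⁻¹ * (g * x * g⁻¹ * t) * g := by rw [this]
      _ = x * (g⁻¹ * t * g) := by group))
  obtain ⟨m, hm, hmt⟩ := h.exists_conj_involution (hl.fused h hr) hj (by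
    rw [show g⁻¹ * t * g = g⁻¹ * t * g⁻¹⁻¹ by rw [inv_inv], ← MulAut.conj_apply,
      MulEquiv.orderOf_eq]
    exact h.t_two)
  have hgm : g * m ∈ Subgroup.centralizer ({t} : Set G) := by
    rw [Subgroup.mem_centralizer_singleton_iff]
    calc g * m * t = g * (m * t * m⁻¹) * m := by group
      _ = t * (g * m) := by rw [hmt]; group
  rw [← h.centralizer_t_eq, sup_comm] at hgm
  obtain ⟨v, hv, o, ho, he⟩ := Coprime.exists_mul_of_mem_sup h.four_le_normalizer_coreC
    (sup_comm (coreC t) V ▸ hgm)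
  refine ⟨v * o * v⁻¹, (Subgroup.mem_normalizer_iff.1 (h.four_le_normalizer_coreC hv) o).1 ho, ?_⟩
  show conjS g (Subgroup.zpowers x) = conjS (v * o * v⁻¹) (Subgroup.zpowers x)
  rw [conjS_eq_iff_mem]
  have hvM : v⁻¹ ∈ lineM x := inv_mem (centralizer_le_lineM x (hl.four_le_centralizer h hr hv))
  have : g⁻¹ * (v * o * v⁻¹) = m * v⁻¹ := by
    rw [← he]
    group
  rw [this]
  exact mul_mem hm hvM

/-- The number of lines is the index of the normaliser in `O(C(t))`. -/
theorem ncard_lines_mul :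
    (lines t x).ncard * Nat.card ↥(lineM x ⊓ coreC t) = Nat.card (coreC t) := by
  set N := (lineM x).subgroupOf (coreC t) with hN
  let F : ↥(coreC t) ⧸ N → ↥(lines t x) := fun c => Quotient.liftOn' c
    (fun o => ⟨conjS (o : G) (Subgroup.zpowers x), by
      refine ⟨?_, o, rfl⟩
      rintro _ ⟨z, hz, rfl⟩
      exact mul_mem (mul_mem o.2 (Subgroup.zpowers_le.2 (hl.x_mem_coreC h hr) hz)) (inv_mem o.2)⟩)
    (fun o o' ho => Subtype.ext (conjS_eq_iff_mem.2 (Subgroup.mem_subgroupOf.1 (QuotientGroup.leftRel_apply.1 ho))))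
  have hF : Function.Bijective F := by
    constructor
    · intro c c' e
      induction c using QuotientGroup.induction_on with
      | H o =>
        induction c' using QuotientGroup.induction_on with
        | H o' => exact QuotientGroup.eq.2 (conjS_eq_iff_mem.1 (congrArg Subtype.val e))
    · rintro ⟨L, hL⟩
      obtain ⟨o, ho, rfl⟩ := hl.exists_core_conj h hr hL
      exact ⟨((⟨o, ho⟩ : coreC t) : ↥(coreC t) ⧸ N), rfl⟩
  rw [← Nat.card_coe_set_eq, ← Nat.card_eq_of_bijective F hF,
    Subgroup.card_eq_card_quotient_mul_card_subgroup N, hN]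
  congr 1
  rw [← Subgroup.card_map_of_injective (coreC t).subtype_injective, Subgroup.subgroupOf_map_subtype]

theorem odd_ncard : Odd (lines t x).ncard :=
  Odd.of_dvd_nat (coreC_odd t) ⟨_, (hl.ncard_lines_mul h hr).symm⟩

/-- There are at least three lines. -/
theorem three_le_ncard : 3 ≤ (lines t x).ncard := by
  obtain ⟨k, hk⟩ := hl.odd_ncard h hr
  by_contra hlt
  have h1 : (lines t x).ncard = 1 := by omega
  have hm := hl.ncard_lines_mul h hr
  rw [h1, one_mul] at hm
  have hle : coreC t ≤ lineM x := inf_eq_right.1 (Subgroup.eq_of_le_of_card_ge inf_le_right hm.ge)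
  refine h.not_centralizer_le (hl.ne_top h hr) (hl.fused h hr) ?_
  rw [← h.centralizer_t_eq]
  exact sup_le (hl.fused h hr).2.1 hle

end Line

end Cfsg.Agent.Lib.GorensteinWalter
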