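import Cfsg.Agent.Lib.GorensteinWalter.Four.Count
import Cfsg.Agent.Lib.GorensteinWalter.Four.Fusion
import Cfsg.Agent.Lib.Characters.Kernel

/-!
# Gorenstein–Walter, Sylow 2-subgroups of order four: the characters of the linear characters

The four characters of the principal character give `9 g d² ≤ 364 m³`; a linear character of
`O(C(t))` trivial on the inverted elements is trivial.
-/

set_option autoImplicit false
set_option linter.unusedSectionVars false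
set_option linter.style.haveILetI false

namespace Cfsg.Agent.Lib.GorensteinWalter.Four

open Cfsg.Agent.Lib.Fusion.Dihedral Cfsg.Agent.Lib.Characters.Basic
  Cfsg.Agent.Lib.Characters.Complete Cfsg.Agent.Lib.Characters.Linear
  Cfsg.Agent.Lib.Characters.Kernel
  Cfsg.Agent.Lib.Induced.Basic
open scoped ComplexConjugate

universe u

/-- Two integers at most `-7` and their complement. -/
theorem two_neg {u v : ℚ} (hu : 7 ≤ u) (hv : 7 ≤ v) :
    (1 : ℚ) / 13 - 2 / 7 ≤ 1 / (u + v - 1) - 1 / u - 1 / v := by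
  have step : ∀ u v : ℚ, 7 ≤ u → 2 ≤ v → 1 / (6 + v) - 1 / 7 ≤ 1 / (u + v - 1) - 1 / u := by
    intro u v hu hv
    rw [div_sub_div _ _ (by linarith) (by norm_num), div_sub_div _ _ (by linarith) (by linarith),
      div_le_div_iff₀ (by positivity) (by nlinarith)]
    nlinarith [mul_nonneg (mul_nonneg (sub_nonneg.2 hu) (show (0 : ℚ) ≤ v - 1 by linarith))
      (show (0 : ℚ) ≤ u + v + 6 by linarith)]
  have h1 := step u v hu (by linarith)
  have h2 := step v 7 hv (by norm_num)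
  rw [show v + 7 - 1 = 6 + v by ring] at h2
  norm_num at h1 h2 ⊢
  linarith

/-- Reciprocals of the three exceptional degrees. -/
theorem three_bound {e₁ e₂ e₃ : ℤ} (h₁ : e₁ ≤ -7 ∨ 9 ≤ e₁) (h₂ : e₂ ≤ -7 ∨ 9 ≤ e₂) (h₃ : e₃ ≤ -7 ∨ 9 ≤ e₃)
    (hs : e₁ + e₂ + e₃ = -1) : (72 : ℚ) / 91 ≤ 1 + (1 / e₁ + 1 / e₂ + 1 / e₃) := by
  have neg : ∀ e : ℤ, e ≤ -7 → (-1 : ℚ) / 7 ≤ 1 / e := fun e he => by
    have h' : (e : ℚ) ≤ -7 := by exact_mod_cast he
    rw [le_div_iff_of_neg (by linarith)]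
    linarith
  have pos : ∀ e : ℤ, 9 ≤ e → (0 : ℚ) ≤ 1 / e := fun e he => by
    have h' : (9 : ℚ) ≤ e := by exact_mod_cast he
    positivity
  have two : ∀ e f k : ℤ, e ≤ -7 → f ≤ -7 → e + f + k = -1 →
      (1 : ℚ) / 13 - 2 / 7 ≤ 1 / e + 1 / f + 1 / k := fun e f k he hf hk => by
    have he' : (e : ℚ) ≤ -7 := by exact_mod_cast he
    have hf' : (f : ℚ) ≤ -7 := by exact_mod_cast hf
    have hk' : (k : ℚ) = -(e : ℚ) + -(f : ℚ) - 1 := by
      have : (e : ℚ) + f + k = -1 := by exact_mod_cast hk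
      linarith
    have := two_neg (u := -(e : ℚ)) (v := -(f : ℚ)) (by linarith) (by linarith)
    rw [← hk', div_neg, div_neg] at this
    linarith
  rcases h₁ with a | a <;> rcases h₂ with b | b <;> rcases h₃ with c | c <;> try omega
  · linarith [two e₁ e₂ e₃ a b hs]
  · linarith [two e₁ e₃ e₂ a c (by omega)]
  · linarith [neg _ a, pos _ b, pos _ c]
  · linarith [two e₂ e₃ e₁ b c (by omega)]
  · linarith [pos _ a, neg _ b, pos _ c]
  · linarith [pos _ a, pos _ b, neg _ c]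

/-- Three orthogonal sign vectors of length four, orthogonal to a positive one. -/
theorem hadamard {ι : Type*} [DecidableEq ι] (S : Finset ι) (hS : S.card = 4) (c₀ c₁ c₂ x : ι → ℤ)
    (h₀ : ∀ k ∈ S, c₀ k = 1 ∨ c₀ k = -1) (h₁ : ∀ k ∈ S, c₁ k = 1 ∨ c₁ k = -1)
    (h₂ : ∀ k ∈ S, c₂ k = 1 ∨ c₂ k = -1) (h01 : ∑ k ∈ S, c₀ k * c₁ k = 0)
    (h02 : ∑ k ∈ S, c₀ k * c₂ k = 0) (h12 : ∑ k ∈ S, c₁ k * c₂ k = 0) (hx : ∀ k ∈ S, 0 < x k)
    (d₀ : ∑ k ∈ S, c₀ k * x k = 0) (d₁ : ∑ k ∈ S, c₁ k * x k = 0) (d₂ : ∑ k ∈ S, c₂ k * x k = 0) :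
    ∃ δ X : ℤ, (δ = 1 ∨ δ = -1) ∧ ∀ k ∈ S, x k = X ∧ c₀ k * c₁ k * c₂ k = δ := by
  set P : ι → ι → ℤ := fun k l => (1 + c₀ k * c₁ k * (c₀ l * c₁ l)) * (1 + c₀ k * c₂ k * (c₀ l * c₂ l))
    with hP
  have sq : ∀ {z : ℤ}, (z = 1 ∨ z = -1) → z * z = 1 := by rintro z (rfl | rfl) <;> norm_num
  have hexp : ∀ k l, l ∈ S → P k l = 1 + c₀ k * c₁ k * (c₀ l * c₁ l) + c₀ k * c₂ k * (c₀ l * c₂ l) +
      c₀ k * c₁ k * (c₀ k * c₂ k) * (c₁ l * c₂ l) := fun k l hl => by
    rw [hP]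
    linear_combination (c₀ k * c₁ k * (c₀ k * c₂ k) * (c₁ l * c₂ l)) * sq (h₀ l hl)
  have hsum : ∀ k ∈ S, ∑ l ∈ S, P k l = 4 := fun k _ => by
    rw [Finset.sum_congr rfl (hexp k)]
    simp only [Finset.sum_add_distrib, ← Finset.mul_sum, h01, h02, h12, Finset.sum_const, hS]
    norm_num
  have hPkk : ∀ k ∈ S, P k k = 4 := fun k hk => by
    rcases h₀ k hk with a | a <;> rcases h₁ k hk with b | b <;> rcases h₂ k hk with c | c <;>
      simp [hP, a, b, c]
  have hP0 : ∀ k ∈ S, ∀ l ∈ S, l ≠ k → P k l = 0 := by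
    intro k hk l hl hne
    have hnn : ∀ l ∈ S, 0 ≤ P k l := fun l hl => by
      rcases h₀ k hk with a | a <;> rcases h₁ k hk with b | b <;> rcases h₂ k hk with c | c <;>
        rcases h₀ l hl with a' | a' <;> rcases h₁ l hl with b' | b' <;> rcases h₂ l hl with c' | c' <;>
        simp [hP, a, b, c, a', b', c']
    have h4 := Finset.add_sum_erase S (fun l => P k l) hk
    rw [hPkk k hk, hsum k hk] at h4
    exact (Finset.sum_eq_zero_iff_of_nonneg fun l hl => hnn l (Finset.mem_of_mem_erase hl)).1 (by linarith) l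
      (Finset.mem_erase.2 ⟨hne, hl⟩)
  set K := ∑ l ∈ S, c₀ l * c₁ l * c₂ l * x l with hK
  have hkey : ∀ k ∈ S, 4 * (c₀ k * x k) = c₀ k * c₁ k * (c₀ k * c₂ k) * K := by
    intro k hk
    have h4 : ∑ l ∈ S, P k l * (c₀ l * x l) = 4 * (c₀ k * x k) := by
      rw [Finset.sum_eq_single k (fun l hl hne => by rw [hP0 k hk l hl hne, zero_mul])
        (fun hn => absurd hk hn), hPkk k hk]
    rw [← h4, Finset.sum_congr rfl fun l hl => show P k l * (c₀ l * x l) =
      c₀ l * x l + c₀ k * c₁ k * (c₁ l * x l) + c₀ k * c₂ k * (c₂ l * x l) +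
        c₀ k * c₁ k * (c₀ k * c₂ k) * (c₀ l * c₁ l * c₂ l * x l) by
      rw [hexp k l hl]
      linear_combination (c₀ k * c₁ k * (c₁ l * x l) + c₀ k * c₂ k * (c₂ l * x l)) * sq (h₀ l hl)]
    simp only [Finset.sum_add_distrib, ← Finset.mul_sum, d₀, d₁, d₂]
    ring
  have hw : ∀ k ∈ S, 4 * x k = c₀ k * c₁ k * c₂ k * K := fun k hk => by
    linear_combination c₀ k * hkey k hk -
      (4 * x k - c₀ k * c₁ k * c₂ k * K) * sq (h₀ k hk)
  have hor : ∀ k ∈ S, c₀ k * c₁ k * c₂ k = 1 ∨ c₀ k * c₁ k * c₂ k = -1 := fun k hk => by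
    rcases h₀ k hk with a | a <;> rcases h₁ k hk with b | b <;> rcases h₂ k hk with c | c <;> simp [a, b, c]
  obtain ⟨k₀, hk₀⟩ := Finset.card_pos.1 (show 0 < S.card by omega)
  refine ⟨c₀ k₀ * c₁ k₀ * c₂ k₀, x k₀, hor k₀ hk₀, fun k hk => ?_⟩
  have e0 := hw k₀ hk₀
  have e := hw k hk
  have p0 := hx k₀ hk₀
  have p := hx k hk
  rcases hor k₀ hk₀ with w0 | w0 <;> rcases hor k hk with w | w <;> rw [w0] at e0 <;> rw [w] at e <;>
    rw [w0, w] <;> constructor <;> linarith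

variable {G : Type u} [Group G] [Finite G]

namespace Ctx

variable {t a : G} {V : Subgroup G} (h : Ctx t a V)
include h

/-- The coefficient of a linear character, as an integer. -/
noncomputable def nz (χ : Cfsg.IrrCharacter G) (φ : ↥(coreC t) →* ℂˣ) : ℤ :=
  (h.nu_int χ (linChar φ)).choose

theorem nz_eq (χ : Cfsg.IrrCharacter G) (φ : ↥(coreC t) →* ℂˣ) :
    nu t χ (linChar φ) = (h.nz χ φ : ℂ) := (h.nu_int χ (linChar φ)).choose_spec

theorem nz_cases {χ : Cfsg.IrrCharacter G} {φ : ↥(coreC t) →* ℂˣ} (hne : h.nz χ φ ≠ 0) :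
    h.nz χ φ = 1 ∨ h.nz χ φ = -1 := by
  rcases h.nu_cases χ (linChar φ) with e | e | e <;> rw [h.nz_eq] at e
  · exact absurd (by exact_mod_cast e) hne
  · exact Or.inl (by exact_mod_cast e)
  · exact Or.inr (by exact_mod_cast e)

theorem map_conj_a {φ : ↥(coreC t) →* ℂˣ} (hI : ∀ i ∈ invSet t a, φ i = 1) {o o' : ↥(coreC t)}
    (ho : (o' : G) = a * o * a⁻¹) : φ o' = φ o := by
  have hy : o⁻¹ * o' ∈ invSet t a := by
    rw [mem_invSet, Subgroup.coe_mul, Subgroup.coe_inv, ho]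
    exact h.conj_quot _
  have := hI _ hy
  rw [map_mul, map_inv, inv_mul_eq_one] at this
  exact this.symm

theorem twist_linChar {φ : ↥(coreC t) →* ℂˣ} (hI : ∀ i ∈ invSet t a, φ i = 1) (v : ↥V) :
    h.twist v (linChar φ) = linChar φ := by
  refine Subtype.ext (funext fun o => ?_)
  show (φ (h.conjO ⟨v, h.four_le v.2⟩ o) : ℂ) = φ o
  congr 1
  by_cases hv1 : (v : G) = 1
  · exact congrArg φ (Subtype.ext (by rw [h.coe_conjO]; simp [hv1]))
  by_cases hvt : (v : G) = t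
  · refine congrArg φ (Subtype.ext ?_)
    rw [h.coe_conjO]
    simp only [hvt]
    rw [← h.core_comm o.2, mul_inv_cancel_right]
  exact h.map_conj_a hI (by rw [h.coe_conjO]; exact h.conj_eq v.2 hv1 hvt o.2)

theorem sum_nz_sq [Fintype (Cfsg.IrrCharacter G)] {φ : ↥(coreC t) →* ℂˣ}
    (hI : ∀ i ∈ invSet t a, φ i = 1) : ∑ χ, h.nz χ φ * h.nz χ φ = 4 := by
  have := h.sum_nu_mul (linChar φ) (linChar φ)
  simp only [h.nz_eq] at this
  rw [Nat.card_congr (Equiv.subtypeUnivEquiv fun v => h.twist_linChar hI v), h.four.1] at this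
  exact_mod_cast this

theorem sum_nz_mul [Fintype (Cfsg.IrrCharacter G)] {φ φ' : ↥(coreC t) →* ℂˣ}
    (hI : ∀ i ∈ invSet t a, φ' i = 1) (hne : φ ≠ φ') : ∑ χ, h.nz χ φ * h.nz χ φ' = 0 := by
  have := h.sum_nu_mul (linChar φ) (linChar φ')
  simp only [h.nz_eq] at this
  rw [Nat.card_eq_zero.2 (Or.inl ⟨fun v => hne (linChar_injective
    ((h.twist_linChar hI v.1).symm.trans v.2).symm)⟩)] at this
  exact_mod_cast this

/-- The support of an invariant linear character has four members. -/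
theorem card_support [Fintype (Cfsg.IrrCharacter G)] {φ : ↥(coreC t) →* ℂˣ}
    (hI : ∀ i ∈ invSet t a, φ i = 1) :
    (Finset.univ.filter fun χ => h.nz χ φ ≠ 0).card = 4 := by
  have h1 := h.sum_nz_sq hI
  rw [← Finset.sum_filter_add_sum_filter_not Finset.univ (fun χ => h.nz χ φ ≠ 0),
    Finset.sum_congr rfl (s₁ := Finset.univ.filter fun χ => h.nz χ φ ≠ 0) (g := fun _ => (1 : ℤ))
      fun χ hχ => by rcases h.nz_cases (Finset.mem_filter.1 hχ).2 with e | e <;> rw [e] <;> norm_num,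
    Finset.sum_eq_zero (s := Finset.univ.filter fun χ => ¬ h.nz χ φ ≠ 0) fun χ hχ => by
      rw [not_not.1 (Finset.mem_filter.1 hχ).2, mul_zero],
    add_zero, Finset.sum_const, nsmul_eq_mul, mul_one] at h1
  exact_mod_cast h1

/-- On the section a character in the support is a combination of the linear characters. -/
theorem section_eq (Φ : Finset (↥(coreC t) →* ℂˣ))
    (hfus : ∀ o o' : ↥(coreC t), IsConj (o : G) o' →
      ∑ φ ∈ Φ, conj (φ o : ℂ) = ∑ φ ∈ Φ, conj (φ o' : ℂ))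
    {χ : Cfsg.IrrCharacter G} {φ₀ : ↥(coreC t) →* ℂˣ} (hφ : φ₀ ∈ Φ) (hn : h.nz χ φ₀ ≠ 0) :
    (∀ η : Cfsg.IrrCharacter ↥(coreC t), (η : ↥(coreC t) → ℂ) 1 ≠ 1 → nu t χ η = 0) ∧
      ∀ o : ↥(coreC t), (χ : G → ℂ) (t * o) = ∑ φ ∈ Φ, (h.nz χ φ : ℂ) * (φ o : ℂ) := by
  classical
  letI := Fintype.ofFinite (Cfsg.IrrCharacter ↥(coreC t))
  have hsep := fun η hη => h.nu_eq_zero_of_separated Φ hfus hφ
    (by rw [h.nz_eq]; exact Int.cast_ne_zero.2 hn) (η := η) hη
  refine ⟨fun η hη => hsep η fun φ _ e => hη (by rw [← e, linChar_apply, map_one, Units.val_one]), fun o => ?_⟩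
  rw [h.apply_tmul, ← Finset.sum_subset (Finset.subset_univ (Φ.image linChar)) fun η _ hη => by
    rw [hsep η fun φ hφ' e => hη (Finset.mem_image.2 ⟨φ, hφ', e⟩), zero_mul],
    Finset.sum_image (linChar_injective.injOn)]
  exact Finset.sum_congr rfl fun φ _ => by rw [h.nz_eq, linChar_apply]

theorem section_val (Φ : Finset (↥(coreC t) →* ℂˣ))
    (hfus : ∀ o o' : ↥(coreC t), IsConj (o : G) o' →
      ∑ φ ∈ Φ, conj (φ o : ℂ) = ∑ φ ∈ Φ, conj (φ o' : ℂ))
    {χ : Cfsg.IrrCharacter G} {φ₀ : ↥(coreC t) →* ℂˣ} (hφ : φ₀ ∈ Φ) (hn : h.nz χ φ₀ ≠ 0) :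
    (χ : G → ℂ) t = ((∑ φ ∈ Φ, h.nz χ φ : ℤ) : ℂ) := by
  have := (h.section_eq Φ hfus hφ hn).2 1
  rw [Subgroup.coe_one, mul_one] at this
  rw [this]
  push_cast
  exact Finset.sum_congr rfl fun φ _ => by rw [map_one, Units.val_one, mul_one]

theorem nz_oneChar {φ : ↥(coreC t) →* ℂˣ} :
    (φ = 1 → h.nz (oneChar G) φ = 1) ∧ (φ ≠ 1 → h.nz (oneChar G) φ = 0) := by
  letI := Fintype.ofFinite ↥(coreC t)
  have e : nu t (oneChar G) (linChar φ) =
      Cfsg.classInner (linChar (1 : ↥(coreC t) →* ℂˣ) : ↥(coreC t) → ℂ) (linChar φ) := by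
    simp [nu, Cfsg.classInner, oneChar_apply, linChar_apply]
  constructor
  · rintro rfl
    rw [classInner_self_irr, h.nz_eq] at e
    exact_mod_cast e
  · intro hne
    rw [classInner_irr_of_ne (fun e' => hne (linChar_injective e').symm), h.nz_eq] at e
    exact_mod_cast e

/-- A faithful character with only linear constituents on the section has large degree. -/
theorem degree_ge (hnc : ∃ x ∈ coreC t, ∃ y ∈ coreC t, x * y ≠ y * x) {χ : Cfsg.IrrCharacter G}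
    (hχ : χ ≠ oneChar G)
    (hlin : ∀ η : Cfsg.IrrCharacter ↥(coreC t), (η : ↥(coreC t) → ℂ) 1 ≠ 1 → nu t χ η = 0)
    {c : ℤ} (hc : (χ : G → ℂ) t = c) {x : ℕ} (hx : (χ : G → ℂ) 1 = x) : c.natAbs + 6 ≤ x := by
  classical
  haveI := h.hyp.simple
  letI := Fintype.ofFinite G
  letI := Fintype.ofFinite ↥(coreC t)
  letI := Fintype.ofFinite (Cfsg.IrrCharacter ↥(coreC t))
  choose A B hAB hnu using fun η => mult_split h.t_sq (fun o (ho : o ∈ coreC t) => h.core_comm ho) χ η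
  choose d hd0 hdd hdeg using fun η : Cfsg.IrrCharacter ↥(coreC t) => Characters.Degree.exists_degree_dvd η
  have hres : ∀ o : ↥(coreC t), (χ : G → ℂ) o = ∑ η, ((A η : ℂ) + B η) * (η : ↥(coreC t) → ℂ) o := fun o => by
    have := congrFun (classFunction_eq_sum (θ := fun k : ↥(coreC t) => (χ : G → ℂ) k)
      (fun k p => by simpa using isClassFunction_irr χ (k : G) (p : G))) o
    simpa [hAB, Finset.sum_apply] using this
  have hsec : (c : ℂ) = ∑ η, ((A η : ℂ) - B η) * d η := by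
    have := h.apply_tmul χ 1
    rw [Subgroup.coe_one, mul_one, hc] at this
    rw [this]
    refine Finset.sum_congr rfl fun η _ => ?_
    rw [hdeg, show nu t χ η = (A η : ℂ) - B η from hnu η]
  have hx' : (x : ℂ) = ∑ η, ((A η : ℂ) + B η) * d η := by
    have := hres 1
    rw [Subgroup.coe_one, hx] at this
    rw [this]
    exact Finset.sum_congr rfl fun η _ => by rw [hdeg]
  -- a constituent that is not linear
  obtain ⟨η₀, hη₀, hpos⟩ : ∃ η₀, d η₀ ≠ 1 ∧ A η₀ + B η₀ ≠ 0 := by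
    by_contra hno
    push Not at hno
    obtain ⟨g, hg⟩ : ∃ g, (χ : G → ℂ) g ≠ (χ : G → ℂ) 1 := by
      by_contra hall
      push Not at hall
      have := classInner_irr_of_ne hχ
      simp only [Cfsg.classInner, oneChar_apply, map_one, mul_one, hall, Finset.sum_const,
        Finset.card_univ, nsmul_eq_mul] at this
      rcases mul_eq_zero.1 this with e | e
      · exact inv_ne_zero (Nat.cast_ne_zero.2 Nat.card_pos.ne') e
      · rcases mul_eq_zero.1 e with e | e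
        · exact Fintype.card_ne_zero (Nat.cast_eq_zero.1 e)
        · exact apply_one_ne_zero χ e
    obtain ⟨p, hp, q, hq, hpq⟩ := hnc
    set p' : ↥(coreC t) := ⟨p, hp⟩
    set q' : ↥(coreC t) := ⟨q, hq⟩
    have hval : (χ : G → ℂ) ((p' * q' * p'⁻¹ * q'⁻¹ : ↥(coreC t)) : G) = (χ : G → ℂ) 1 := by
      rw [hres, ← Subgroup.coe_one (coreC t), hres]
      refine Finset.sum_congr rfl fun η _ => ?_
      by_cases hη : d η = 1
      · congr 1
        have h1 : (η : ↥(coreC t) → ℂ) 1 = 1 := by rw [hdeg, hη, Nat.cast_one]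
        have hm := apply_mul_of_degree_one (isCharacter_irr η) h1
        rw [hm, hm, hm, mul_right_comm ((η : ↥(coreC t) → ℂ) p') _ ((η : ↥(coreC t) → ℂ) p'⁻¹), ← hm,
          mul_inv_cancel, h1, one_mul, ← hm, mul_inv_cancel, h1]
      · have h0 := hno η hη
        rw [← Nat.cast_add, h0, Nat.cast_zero, zero_mul, zero_mul]
    have hbot : ((p' * q' * p'⁻¹ * q'⁻¹ : ↥(coreC t)) : G) ∈ charKer (isCharacter_irr χ) :=
      (mem_charKer _ _).2 hval
    rw [charKer_eq_bot_of_simple (isCharacter_irr χ) hg, Subgroup.mem_bot] at hbot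
    refine hpq ?_
    simp only [Subgroup.coe_mul, Subgroup.coe_inv, p', q'] at hbot
    calc p * q = p * q * p⁻¹ * q⁻¹ * (q * p) := by group
      _ = q * p := by rw [hbot, one_mul]
  have hA : A η₀ = B η₀ := by
    have := hlin η₀ (by rw [hdeg]; exact_mod_cast hη₀)
    rw [show nu t χ η₀ = (A η₀ : ℂ) - B η₀ from hnu η₀, sub_eq_zero] at this
    exact_mod_cast this
  have h3 : 3 ≤ d η₀ := by
    obtain ⟨k, hk⟩ := Odd.of_dvd_nat (coreC_odd t) (hdd η₀)
    omega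
  have hminus : (x : ℤ) - c = ∑ η, 2 * ((B η : ℤ) * d η) := by
    have : ((x : ℂ) - c) = ∑ η, 2 * ((B η : ℂ) * d η) := by
      rw [hx', hsec, ← Finset.sum_sub_distrib]
      exact Finset.sum_congr rfl fun η _ => by ring
    exact_mod_cast this
  have hplus : (x : ℤ) + c = ∑ η, 2 * ((A η : ℤ) * d η) := by
    have : ((x : ℂ) + c) = ∑ η, 2 * ((A η : ℂ) * d η) := by
      rw [hx', hsec, ← Finset.sum_add_distrib]
      exact Finset.sum_congr rfl fun η _ => by ring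
    exact_mod_cast this
  have g1 := Finset.single_le_sum (f := fun η => 2 * ((B η : ℤ) * d η)) (fun η _ => by positivity)
    (Finset.mem_univ η₀)
  have g2 := Finset.single_le_sum (f := fun η => 2 * ((A η : ℤ) * d η)) (fun η _ => by positivity)
    (Finset.mem_univ η₀)
  have hB1 : 1 ≤ B η₀ := by omega
  have h6 : 3 ≤ B η₀ * d η₀ := le_trans h3 (Nat.le_mul_of_pos_left _ hB1)
  have h6' : (3 : ℤ) ≤ (B η₀ : ℤ) * d η₀ := by exact_mod_cast h6
  simp only [hA] at g2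
  omega

theorem four_dvd {χ : Cfsg.IrrCharacter G} {c : ℤ} (hc : (χ : G → ℂ) t = c) {x : ℕ}
    (hx : (χ : G → ℂ) 1 = x) : (4 : ℤ) ∣ (x : ℤ) + 3 * c := by
  classical
  letI := Fintype.ofFinite G
  letI := Fintype.ofFinite ↥V
  obtain ⟨n, hn⟩ := H80.ClassMult.exists_sum_subgroup χ V
  rw [← Finset.add_sum_erase _ _ (Finset.mem_univ (1 : ↥V)), Finset.sum_congr rfl fun (v : ↥V) hv =>
    show (χ : G → ℂ) v = (c : ℂ) by
      have hv1 : (v : G) ≠ 1 := fun e => (Finset.mem_erase.1 hv).1 (Subtype.ext e)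
      rw [← hc]
      exact classFunction_apply_of_isConj (isClassFunction_irr χ)
        (h.hyp.isConj (h.four.orderOf_eq v.2 hv1) h.t_two),
    Finset.sum_const, Finset.card_erase_of_mem (Finset.mem_univ _), Finset.card_univ,
    ← Nat.card_eq_fintype_card, h.four.1, Subgroup.coe_one, hx] at hn
  refine ⟨n, ?_⟩
  have : (x : ℂ) + 3 * c = 4 * n := by
    norm_num at hn
    linear_combination hn
  exact_mod_cast this

/-- The weighted count, for the support. -/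
theorem count_rat [Fintype (Cfsg.IrrCharacter G)] {φ : ↥(coreC t) →* ℂˣ}
    (hI : ∀ i ∈ invSet t a, φ i = 1) (s : Cfsg.IrrCharacter G → ℤ) (x : Cfsg.IrrCharacter G → ℕ)
    (hs : ∀ χ : Cfsg.IrrCharacter G, h.nz χ φ ≠ 0 → (χ : G → ℂ) t = s χ)
    (hx : ∀ χ : Cfsg.IrrCharacter G, (χ : G → ℂ) 1 = x χ) :
    (Nat.card G : ℚ) * (Nat.card ↥(coreV V) : ℚ) ^ 2 *
      ∑ χ ∈ Finset.univ.filter (fun χ => h.nz χ φ ≠ 0), (h.nz χ φ : ℚ) * (s χ : ℚ) ^ 2 / (x χ : ℚ) =
      32 * (Nat.card ↥(coreC t) : ℚ) ^ 3 := by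
  have h1 := h.count φ hI
  rw [← Finset.sum_subset (Finset.subset_univ (Finset.univ.filter fun χ => h.nz χ φ ≠ 0)) fun χ _ hχ => by
    rw [h.nz_eq, not_not.1 fun hne => hχ (Finset.mem_filter.2 ⟨Finset.mem_univ _, hne⟩)]; simp,
    Finset.sum_congr rfl fun χ hχ => show nu t χ (linChar φ) * (χ : G → ℂ) t ^ 2 / (χ : G → ℂ) 1 =
      (((h.nz χ φ : ℚ) * (s χ : ℚ) ^ 2 / (x χ : ℚ) : ℚ) : ℂ) by
      rw [h.nz_eq, hs χ (Finset.mem_filter.1 hχ).2, hx]; push_cast; ring] at h1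
  exact_mod_cast h1

theorem sum_degree_nz [Fintype (Cfsg.IrrCharacter G)] (φ : ↥(coreC t) →* ℂˣ)
    (x : Cfsg.IrrCharacter G → ℕ) (hx : ∀ χ : Cfsg.IrrCharacter G, (χ : G → ℂ) 1 = x χ) :
    ∑ χ ∈ Finset.univ.filter (fun χ => h.nz χ φ ≠ 0), h.nz χ φ * (x χ : ℤ) = 0 := by
  rw [Finset.sum_filter_of_ne (p := fun χ => h.nz χ φ ≠ 0) fun χ _ hne e => hne (by rw [e, zero_mul])]
  have h1 := h.sum_degree_mul_nu (linChar φ)
  have h2 : ((∑ χ, h.nz χ φ * (x χ : ℤ) : ℤ) : ℂ) = 0 := by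
    rw [← h1]
    push_cast
    exact Finset.sum_congr rfl fun χ _ => by rw [hx, h.nz_eq, mul_comm]
  exact_mod_cast h2

/-- The bound from the principal character. -/
theorem bound (hnc : ∃ x ∈ coreC t, ∃ y ∈ coreC t, x * y ≠ y * x) :
    9 * Nat.card G * Nat.card ↥(coreV V) ^ 2 ≤ 364 * Nat.card ↥(coreC t) ^ 3 := by
  classical
  letI := Fintype.ofFinite (Cfsg.IrrCharacter G)
  choose x hx using fun χ : Cfsg.IrrCharacter G => exists_degree (isCharacter_irr χ)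
  have hI : ∀ i ∈ invSet t a, (1 : ↥(coreC t) →* ℂˣ) i = 1 := fun _ _ => rfl
  have hfus : ∀ o o' : ↥(coreC t), IsConj (o : G) o' →
      ∑ φ ∈ ({1} : Finset (↥(coreC t) →* ℂˣ)), conj (φ o : ℂ) =
        ∑ φ ∈ ({1} : Finset (↥(coreC t) →* ℂˣ)), conj (φ o' : ℂ) := fun o o' _ => by simp
  set S := Finset.univ.filter fun χ => h.nz χ 1 ≠ 0 with hS
  have hone : oneChar G ∈ S :=
    Finset.mem_filter.2 ⟨Finset.mem_univ _, by rw [h.nz_oneChar.1 rfl]; norm_num⟩
  have hx1 : x (oneChar G) = 1 := by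
    have := hx (oneChar G)
    rw [oneChar_apply] at this
    exact_mod_cast this.symm
  have hs : ∀ χ, h.nz χ 1 ≠ 0 → (χ : G → ℂ) t = (h.nz χ 1 : ℤ) := fun χ hne => by
    have := h.section_val {1} hfus (Finset.mem_singleton_self _) hne
    simpa using this
  have he : ∀ χ ∈ S.erase (oneChar G), h.nz χ 1 * (x χ : ℤ) ≤ -7 ∨ 9 ≤ h.nz χ 1 * (x χ : ℤ) := by
    intro χ hχ
    obtain ⟨hne, hχS⟩ := Finset.mem_erase.1 hχ
    have hn := (Finset.mem_filter.1 hχS).2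
    have h1 := h.degree_ge hnc hne (h.section_eq {1} hfus (Finset.mem_singleton_self _) hn).1 (hs χ hn) (hx χ)
    have h2 := h.four_dvd (hs χ hn) (hx χ)
    rcases h.nz_cases hn with e | e <;> rw [e] at h1 h2 ⊢ <;> omega
  have hcard : (S.erase (oneChar G)).card = 3 := by
    rw [Finset.card_erase_of_mem hone, h.card_support hI]
  obtain ⟨χ₁, χ₂, χ₃, h12, h13, h23, hset⟩ := Finset.card_eq_three.1 hcard
  have hdeg := h.sum_degree_nz 1 x hx
  rw [← hS, ← Finset.add_sum_erase _ _ hone, hset, h.nz_oneChar.1 rfl, hx1,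
    Finset.sum_insert (by simp [h12, h13]), Finset.sum_pair h23] at hdeg
  have hb := three_bound (he χ₁ (by simp [hset])) (he χ₂ (by simp [hset])) (he χ₃ (by simp [hset]))
    (by push_cast at hdeg; linarith)
  have hcnt := h.count_rat hI (fun χ => h.nz χ 1) x hs hx
  rw [← hS, ← Finset.add_sum_erase _ _ hone, hset, h.nz_oneChar.1 rfl, hx1,
    Finset.sum_insert (by simp [h12, h13]), Finset.sum_pair h23] at hcnt
  have hterm : ∀ χ ∈ S.erase (oneChar G),
      (h.nz χ 1 : ℚ) * (h.nz χ 1 : ℚ) ^ 2 / (x χ : ℚ) = 1 / ((h.nz χ 1 * (x χ : ℤ) : ℤ) : ℚ) := fun χ hχ => by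
    rcases h.nz_cases (Finset.mem_filter.1 (Finset.mem_erase.1 hχ).2).2 with e | e <;> rw [e] <;>
      push_cast <;> ring
  rw [hterm χ₁ (by simp [hset]), hterm χ₂ (by simp [hset]), hterm χ₃ (by simp [hset])] at hcnt
  push_cast at hcnt hb
  have hpos : (0 : ℚ) ≤ (Nat.card G : ℚ) * (Nat.card ↥(coreV V) : ℚ) ^ 2 := by positivity
  have := mul_le_mul_of_nonneg_left hb hpos
  have hfin : (9 : ℚ) * Nat.card G * (Nat.card ↥(coreV V) : ℚ) ^ 2 ≤ 364 * (Nat.card ↥(coreC t) : ℚ) ^ 3 := by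
    linarith
  exact_mod_cast hfin

/-! ## Linear characters -/

/-- A linear character of `O(C(t))` trivial on the inverted elements is given by its restriction. -/
theorem eq_of_restrict {φ φ' : ↥(coreC t) →* ℂˣ} (hI : ∀ i ∈ invSet t a, φ i = 1)
    (hI' : ∀ i ∈ invSet t a, φ' i = 1)
    (he : φ.comp (Subgroup.inclusion h.coreV_le_core) = φ'.comp (Subgroup.inclusion h.coreV_le_core)) :
    φ = φ' := by
  refine MonoidHom.ext fun o => ?_
  obtain ⟨i, hi, hd⟩ := h.exists_decomp o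
  have h1 : φ (o * i⁻¹) = φ' (o * i⁻¹) := DFunLike.congr_fun he ⟨_, hd⟩
  simpa [map_mul, map_inv, hI i hi, hI' i hi] using h1

/-- A character with `G`-fusion controlled by a rotation. -/
theorem fus_of_rot {ρ : G} (hρ : ρ ∈ Subgroup.normalizer (V : Set G)) (hρt : ρ * t * ρ⁻¹ = a)
    (Φ : Finset (↥(coreC t) →* ℂˣ)) (hI : ∀ φ ∈ Φ, ∀ i ∈ invSet t a, φ i = 1)
    (hf : ∀ x : ↥(coreV V), ∑ φ ∈ Φ, conj (φ ⟨ρ * x * ρ⁻¹, h.coreV_le_core (h.conj_coreV hρ x.2)⟩ : ℂ) =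
      ∑ φ ∈ Φ, conj (φ (Subgroup.inclusion h.coreV_le_core x) : ℂ)) :
    ∀ o o' : ↥(coreC t), IsConj (o : G) o' →
      ∑ φ ∈ Φ, conj (φ o : ℂ) = ∑ φ ∈ Φ, conj (φ o' : ℂ) := by
  classical
  let F : G → ℂ := fun g => if hg : g ∈ coreC t then ∑ φ ∈ Φ, conj (φ ⟨g, hg⟩ : ℂ) else 0
  have hF : ∀ o : ↥(coreC t), F o = ∑ φ ∈ Φ, conj (φ o : ℂ) := fun o => dif_pos o.2
  intro o o' hoo
  rw [← hF o, ← hF o']
  refine h.fusion hρ hρt F (fun p hp q hq => ?_) (fun q hq => ?_) (fun x hx => ?_) o o.2 o' o'.2 hoo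
  · rw [hF ⟨q, hq⟩, show p * q * p⁻¹ = ((⟨p, hp⟩ * ⟨q, hq⟩ * ⟨p, hp⟩⁻¹ : ↥(coreC t)) : G) from rfl, hF]
    refine Finset.sum_congr rfl fun φ _ => ?_
    rw [map_mul, map_mul, map_inv, mul_inv_cancel_comm]
  · rw [hF ⟨q, hq⟩, show a * q * a⁻¹ = ((⟨_, h.conj_mem (h.four_le h.a_mem) hq⟩ : ↥(coreC t)) : G) from rfl, hF]
    exact Finset.sum_congr rfl fun φ hφ => by rw [h.map_conj_a (hI φ hφ) (o := ⟨q, hq⟩) rfl]
  · rw [show F (ρ * x * ρ⁻¹) = _ from hF ⟨_, h.coreV_le_core (h.conj_coreV hρ hx)⟩,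
      show F x = _ from hF ⟨x, h.coreV_le_core hx⟩]
    exact hf ⟨x, hx⟩

/-- A character invariant under the rotation is principal. -/
theorem false_of_stable (hnc : ∃ x ∈ coreC t, ∃ y ∈ coreC t, x * y ≠ y * x)
    {φ : ↥(coreC t) →* ℂˣ} (hI : ∀ i ∈ invSet t a, φ i = 1) (hne : φ ≠ 1)
    {ρ : G} (hρ : ρ ∈ Subgroup.normalizer (V : Set G)) (hρt : ρ * t * ρ⁻¹ = a)
    (hst : ∀ x : ↥(coreV V), φ ⟨ρ * x * ρ⁻¹, h.coreV_le_core (h.conj_coreV hρ x.2)⟩ =
      φ (Subgroup.inclusion h.coreV_le_core x)) : False := by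
  classical
  letI := Fintype.ofFinite (Cfsg.IrrCharacter G)
  choose x hx using fun χ : Cfsg.IrrCharacter G => exists_degree (isCharacter_irr χ)
  have hfus := h.fus_of_rot hρ hρt {φ} (by simpa using hI) (fun y => by simp [hst y])
  set S := Finset.univ.filter fun χ => h.nz χ φ ≠ 0 with hS
  have hs : ∀ χ, h.nz χ φ ≠ 0 → (χ : G → ℂ) t = (h.nz χ φ : ℤ) := fun χ hn => by
    have := h.section_val {φ} hfus (Finset.mem_singleton_self _) hn
    simpa using this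
  have he : ∀ χ ∈ S, h.nz χ φ * (x χ : ℤ) ≤ -7 ∨ 9 ≤ h.nz χ φ * (x χ : ℤ) := by
    intro χ hχ
    have hn := (Finset.mem_filter.1 hχ).2
    have hne1 : χ ≠ oneChar G := fun e => hn (by rw [e, h.nz_oneChar.2 hne])
    have h1 := h.degree_ge hnc hne1 (h.section_eq {φ} hfus (Finset.mem_singleton_self _) hn).1 (hs χ hn) (hx χ)
    have h2 := h.four_dvd (hs χ hn) (hx χ)
    rcases h.nz_cases hn with e | e <;> rw [e] at h1 h2 ⊢ <;> omega
  have hdeg := h.sum_degree_nz φ x hx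
  rw [← hS] at hdeg
  obtain ⟨χ₀, hχ₀, hneg⟩ : ∃ χ₀ ∈ S, h.nz χ₀ φ * (x χ₀ : ℤ) ≤ -7 := by
    by_contra hall
    push Not at hall
    have hpos : 0 < ∑ χ ∈ S, h.nz χ φ * (x χ : ℤ) := Finset.sum_pos
      (fun χ hχ => by
        rcases he χ hχ with e | e
        · have := hall χ hχ; omega
        · omega)
      (Finset.card_pos.1 (by rw [h.card_support hI]; norm_num))
    omega
  have hcnt := h.count_rat hI (fun χ => h.nz χ φ) x hs hx
  have hterm : ∀ χ ∈ S,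
      (h.nz χ φ : ℚ) * (h.nz χ φ : ℚ) ^ 2 / (x χ : ℚ) = 1 / ((h.nz χ φ * (x χ : ℤ) : ℤ) : ℚ) := fun χ hχ => by
    rcases h.nz_cases (Finset.mem_filter.1 hχ).2 with e | e <;> rw [e] <;> push_cast <;> ring
  rw [← hS, Finset.sum_congr rfl hterm, ← Finset.add_sum_erase _ _ hχ₀] at hcnt
  have h0 : (1 : ℚ) / ((h.nz χ₀ φ * (x χ₀ : ℤ) : ℤ) : ℚ) ≤ 0 :=
    div_nonpos_of_nonneg_of_nonpos zero_le_one (by exact_mod_cast (by omega : h.nz χ₀ φ * (x χ₀ : ℤ) ≤ 0))
  have h3 : ∑ χ ∈ S.erase χ₀, (1 : ℚ) / ((h.nz χ φ * (x χ : ℤ) : ℤ) : ℚ) ≤ 3 * (1 / 9) := by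
    refine (Finset.sum_le_card_nsmul _ _ (1 / 9 : ℚ) fun χ hχ => ?_).trans ?_
    · rcases he χ (Finset.mem_of_mem_erase hχ) with e | e
      · exact (div_nonpos_of_nonneg_of_nonpos zero_le_one (by exact_mod_cast (by omega :
          h.nz χ φ * (x χ : ℤ) ≤ 0))).trans (by norm_num)
      · exact one_div_le_one_div_of_le (by norm_num) (by exact_mod_cast e)
    · rw [Finset.card_erase_of_mem hχ₀, h.card_support hI]; norm_num
  have hb : (9 : ℚ) * Nat.card G * (Nat.card ↥(coreV V) : ℚ) ^ 2 ≤ 364 * (Nat.card ↥(coreC t) : ℚ) ^ 3 := by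
    exact_mod_cast h.bound hnc
  have hm : (0 : ℚ) < (Nat.card ↥(coreC t) : ℚ) ^ 3 := by
    have := Nat.card_pos (α := ↥(coreC t))
    positivity
  have hgd : (0 : ℚ) ≤ (Nat.card G : ℚ) * (Nat.card ↥(coreV V) : ℚ) ^ 2 := by positivity
  have := mul_le_mul_of_nonneg_left (add_le_add h0 h3) hgd
  nlinarith

/-- Three characters permuted by the rotation are impossible. -/
theorem false_of_orbit (hnc : ∃ x ∈ coreC t, ∃ y ∈ coreC t, x * y ≠ y * x)
    (φ : Fin 3 → ↥(coreC t) →* ℂˣ) (hI : ∀ k, ∀ i ∈ invSet t a, φ k i = 1)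
    (hinj : Function.Injective φ) (hne : ∀ k, φ k ≠ 1)
    {ρ : G} (hρ : ρ ∈ Subgroup.normalizer (V : Set G)) (hρt : ρ * t * ρ⁻¹ = a)
    (hperm : ∀ k, ∀ x : ↥(coreV V), φ k ⟨ρ * x * ρ⁻¹, h.coreV_le_core (h.conj_coreV hρ x.2)⟩ =
      φ (k + 1) (Subgroup.inclusion h.coreV_le_core x)) : False := by
  classical
  letI := Fintype.ofFinite (Cfsg.IrrCharacter G)
  letI := Fintype.ofFinite ↥(coreV V)
  choose x hx using fun χ : Cfsg.IrrCharacter G => exists_degree (isCharacter_irr χ)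
  set Φ := Finset.univ.image φ with hΦ
  have hΦsum : ∀ f : (↥(coreC t) →* ℂˣ) → ℂ, ∑ ψ ∈ Φ, f ψ = ∑ k, f (φ k) := fun f =>
    Finset.sum_image hinj.injOn
  have hmem : ∀ k, φ k ∈ Φ := fun k => Finset.mem_image_of_mem φ (Finset.mem_univ k)
  have hfus := h.fus_of_rot hρ hρt Φ (fun ψ hψ => by
      obtain ⟨k, -, rfl⟩ := Finset.mem_image.1 hψ
      exact hI k) (fun y => by
      rw [hΦsum, hΦsum]
      simp only [hperm]
      exact Fintype.sum_equiv (Equiv.addRight 1) _ _ fun k => rfl)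
  let res : Fin 3 → ↥(coreV V) →* ℂˣ := fun k => (φ k).comp (Subgroup.inclusion h.coreV_le_core)
  have hres : Function.Injective res := fun i j e => hinj (h.eq_of_restrict (hI i) (hI j) e)
  -- the three coefficients have the same parity
  have hpar : ∀ χ k₀, h.nz χ (φ k₀) ≠ 0 → ∀ j, ∃ z : ℤ, h.nz χ (φ j) - h.nz χ (φ (j + 1)) = 2 * z := by
    intro χ k₀ hn j
    have hsec := (h.section_eq Φ hfus (hmem k₀) hn).2
    have hinner : ∀ (f : ↥(coreV V) → ℂ) (σ : Fin 3 → Fin 3), Function.Injective σ →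
        (∀ y, f y = ∑ k, (h.nz χ (φ k) : ℂ) * (res (σ k) y : ℂ)) →
        ∀ k, Cfsg.classInner f (linChar (res (σ k)) : ↥(coreV V) → ℂ) = h.nz χ (φ k) := by
      intro f σ hσ hf k
      have e : f = ∑ i, (h.nz χ (φ i) : ℂ) • (linChar (res (σ i)) : ↥(coreV V) → ℂ) := by
        funext y
        rw [hf, Finset.sum_apply]
        exact Finset.sum_congr rfl fun i _ => rfl
      rw [e, classInner_sum_left, Finset.sum_eq_single k, classInner_smul_left, classInner_self_irr, mul_one]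
      · intro i _ hik
        rw [classInner_smul_left, classInner_irr_of_ne (fun e' => hik (hσ (hres (linChar_injective e')))),
          mul_zero]
      · exact fun hh => absurd (Finset.mem_univ k) hh
    have hρ' : ρ⁻¹ ∈ Subgroup.normalizer (V : Set G) := inv_mem hρ
    have hat : ∀ y : ↥(coreV V), (χ : G → ℂ) (a * y) =
        ∑ k, (h.nz χ (φ k) : ℂ) * (res (k - 1) y : ℂ) := by
      intro y
      have hy : ρ⁻¹ * (y : G) * ρ ∈ coreV V := by simpa using h.conj_coreV hρ' y.2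
      rw [show (χ : G → ℂ) (a * y) = (χ : G → ℂ) (t * (ρ⁻¹ * (y : G) * ρ)) from
        (classFunction_apply_of_isConj (isClassFunction_irr χ) (isConj_iff.2 ⟨ρ, by rw [← hρt]; group⟩)).symm,
        show ρ⁻¹ * (y : G) * ρ = ((⟨_, h.coreV_le_core hy⟩ : ↥(coreC t)) : G) from rfl, hsec,
        hΦsum fun ψ => (h.nz χ ψ : ℂ) * (ψ ⟨_, h.coreV_le_core hy⟩ : ℂ)]
      refine Finset.sum_congr rfl fun k _ => ?_
      have := hperm (k - 1) ⟨_, hy⟩
      simp only [sub_add_cancel] at this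
      rw [show res (k - 1) y = φ k ⟨_, h.coreV_le_core hy⟩ from ?_]
      refine Eq.trans (congrArg (φ (k - 1)) (Subtype.ext ?_)) this
      show (y : G) = ρ * (ρ⁻¹ * y * ρ) * ρ⁻¹
      group
    have htt : ∀ y : ↥(coreV V), (χ : G → ℂ) (t * y) = ∑ k, (h.nz χ (φ k) : ℂ) * (res (id k) y : ℂ) :=
      fun y => by
        rw [show (y : G) = ((Subgroup.inclusion h.coreV_le_core y : ↥(coreC t)) : G) from rfl, hsec, hΦsum]
        rfl
    obtain ⟨A, B, h1, h2⟩ := mult_split h.t_sq (fun k (hk : k ∈ coreV V) => (h.coreV_comm hk h.t_mem).symm)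
      χ (linChar (res j))
    obtain ⟨A', B', h1', h2'⟩ := mult_split h.a_sq (fun k (hk : k ∈ coreV V) => (h.coreV_comm hk h.a_mem).symm)
      χ (linChar (res j))
    have h0 := hinner _ id Function.injective_id htt j
    simp only [id_eq] at h0
    rw [h0] at h2
    have h3 := hinner _ (fun k => k - 1) (sub_left_injective) hat (j + 1)
    simp only [add_sub_cancel_right] at h3
    rw [h3] at h2'
    have e2 : h.nz χ (φ j) = (A : ℤ) - B := by exact_mod_cast h2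
    have e2' : h.nz χ (φ (j + 1)) = (A' : ℤ) - B' := by exact_mod_cast h2'
    have e1 : (A : ℤ) + B = A' + B' := by exact_mod_cast h1.symm.trans h1'
    exact ⟨(A : ℤ) - A', by omega⟩
  have hall : ∀ χ k₀, h.nz χ (φ k₀) ≠ 0 → ∀ k, h.nz χ (φ k) ≠ 0 := by
    intro χ k₀ hn k
    obtain ⟨z₀, e₀⟩ := hpar χ k₀ hn 0
    obtain ⟨z₁, e₁⟩ := hpar χ k₀ hn 1
    rw [show (1 : Fin 3) + 1 = 2 from rfl] at e₁
    rw [zero_add] at e₀
    have := h.nz_cases hn
    have h3 : ∀ k : Fin 3, k = 0 ∨ k = 1 ∨ k = 2 := by decide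
    rcases h3 k₀ with rfl | rfl | rfl <;> rcases h3 k with rfl | rfl | rfl <;> omega
  set S := Finset.univ.filter fun χ => h.nz χ (φ 0) ≠ 0 with hS
  have hSk : ∀ k, (Finset.univ.filter fun χ => h.nz χ (φ k) ≠ 0) = S := fun k =>
    Finset.filter_congr fun χ _ => ⟨fun hn => hall χ k hn 0, fun hn => hall χ 0 hn k⟩
  have hcase : ∀ k, ∀ χ ∈ S, h.nz χ (φ k) = 1 ∨ h.nz χ (φ k) = -1 := fun k χ hχ =>
    h.nz_cases (hall χ 0 (Finset.mem_filter.1 hχ).2 k)
  have horth : ∀ i j, i ≠ j → ∑ χ ∈ S, h.nz χ (φ i) * h.nz χ (φ j) = 0 := fun i j hij => by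
    rw [← hSk i, Finset.sum_filter_of_ne (p := fun χ => h.nz χ (φ i) ≠ 0) fun χ _ hn e => hn (by rw [e, zero_mul])]
    exact h.sum_nz_mul (hI j) (hinj.ne hij)
  have hdeg : ∀ k, ∑ χ ∈ S, h.nz χ (φ k) * (x χ : ℤ) = 0 := fun k => hSk k ▸ h.sum_degree_nz (φ k) x hx
  have hxpos : ∀ χ : Cfsg.IrrCharacter G, 0 < (x χ : ℤ) := fun χ => by
    have := apply_one_ne_zero χ
    rw [hx, Nat.cast_ne_zero] at this
    omega
  obtain ⟨δ, X, hδ, hX⟩ := hadamard S (h.card_support (hI 0)) (fun χ => h.nz χ (φ 0)) (fun χ => h.nz χ (φ 1))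
    (fun χ => h.nz χ (φ 2)) (fun χ => (x χ : ℤ)) (hcase 0) (hcase 1) (hcase 2)
    (horth 0 1 (by decide)) (horth 0 2 (by decide)) (horth 1 2 (by decide)) (fun χ _ => hxpos χ)
    (hdeg 0) (hdeg 1) (hdeg 2)
  set s : Cfsg.IrrCharacter G → ℤ := fun χ => ∑ k, h.nz χ (φ k) with hs
  have hval : ∀ χ ∈ S, (χ : G → ℂ) t = (s χ : ℤ) := fun χ hχ => by
    rw [h.section_val Φ hfus (hmem 0) (Finset.mem_filter.1 hχ).2, hs]
    push_cast
    exact hΦsum _
  have hcube : ∀ χ ∈ S, s χ * s χ ^ 2 = 7 * s χ + 6 * δ := fun χ hχ => by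
    simp only [hs, Fin.sum_univ_three, ← (hX χ hχ).2]
    rcases hcase 0 χ hχ with a | a <;> rcases hcase 1 χ hχ with b | b <;> rcases hcase 2 χ hχ with c | c <;>
      simp [a, b, c]
  have hssum : ∑ χ ∈ S, s χ = 0 := by
    obtain ⟨χ₀, hχ₀⟩ := Finset.card_pos.1 (show 0 < S.card by rw [h.card_support (hI 0)]; norm_num)
    have hX0 : X ≠ 0 := by rw [← (hX χ₀ hχ₀).1]; exact (hxpos χ₀).ne'
    have h1 : ∑ χ ∈ S, s χ * X = 0 := by
      calc ∑ χ ∈ S, s χ * X = ∑ k, ∑ χ ∈ S, h.nz χ (φ k) * (x χ : ℤ) := by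
            rw [Finset.sum_comm]
            exact Finset.sum_congr rfl fun χ hχ => by rw [hs, Finset.sum_mul, (hX χ hχ).1]
        _ = 0 := Finset.sum_eq_zero fun k _ => hdeg k
    rw [← Finset.sum_mul] at h1
    exact (mul_eq_zero.1 h1).resolve_right hX0
  -- the count
  have hcnt : ∀ k, (Nat.card G : ℚ) * (Nat.card ↥(coreV V) : ℚ) ^ 2 *
      ∑ χ ∈ S, (h.nz χ (φ k) : ℚ) * (s χ : ℚ) ^ 2 / (X : ℚ) = 32 * (Nat.card ↥(coreC t) : ℚ) ^ 3 := fun k => by
    rw [← h.count_rat (hI k) s x (fun χ hn => hval χ (hSk k ▸ Finset.mem_filter.2 ⟨Finset.mem_univ _, hn⟩)) hx,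
      hSk k]
    congr 1
    refine Finset.sum_congr rfl fun χ hχ => ?_
    have hxX : ((x χ : ℤ) : ℚ) = (X : ℚ) := by rw [(hX χ hχ).1]
    rw [← hxX]
    push_cast
    rfl
  have htot : (Nat.card G : ℚ) * (Nat.card ↥(coreV V) : ℚ) ^ 2 * (24 * δ / X) =
      96 * (Nat.card ↥(coreC t) : ℚ) ^ 3 := by
    have h3 := Finset.sum_congr rfl fun (k : Fin 3) (_ : k ∈ Finset.univ) => hcnt k
    rw [← Finset.mul_sum, Finset.sum_comm] at h3
    simp only [← Finset.sum_div, ← Finset.sum_mul] at h3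
    rw [Finset.sum_congr rfl fun χ hχ => show
      (∑ k, (h.nz χ (φ k) : ℚ)) * (s χ : ℚ) ^ 2 = ((7 * s χ + 6 * δ : ℤ) : ℚ) by
        rw [← hcube χ hχ, hs]; push_cast; ring, ← Int.cast_sum, Finset.sum_add_distrib, ← Finset.mul_sum,
      hssum, Finset.sum_const, h.card_support (hI 0), Finset.sum_const, Finset.card_univ, Fintype.card_fin]
      at h3
    norm_num at h3
    rw [Nat.card_eq_fintype_card (α := ↥(coreV V))]
    linear_combination h3
  have hb : (9 : ℚ) * Nat.card G * (Nat.card ↥(coreV V) : ℚ) ^ 2 ≤ 364 * (Nat.card ↥(coreC t) : ℚ) ^ 3 := by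
    exact_mod_cast h.bound hnc
  have hm : (0 : ℚ) < (Nat.card ↥(coreC t) : ℚ) ^ 3 := by
    have := Nat.card_pos (α := ↥(coreC t))
    positivity
  have hgd : (0 : ℚ) ≤ (Nat.card G : ℚ) * (Nat.card ↥(coreV V) : ℚ) ^ 2 := by positivity
  obtain ⟨χ₀, hχ₀⟩ := Finset.card_pos.1 (show 0 < S.card by rw [h.card_support (hI 0)]; norm_num)
  have hXpos : (0 : ℚ) < X := by
    rw [← (hX χ₀ hχ₀).1]
    exact_mod_cast hxpos χ₀
  rw [← mul_div_assoc, div_eq_iff hXpos.ne'] at htot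
  rcases hδ with rfl | rfl
  · push_cast at htot
    have hX10 : X ≤ 10 := by
      by_contra hX11
      have h11 : (11 : ℚ) ≤ X := by exact_mod_cast (by omega : (11 : ℤ) ≤ X)
      nlinarith [mul_le_mul_of_nonneg_right h11 hm.le]
    obtain ⟨χ, hχ, hsχ⟩ : ∃ χ ∈ S, s χ = 3 := by
      by_contra hno
      push Not at hno
      have h1 : ∀ χ ∈ S, s χ = -1 := fun χ hχ => by
        have hw := (hX χ hχ).2
        have := hno χ hχ
        simp only [hs, Fin.sum_univ_three] at this ⊢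
        rcases hcase 0 χ hχ with a | a <;> rcases hcase 1 χ hχ with b | b <;>
          rcases hcase 2 χ hχ with c | c <;> simp [a, b, c] at hw this ⊢
      rw [Finset.sum_congr rfl h1, Finset.sum_const, h.card_support (hI 0)] at hssum
      norm_num at hssum
    have hn := (Finset.mem_filter.1 hχ).2
    have hne1 : χ ≠ oneChar G := fun e => hn (by rw [e, h.nz_oneChar.2 (hne 0)])
    have hc := hval χ hχ
    rw [hsχ] at hc
    have h1 := h.degree_ge hnc hne1 (h.section_eq Φ hfus (hmem 0) hn).1 hc (hx χ)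
    have h2 := h.four_dvd hc (hx χ)
    have := (hX χ hχ).1
    omega
  · push_cast at htot
    nlinarith [mul_pos hm hXpos]

/-- A linear character of `O(C(t))` trivial on the inverted elements is trivial. -/
theorem linear_eq_one (hnc : ∃ x ∈ coreC t, ∃ y ∈ coreC t, x * y ≠ y * x)
    (hNC : ∀ r : ℕ, r.Prime → r ∣ Nat.card ↥(coreV V) → ∀ W H : Subgroup G, ¬ Conf r W H)
    (φ : ↥(coreC t) →* ℂˣ) (hI : ∀ i ∈ invSet t a, φ i = 1) : φ = 1 := by
  classical
  by_contra hne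
  -- a power of prime order
  wlog hp : (orderOf φ).Prime generalizing φ
  · have hfin : φ ^ Nat.card ↥(coreC t) = 1 := MonoidHom.ext fun o => by
      rw [MonoidHom.pow_apply, ← map_pow, pow_card_eq_one', map_one, MonoidHom.one_apply]
    have hord : IsOfFinOrder φ := isOfFinOrder_iff_pow_eq_one.2 ⟨_, Nat.card_pos, hfin⟩
    obtain ⟨q, hq, hqd⟩ := Nat.exists_prime_and_dvd (n := orderOf φ) fun e => hne (orderOf_eq_one_iff.1 e)
    have ho : orderOf (φ ^ (orderOf φ / q)) = q := by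
      rw [orderOf_pow_of_dvd (Nat.div_ne_zero_iff.2 ⟨hq.ne_zero, Nat.le_of_dvd hord.orderOf_pos hqd⟩)
        (Nat.div_dvd_of_dvd hqd), Nat.div_div_self hqd hord.orderOf_pos.ne']
    refine this _ (fun i hi => by rw [MonoidHom.pow_apply, hI i hi, one_pow]) (fun e => ?_) (ho ▸ hq)
    rw [e, orderOf_one] at ho
    exact hq.one_lt.ne ho
  set r := orderOf φ with hr
  haveI : Fact r.Prime := ⟨hp⟩
  set ι := Subgroup.inclusion h.coreV_le_core with hι
  set ψ := φ.comp ι with hψ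
  have hψr : ψ ^ r = 1 := MonoidHom.ext fun y => by
    rw [MonoidHom.pow_apply, hψ, MonoidHom.comp_apply, ← MonoidHom.pow_apply, hr, pow_orderOf_eq_one,
      MonoidHom.one_apply, MonoidHom.one_apply]
  have hψ1 : ψ ≠ 1 := fun e => hne (h.eq_of_restrict hI (fun _ _ => rfl) (by rw [← hψ, e]; rfl))
  have hrd : r ∣ Nat.card ↥(coreV V) := by
    obtain ⟨y, hy⟩ : ∃ y, ψ y ≠ 1 := by
      by_contra hall
      push Not at hall
      exact hψ1 (MonoidHom.ext hall)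
    rw [← orderOf_eq_prime (DFunLike.congr_fun hψr y) hy]
    exact (orderOf_map_dvd ψ y).trans (orderOf_dvd_natCard y)
  obtain ⟨P⟩ : Nonempty (Sylow r ↥(coreV V)) := inferInstance
  have hP : (P : Subgroup ↥(coreV V)) ≠ ⊥ := P.ne_bot_of_dvd_card hrd
  -- homomorphisms of exponent `r` are determined on `P`
  have hdet : ∀ f : ↥(coreV V) →* ℂˣ, f ^ r = 1 → (∀ y ∈ (P : Subgroup ↥(coreV V)), f y = 1) → f = 1 := by
    intro f hfr hf
    rw [← MonoidHom.ker_eq_top_iff]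
    by_contra hk
    have hPk : (P : Subgroup ↥(coreV V)) ≤ f.ker := fun y hy => hf y hy
    have hnd : ¬ r ∣ f.ker.index := fun hd => P.not_dvd_index (hd.trans (Subgroup.index_dvd_of_le hPk))
    rw [Subgroup.index_ker] at hnd
    obtain ⟨z, hz, hz1⟩ := f.range.bot_or_exists_ne_one.resolve_left
      (fun e => hk (by rwa [MonoidHom.ker_eq_top_iff, ← MonoidHom.range_eq_bot_iff]))
    obtain ⟨y, rfl⟩ := hz
    refine hnd ?_
    rw [← orderOf_eq_prime (DFunLike.congr_fun hfr y) hz1, ← Subgroup.orderOf_mk (f y) (MonoidHom.mem_range.2 ⟨y, rfl⟩)]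
    exact orderOf_dvd_natCard _
  let rot : ∀ n ∈ Subgroup.normalizer (V : Set G), ↥(coreV V) →* ↥(coreV V) := fun n hn =>
    { toFun := fun y => ⟨n * (y : G) * n⁻¹, h.conj_coreV hn y.2⟩
      map_one' := Subtype.ext (by simp)
      map_mul' := fun y z => Subtype.ext (by simp only [Subgroup.coe_mul]; group) }
  -- invariance on the elements fixing `t` and under a rotation
  have hinv : ∀ n₀ (hn₀ : n₀ ∈ Subgroup.normalizer (V : Set G)), n₀ * t * n₀⁻¹ = a →
      ψ.comp (rot n₀ hn₀) = ψ → ∀ n (hn : n ∈ Subgroup.normalizer (V : Set G)), ψ.comp (rot n hn) = ψ := by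
    intro n₀ hn₀ hn₀t hst n hn
    let f : G → ℂ := fun g => if hg : g ∈ coreV V then (ψ ⟨g, hg⟩ : ℂ) else 0
    have hf : ∀ y : ↥(coreV V), f y = (ψ y : ℂ) := fun y => dif_pos y.2
    refine MonoidHom.ext fun y => Units.ext ?_
    rw [MonoidHom.comp_apply, ← hf, ← hf]
    refine h.normalizer_invariant hn₀ hn₀t f (fun d hd z hz => ?_) (fun z hz => ?_) n hn y y.2
    · rw [show d * z * d⁻¹ = ((⟨d, hd⟩ * ⟨z, hz⟩ * ⟨d, hd⟩⁻¹ : ↥(coreV V)) : G) from rfl, hf]
      refine Eq.trans ?_ (hf ⟨z, hz⟩).symm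
      rw [map_mul, map_mul, map_inv, mul_inv_cancel_comm]
    · rw [show n₀ * z * n₀⁻¹ = ((rot n₀ hn₀ ⟨z, hz⟩ : ↥(coreV V)) : G) from rfl, hf]
      refine Eq.trans ?_ (hf ⟨z, hz⟩).symm
      exact congrArg Units.val (DFunLike.congr_fun hst ⟨z, hz⟩)
  obtain ⟨ρ, hρ, hρt⟩ := h.exists_rot
  set R := rot ρ hρ with hR
  by_cases hst : ψ.comp R = ψ
  · exact h.false_of_stable hnc hI hne hρ hρt fun y => DFunLike.congr_fun hst y
  -- the centralizer of `P` is not fused, so the inverted elements lie in the `r'`-core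
  have hfull : ¬ Nat.card (P : Subgroup ↥(coreV V)) * r ∣ Nat.card ↥(coreC t) := by
    intro hlt
    obtain ⟨n, hnC, hn, hnt⟩ := (h.fused_centralizer (hNC r hp hrd) P hP hlt).2.2 t h.t_mem h.t_ne_one a
      h.a_mem h.a_ne_one
    refine hst (hinv n hn hnt ?_ ρ hρ)
    rw [← div_eq_one]
    refine hdet _ ?_ fun y hy => ?_
    · refine MonoidHom.ext fun y => ?_
      rw [MonoidHom.pow_apply, MonoidHom.div_apply, div_pow, MonoidHom.comp_apply,
        ← MonoidHom.pow_apply, ← MonoidHom.pow_apply, hψr]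
      simp
    · rw [MonoidHom.div_apply, div_eq_one, MonoidHom.comp_apply]
      refine congrArg ψ (Subtype.ext ?_)
      show n * (y : G) * n⁻¹ = y
      rw [← Subgroup.mem_centralizer_iff.1 hnC (y : G) ⟨y, hy, rfl⟩, mul_inv_cancel_right]
  set N := Cfsg.pPrimeCore r ↥(coreC t) with hN
  have hIN : ∀ i ∈ invSet t a, i ∈ N := fun i hi => by
    obtain ⟨j, hj, hje⟩ := h.inv_mem_primeCore P hfull hi
    exact Subtype.ext hje ▸ hj
  have hext : ∀ f : ↥(coreV V) →* ℂˣ, f ^ r = 1 →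
      ∃ φ' : ↥(coreC t) →* ℂˣ, (∀ i ∈ invSet t a, φ' i = 1) ∧ φ'.comp ι = f := by
    intro f hfr
    set q := (QuotientGroup.mk' N).comp ι with hq
    have hsurj : Function.Surjective q := fun z => by
      obtain ⟨o, rfl⟩ := QuotientGroup.mk'_surjective N z
      obtain ⟨i, hi, hd⟩ := h.exists_decomp o
      refine ⟨⟨_, hd⟩, ?_⟩
      show QuotientGroup.mk' N (o * i⁻¹) = QuotientGroup.mk' N o
      rw [map_mul, map_inv, show QuotientGroup.mk' N i = 1 from (QuotientGroup.eq_one_iff i).2 (hIN i hi),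
        inv_one, mul_one]
    have hker : q.ker ≤ f.ker := fun y hy => by
      have hy' : ι y ∈ N := (QuotientGroup.eq_one_iff _).1 hy
      have h1 : orderOf y ∣ Nat.card N := by
        rw [← orderOf_injective ι (Subgroup.inclusion_injective _) y]
        exact Subgroup.orderOf_dvd_natCard N hy'
      refine orderOf_eq_one_iff.1 (Nat.eq_one_of_dvd_coprimes (Cores.pPrimeCore_coprime (G := ↥(coreC t)) r)
        ((orderOf_map_dvd f y).trans h1) (orderOf_dvd_of_pow_eq_one (DFunLike.congr_fun hfr y)))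
    refine ⟨((q.liftOfSurjective hsurj) ⟨f, hker⟩).comp (QuotientGroup.mk' N), fun i hi => ?_, ?_⟩
    · rw [MonoidHom.comp_apply, show QuotientGroup.mk' N i = 1 from (QuotientGroup.eq_one_iff i).2 (hIN i hi),
        map_one]
    · exact MonoidHom.liftOfRightInverse_comp q _ (Function.rightInverse_surjInv hsurj) ⟨f, hker⟩
  have hψ1r : (ψ.comp R) ^ r = 1 := MonoidHom.ext fun y => DFunLike.congr_fun hψr (R y)
  have hψ2r : ((ψ.comp R).comp R) ^ r = 1 := MonoidHom.ext fun y => DFunLike.congr_fun hψr (R (R y))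
  have hR3 : ((ψ.comp R).comp R).comp R = ψ := by
    obtain ⟨v, hv, d, hd, he⟩ := h.exists_mul_core (mul_mem (mul_mem hρ hρ) hρ) (by
      rw [show ρ * ρ * ρ * t * (ρ * ρ * ρ)⁻¹ = ρ * (ρ * (ρ * t * ρ⁻¹) * ρ⁻¹) * ρ⁻¹ by
        simp only [mul_inv_rev, mul_assoc], hρt, h.rot_a hρ hρt, h.rot_ta hρ hρt])
    refine MonoidHom.ext fun y => ?_
    have e : R (R (R y)) = ⟨d, hd⟩ * y * ⟨d, hd⟩⁻¹ := Subtype.ext (by
      show ρ * (ρ * (ρ * (y : G) * ρ⁻¹) * ρ⁻¹) * ρ⁻¹ = d * y * d⁻¹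
      rw [show ρ * (ρ * (ρ * (y : G) * ρ⁻¹) * ρ⁻¹) * ρ⁻¹ = (ρ * ρ * ρ) * y * (ρ * ρ * ρ)⁻¹ by
          simp only [mul_inv_rev, mul_assoc], he,
        show v * d * (y : G) * (v * d)⁻¹ = v * (d * y * d⁻¹) * v⁻¹ by group,
        h.coreV_comm (mul_mem (mul_mem hd y.2) (inv_mem hd)) hv, mul_inv_cancel_right])
    show ψ (R (R (R y))) = ψ y
    rw [e, map_mul, map_mul, map_inv, mul_inv_cancel_comm]
  obtain ⟨φ₁, hI₁, he₁⟩ := hext _ hψ1r
  obtain ⟨φ₂, hI₂, he₂⟩ := hext _ hψ2r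
  have hd1 : ψ.comp R ≠ ψ := hst
  have hd2 : (ψ.comp R).comp R ≠ ψ := fun e => hd1 ((congrArg (fun g => g.comp R) e).symm.trans hR3)
  have hd12 : (ψ.comp R).comp R ≠ ψ.comp R := fun e =>
    hd2 ((congrArg (fun g => g.comp R) e).symm.trans hR3)
  refine h.false_of_orbit hnc ![φ, φ₁, φ₂] ?_ ?_ ?_ hρ hρt ?_
  · intro k; fin_cases k <;> assumption
  · intro i j e
    have := congrArg (fun g => g.comp ι) e
    fin_cases i <;> fin_cases j <;> simp [← hψ, he₁, he₂] at this ⊢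
    all_goals first
      | exact absurd this hd1 | exact absurd this.symm hd1
      | exact absurd this hd2 | exact absurd this.symm hd2
      | exact absurd this hd12 | exact absurd this.symm hd12
  · intro k e
    have := congrArg (fun g => g.comp ι) e
    fin_cases k <;> simp [← hψ, he₁, he₂, MonoidHom.one_comp] at this
    · exact hψ1 this
    · refine hψ1 (?_ : ψ = 1)
      rw [← hR3, show ((ψ.comp R).comp R).comp R = (((ψ.comp R)).comp R).comp R from rfl, this]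
      simp [MonoidHom.one_comp]
    · refine hψ1 ?_
      rw [← hR3, this]
      simp [MonoidHom.one_comp]
  · intro k y
    fin_cases k
    · exact (DFunLike.congr_fun he₁ y).symm
    · exact (DFunLike.congr_fun he₁ (R y)).trans (DFunLike.congr_fun he₂ y).symm
    · exact (DFunLike.congr_fun he₂ (R y)).trans (DFunLike.congr_fun hR3 y)

end Ctx

end Cfsg.Agent.Lib.GorensteinWalter.Four
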